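import Cfsg.Prelude.Def_GeometricClasses
set_option linter.all false

/-!
# Subfield part of the reduction of subgroups of classical groups (helper914)

`P` normalised by `H`, `P` absolutely irreducible and realisable over a subfield `F₀`:
`H` lies in the subfield group, and invariant forms are rational up to a scalar.
-/

set_option autoImplicit false
set_option linter.unusedSectionVars false

namespace Cfsg.Agent.H914

open Cfsg Cfsg.Geo
open scoped MatrixGroups Matrix

variable {ι : Type} [Fintype ι] [DecidableEq ι] {F : Type*} [Field F]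

/-! ### Functionals to a subfield -/

theorem exists_functional (F₀ : Subfield F) {x : F} (hx : x ≠ 0) :
    ∃ l : F →+ F, (∀ a ∈ F₀, ∀ y, l (a * y) = a * l y) ∧ (∀ y, l y ∈ F₀) ∧ l x ≠ 0 := by
  have h := (Module.forall_dual_apply_eq_zero_iff F₀ x).not.mpr hx
  push Not at h
  obtain ⟨f, hf⟩ := h
  refine ⟨(F₀.subtype : F₀ →+* F).toAddMonoidHom.comp f.toAddMonoidHom, ?_, ?_, ?_⟩
  · intro a ha y
    have : f (a * y) = (⟨a, ha⟩ : F₀) * f y := by
      have := f.map_smul (⟨a, ha⟩ : F₀) y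
      simpa [Subfield.smul_def] using this
    simp [this]
  · intro y
    exact (f y).2
  · simpa using hf

theorem map_mul_left {F₀ : Subfield F} {l : F →+ F} (hl : ∀ a ∈ F₀, ∀ y, l (a * y) = a * l y)
    {A : Matrix ι ι F} (hA : ∀ i j, A i j ∈ F₀) (M : Matrix ι ι F) :
    (A * M).map l = A * M.map l := by
  ext i j
  simp only [Matrix.map_apply, Matrix.mul_apply, map_sum]
  exact Finset.sum_congr rfl fun k _ => hl _ (hA _ _) _

theorem map_mul_right {F₀ : Subfield F} {l : F →+ F} (hl : ∀ a ∈ F₀, ∀ y, l (a * y) = a * l y)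
    {A : Matrix ι ι F} (hA : ∀ i j, A i j ∈ F₀) (M : Matrix ι ι F) :
    (M * A).map l = M.map l * A := by
  ext i j
  simp only [Matrix.map_apply, Matrix.mul_apply, map_sum]
  refine Finset.sum_congr rfl fun k _ => ?_
  rw [mul_comm (M i k), hl _ (hA _ _), mul_comm]

/-! ### Membership in the subfield group -/

theorem mem_subfieldSubgroup_iff {F₀ : Subfield F} {P g : GL ι F} :
    g ∈ subfieldSubgroup F₀ P ↔
      ∃ c : F, c ≠ 0 ∧ ∀ i j, c * ((P⁻¹ * g * P : GL ι F) : Matrix ι ι F) i j ∈ F₀ := by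
  unfold subfieldSubgroup
  rw [Subgroup.mem_map]
  constructor
  · rintro ⟨x, hx, rfl⟩
    rw [Subgroup.mem_sup_of_normal_right] at hx
    obtain ⟨y, ⟨a, rfl⟩, z, hz, rfl⟩ := hx
    rw [mem_scalars_iff] at hz
    obtain ⟨c, hc⟩ := hz
    refine ⟨(c⁻¹ : Fˣ), (c⁻¹).ne_zero, fun i j => ?_⟩
    have h1 : P⁻¹ * (MulAut.conj P).toMonoidHom
        ((Matrix.GeneralLinearGroup.map (F₀.subtype : F₀ →+* F)) a * z) * P =
        (Matrix.GeneralLinearGroup.map (F₀.subtype : F₀ →+* F)) a * z := by
      simp [MulAut.conj_apply, mul_assoc]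
    rw [h1, Units.val_mul, hc]
    simp only [Matrix.mul_smul, Matrix.mul_one, Matrix.smul_apply, smul_eq_mul, ← mul_assoc,
      Units.inv_mul, one_mul]
    rw [Matrix.GeneralLinearGroup.map_apply]
    exact (a.1 i j).2
  · rintro ⟨c, hc0, hc⟩
    set M : Matrix ι ι F := ((P⁻¹ * g * P : GL ι F) : Matrix ι ι F) with hM
    let A : Matrix ι ι F₀ := fun i j => ⟨c * M i j, hc i j⟩
    have hA : (F₀.subtype : F₀ →+* F).mapMatrix A = c • M := by
      ext i j
      rfl
    have hdet : IsUnit A.det := by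
      rw [isUnit_iff_ne_zero]
      intro h0
      have h2 := RingHom.map_det (F₀.subtype : F₀ →+* F) A
      rw [h0, map_zero, hA, Matrix.det_smul] at h2
      have h3 : M.det ≠ 0 := by
        have : IsUnit M := ⟨P⁻¹ * g * P, rfl⟩
        exact ((Matrix.isUnit_iff_isUnit_det M).mp this).ne_zero
      exact (mul_ne_zero (pow_ne_zero _ hc0) h3) h2.symm
    let a : GL ι F₀ := Matrix.GeneralLinearGroup.mkOfDetNeZero A hdet.ne_zero
    refine ⟨P⁻¹ * g * P, ?_, by simp [MulAut.conj_apply, mul_assoc]⟩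
    rw [Subgroup.mem_sup_of_normal_right]
    refine ⟨Matrix.GeneralLinearGroup.map (F₀.subtype : F₀ →+* F) a, ⟨a, rfl⟩,
      Units.map (Matrix.scalar ι : F →+* Matrix ι ι F).toMonoidHom (Units.mk0 c hc0)⁻¹,
      ⟨_, rfl⟩, ?_⟩
    apply Units.ext
    have h4 : ((Matrix.GeneralLinearGroup.map (F₀.subtype : F₀ →+* F) a : GL ι F) :
        Matrix ι ι F) = c • M := by
      rw [← hA]
      rfl
    rw [Units.val_mul, h4]
    rw [← hM]
    ext i j
    simp
    field_simp

/-! ### (D1) the normaliser of a realisable absolutely irreducible group -/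

/-- A convenient way to state that `P` is normalised by `H`. -/
def NormalisedBy (H P : Subgroup (GL ι F)) : Prop :=
  ∀ h ∈ H, ∀ x ∈ P, h * x * h⁻¹ ∈ P

/-- `(D1)` If `P` is absolutely irreducible, has entries in `F₀` after conjugation by `B`, and is normalised by `H`,
then `H` is contained in the subfield group of `F₀` and `B⁻¹`. -/
theorem le_subfieldSubgroup {F₀ : Subfield F} {H P : Subgroup (GL ι F)}
    (hn : ∀ h ∈ H, ∀ x ∈ P, h * x * h⁻¹ ∈ P)
    (hirr : ActsAbsolutelyIrreducibly (matrixSet P)) {B : GL ι F}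
    (hB : ∀ s ∈ matrixSet P, ∀ i j,
      ((B : Matrix ι ι F) * s * ((B⁻¹ : GL ι F) : Matrix ι ι F)) i j ∈ F₀) :
    H ≤ subfieldSubgroup F₀ B⁻¹ := by
  intro h hh
  rw [mem_subfieldSubgroup_iff]
  set h' : Matrix ι ι F := ((B⁻¹⁻¹ * h * B⁻¹ : GL ι F) : Matrix ι ι F) with hh'
  by_cases hι : Nonempty ι
  swap
  · exact ⟨1, one_ne_zero, fun i => (hι ⟨i⟩).elim⟩
  have hne : h' ≠ 0 := by
    intro h0
    have : (1 : Matrix ι ι F) = 0 := by
      have h1 : (((B⁻¹⁻¹ * h * B⁻¹)⁻¹ * (B⁻¹⁻¹ * h * B⁻¹) : GL ι F) : Matrix ι ι F) = 1 := by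
        rw [inv_mul_cancel, Units.val_one]
      rw [Units.val_mul, ← hh', h0, Matrix.mul_zero] at h1
      exact h1.symm
    obtain ⟨i⟩ := hι
    exact one_ne_zero (α := F) (by simpa using congrFun (congrFun this i) i)
  obtain ⟨i, j, hij⟩ : ∃ i j, h' i j ≠ 0 := by
    by_contra hcon
    push Not at hcon
    exact hne (Matrix.ext hcon)
  obtain ⟨l, hl, hlF, hlx⟩ := exists_functional F₀ hij
  -- key relation
  have key : ∀ x ∈ P, h' * ((B * x * B⁻¹ : GL ι F) : Matrix ι ι F) =
      ((B * (h * x * h⁻¹) * B⁻¹ : GL ι F) : Matrix ι ι F) * h' := by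
    intro x _
    rw [hh', ← Units.val_mul, ← Units.val_mul]
    congr 1
    group
  have ent : ∀ x ∈ P, ∀ i j, ((B * x * B⁻¹ : GL ι F) : Matrix ι ι F) i j ∈ F₀ := by
    intro x hx i j
    exact hB _ ⟨x, hx, rfl⟩ i j
  set X : Matrix ι ι F := h'.map l with hX
  have keyX : ∀ x ∈ P, X * ((B * x * B⁻¹ : GL ι F) : Matrix ι ι F) =
      ((B * (h * x * h⁻¹) * B⁻¹ : GL ι F) : Matrix ι ι F) * X := by
    intro x hx
    rw [hX, ← map_mul_right hl (ent x hx), key x hx, map_mul_left hl (ent _ (hn h hh x hx))]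
  -- now `h'⁻¹ X` commutes with `B P B⁻¹`, so `(B⁻¹) (h'⁻¹ X) B` commutes with `P`
  set Y : Matrix ι ι F := ((h⁻¹ * B⁻¹ : GL ι F) : Matrix ι ι F) * X * (B : Matrix ι ι F) with hY
  have hYc : ∀ s ∈ matrixSet P, Y * s = s * Y := by
    rintro s ⟨x, hx, rfl⟩
    have h1 := keyX x hx
    have h2 : X * ((B : GL ι F) : Matrix ι ι F) * (x : Matrix ι ι F) =
        ((B * (h * x * h⁻¹) * B⁻¹ : GL ι F) : Matrix ι ι F) * X * (B : Matrix ι ι F) := by
      rw [← h1]
      simp only [Units.val_mul, mul_assoc]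
      congr 2
      rw [← Units.val_mul, inv_mul_cancel, Units.val_one, Matrix.mul_one]
    calc Y * (x : Matrix ι ι F)
        = ((h⁻¹ * B⁻¹ : GL ι F) : Matrix ι ι F) * (X * ((B : GL ι F) : Matrix ι ι F) * (x : Matrix ι ι F)) := by
          rw [hY]; simp only [mul_assoc]
      _ = ((h⁻¹ * B⁻¹ : GL ι F) : Matrix ι ι F) *
            (((B * (h * x * h⁻¹) * B⁻¹ : GL ι F) : Matrix ι ι F) * X * (B : Matrix ι ι F)) := by rw [h2]
      _ = (((h⁻¹ * B⁻¹) * (B * (h * x * h⁻¹) * B⁻¹) : GL ι F) : Matrix ι ι F) * X * (B : Matrix ι ι F) := by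
          rw [Units.val_mul (h⁻¹ * B⁻¹)]; simp only [mul_assoc]
      _ = ((x * (h⁻¹ * B⁻¹) : GL ι F) : Matrix ι ι F) * X * (B : Matrix ι ι F) := by
          congr 3; group
      _ = (x : Matrix ι ι F) * Y := by
          rw [hY, Units.val_mul x]; simp only [mul_assoc]
  obtain ⟨c, hc⟩ := hirr.2 Y hYc
  have hXc : X = c • h' := by
    have h3 : X = ((B * h : GL ι F) : Matrix ι ι F) * Y * ((B⁻¹ : GL ι F) : Matrix ι ι F) := by
      rw [hY]
      calc X = (((B * h) * (h⁻¹ * B⁻¹) : GL ι F) : Matrix ι ι F) * X *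
            ((B * B⁻¹ : GL ι F) : Matrix ι ι F) := by simp
        _ = _ := by
          rw [Units.val_mul (B * h), Units.val_mul B B⁻¹]; simp only [mul_assoc]
    rw [h3, hc, hh']
    simp
  refine ⟨c, ?_, ?_⟩
  · rintro rfl
    apply hlx
    have := congrFun (congrFun hXc i) j
    simpa [hX] using this
  · intro i j
    have := congrFun (congrFun hXc i) j
    rw [Matrix.smul_apply, smul_eq_mul] at this
    rw [← this, hX, Matrix.map_apply]
    exact hlF _


/-! ### Sesquilinear forms given as functions -/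

/-- `f` is additive in both arguments, linear in the first and `σ`-semilinear in the second. -/
structure IsSesq (σ : F ≃+* F) (f : (ι → F) → (ι → F) → F) : Prop where
  add_left : ∀ x y v, f (x + y) v = f x v + f y v
  smul_left : ∀ (c : F) (x v : ι → F), f (c • x) v = c * f x v
  add_right : ∀ v x y, f v (x + y) = f v x + f v y
  smul_right : ∀ (c : F) (v x : ι → F), f v (c • x) = σ c * f v x

theorem IsSesq.of_bilinear {f : (ι → F) → (ι → F) → F} (hf : IsBilinearForm f) :
    IsSesq (RingEquiv.refl F) f :=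
  ⟨hf.add_left, hf.smul_left, hf.add_right, hf.smul_right⟩

theorem IsSesq.of_unitary {σ : F ≃+* F} {f : (ι → F) → (ι → F) → F} (hf : IsUnitaryForm σ f) :
    IsSesq σ f := by
  refine ⟨hf.add_left, hf.smul_left, ?_, ?_⟩
  · intro v x y
    rw [hf.herm, hf.add_left, map_add, ← hf.herm, ← hf.herm]
  · intro c v x
    rw [hf.herm, hf.smul_left, map_mul, ← hf.herm]

theorem IsSesq.zero_left {σ : F ≃+* F} {f : (ι → F) → (ι → F) → F} (hf : IsSesq σ f) (v : ι → F) :
    f 0 v = 0 := by
  have := hf.smul_left 0 0 v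
  simpa using this

theorem IsSesq.zero_right {σ : F ≃+* F} {f : (ι → F) → (ι → F) → F} (hf : IsSesq σ f) (v : ι → F) :
    f v 0 = 0 := by
  have := hf.smul_right 0 v 0
  simpa using this

theorem IsSesq.sum_left {σ : F ≃+* F} {f : (ι → F) → (ι → F) → F} (hf : IsSesq σ f) {κ : Type*}
    (s : Finset κ) (g : κ → ι → F) (v : ι → F) : f (∑ k ∈ s, g k) v = ∑ k ∈ s, f (g k) v := by
  classical
  induction s using Finset.induction_on with
  | empty => simp [hf.zero_left]
  | insert a s ha ih => rw [Finset.sum_insert ha, Finset.sum_insert ha, hf.add_left, ih]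

theorem IsSesq.sum_right {σ : F ≃+* F} {f : (ι → F) → (ι → F) → F} (hf : IsSesq σ f) {κ : Type*}
    (s : Finset κ) (g : κ → ι → F) (v : ι → F) : f v (∑ k ∈ s, g k) = ∑ k ∈ s, f v (g k) := by
  classical
  induction s using Finset.induction_on with
  | empty => simp [hf.zero_right]
  | insert a s ha ih => rw [Finset.sum_insert ha, Finset.sum_insert ha, hf.add_right, ih]

/-- The sesquilinear form with Gram matrix `G`. -/
def sesqOf (σ : F ≃+* F) (G : Matrix ι ι F) (u v : ι → F) : F := u ⬝ᵥ (G *ᵥ (fun i => σ (v i)))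

theorem IsSesq.eq_gram {σ : F ≃+* F} {f : (ι → F) → (ι → F) → F} (hf : IsSesq σ f) (u v : ι → F) :
    f u v = sesqOf σ (gramMatrix f) u v := by
  have hu : u = ∑ i, u i • (Pi.single i 1 : ι → F) := by
    ext j; simp [Finset.sum_apply, Pi.single_apply]
  have hv : v = ∑ i, v i • (Pi.single i 1 : ι → F) := by
    ext j; simp [Finset.sum_apply, Pi.single_apply]
  conv_lhs => rw [hu, hv]
  rw [hf.sum_left]
  unfold sesqOf dotProduct Matrix.mulVec dotProduct
  refine Finset.sum_congr rfl fun i _ => ?_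
  rw [hf.smul_left, hf.sum_right]
  congr 1
  refine Finset.sum_congr rfl fun j _ => ?_
  rw [hf.smul_right, mul_comm]
  rfl

theorem isSesq_sesqOf (σ : F ≃+* F) (G : Matrix ι ι F) : IsSesq σ (sesqOf σ G) := by
  refine ⟨?_, ?_, ?_, ?_⟩
  · intro x y v
    simp [sesqOf, add_dotProduct]
  · intro c x v
    simp [sesqOf, smul_dotProduct]
  · intro v x y
    have : (fun i => σ ((x + y) i)) = (fun i => σ (x i)) + fun i => σ (y i) := by
      ext i; simp
    simp only [sesqOf, this, Matrix.mulVec_add, dotProduct_add]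
  · intro c v x
    have : (fun i => σ ((c • x) i)) = σ c • fun i => σ (x i) := by
      ext i; simp
    simp only [sesqOf, this, Matrix.mulVec_smul, dotProduct_smul, smul_eq_mul]

theorem gramMatrix_sesqOf (σ : F ≃+* F) (G : Matrix ι ι F) : gramMatrix (sesqOf σ G) = G := by
  ext i j
  have : (fun k => σ ((Pi.single j 1 : ι → F) k)) = Pi.single j 1 := by
    ext k; by_cases h : k = j
    · subst h; simp
    · simp [h]
  simp only [gramMatrix, sesqOf, this]
  simp

theorem mulVec_map (σ : F ≃+* F) (M : Matrix ι ι F) (v : ι → F) :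
    (fun i => σ ((M *ᵥ v) i)) = (M.map σ) *ᵥ fun i => σ (v i) := by
  ext i
  simp [Matrix.mulVec, dotProduct, map_sum]

theorem sesqOf_mulVec (σ : F ≃+* F) (G M N : Matrix ι ι F) (u v : ι → F) :
    sesqOf σ G (M *ᵥ u) (N *ᵥ v) = sesqOf σ (Mᵀ * G * N.map σ) u v := by
  unfold sesqOf
  rw [mulVec_map, ← Matrix.vecMul_transpose M, ← Matrix.dotProduct_mulVec]
  simp only [Matrix.mulVec_mulVec, Matrix.mul_assoc]

theorem sesqOf_injective {σ : F ≃+* F} {G G' : Matrix ι ι F}
    (h : ∀ u v, sesqOf σ G u v = sesqOf σ G' u v) : G = G' := by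
  rw [← gramMatrix_sesqOf σ G, ← gramMatrix_sesqOf σ G']
  congr 1
  funext u v
  exact h u v

theorem det_gram_ne_zero {σ : F ≃+* F} {f : (ι → F) → (ι → F) → F} (hf : IsSesq σ f)
    (hn : IsNondegenerateForm f) : (gramMatrix f).det ≠ 0 := by
  intro h0
  obtain ⟨w, hw, hw0⟩ := Matrix.exists_mulVec_eq_zero_iff.mpr h0
  have hv : (fun i => σ.symm (w i)) ≠ 0 := by
    intro h
    apply hw
    ext i
    have := congrFun h i
    simpa using this
  obtain ⟨⟨x, hx⟩, -⟩ := hn _ hv
  apply hx
  rw [hf.eq_gram, sesqOf]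
  have : (fun i => σ (σ.symm (w i))) = w := by ext i; simp
  rw [this, hw0, dotProduct_zero]

theorem fixes_gram {σ : F ≃+* F} {f : (ι → F) → (ι → F) → F} (hf : IsSesq σ f) {M : Matrix ι ι F}
    (h : ∀ u v, f (M *ᵥ u) (M *ᵥ v) = f u v) :
    Mᵀ * gramMatrix f * M.map σ = gramMatrix f := by
  apply sesqOf_injective (σ := σ)
  intro u v
  rw [← sesqOf_mulVec, ← hf.eq_gram, ← hf.eq_gram, h]

/-- Uniqueness of invariant sesquilinear forms of an absolutely irreducible group (matrix form): if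
`M^T G σ(M) = G` and `M^T G' σ(M) = G'` for all `M` in the group, `G` invertible, then `G' = c G`. -/
theorem gram_unique {P : Subgroup (GL ι F)} (hirr : ActsAbsolutelyIrreducibly (matrixSet P))
    {σ : F ≃+* F} {G G' : Matrix ι ι F} (hG : G.det ≠ 0)
    (h1 : ∀ s ∈ matrixSet P, sᵀ * G * s.map σ = G)
    (h2 : ∀ s ∈ matrixSet P, sᵀ * G' * s.map σ = G') : ∃ c : F, G' = c • G := by
  have hGu : IsUnit G.det := isUnit_iff_ne_zero.mpr hG
  set X : Matrix ι ι F := G' * G⁻¹ with hX
  have hc : ∀ s ∈ matrixSet P, Xᵀ * s = s * Xᵀ := by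
    rintro s ⟨g, hg, rfl⟩
    -- inverse of `g`
    set t : Matrix ι ι F := ((g⁻¹ : GL ι F) : Matrix ι ι F) with ht
    have hgt : (g : Matrix ι ι F) * t = 1 := by rw [ht, ← Units.val_mul, mul_inv_cancel, Units.val_one]
    have hst : (g : Matrix ι ι F).map σ * t.map σ = 1 := by
      have := congrArg (fun M : Matrix ι ι F => M.map σ) hgt
      simpa [Matrix.map_mul, Matrix.map_one] using this
    have h1' := h1 _ ⟨g, hg, rfl⟩
    have h2' := h2 _ ⟨g, hg, rfl⟩
    have e1 : (g : Matrix ι ι F)ᵀ * G = G * t.map σ := by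
      calc (g : Matrix ι ι F)ᵀ * G = (g : Matrix ι ι F)ᵀ * G * ((g : Matrix ι ι F).map σ * t.map σ) := by
            rw [hst, Matrix.mul_one]
        _ = ((g : Matrix ι ι F)ᵀ * G * (g : Matrix ι ι F).map σ) * t.map σ := by simp only [mul_assoc]
        _ = G * t.map σ := by rw [h1']
    have e2 : (g : Matrix ι ι F)ᵀ * G' = G' * t.map σ := by
      calc (g : Matrix ι ι F)ᵀ * G' = (g : Matrix ι ι F)ᵀ * G' * ((g : Matrix ι ι F).map σ * t.map σ) := by
            rw [hst, Matrix.mul_one]
        _ = ((g : Matrix ι ι F)ᵀ * G' * (g : Matrix ι ι F).map σ) * t.map σ := by simp only [mul_assoc]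
        _ = G' * t.map σ := by rw [h2']
    have e3 : G⁻¹ * (g : Matrix ι ι F)ᵀ = t.map σ * G⁻¹ := by
      calc G⁻¹ * (g : Matrix ι ι F)ᵀ = G⁻¹ * ((g : Matrix ι ι F)ᵀ * (G * G⁻¹)) := by
            rw [Matrix.mul_nonsing_inv _ hGu, Matrix.mul_one]
        _ = G⁻¹ * ((g : Matrix ι ι F)ᵀ * G) * G⁻¹ := by simp only [mul_assoc]
        _ = G⁻¹ * (G * t.map σ) * G⁻¹ := by rw [e1]
        _ = (G⁻¹ * G) * t.map σ * G⁻¹ := by simp only [mul_assoc]
        _ = t.map σ * G⁻¹ := by rw [Matrix.nonsing_inv_mul _ hGu, Matrix.one_mul]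
    have e4 : X * (g : Matrix ι ι F)ᵀ = (g : Matrix ι ι F)ᵀ * X := by
      calc X * (g : Matrix ι ι F)ᵀ = G' * (G⁻¹ * (g : Matrix ι ι F)ᵀ) := by rw [hX, mul_assoc]
        _ = G' * t.map σ * G⁻¹ := by rw [e3, mul_assoc]
        _ = (g : Matrix ι ι F)ᵀ * G' * G⁻¹ := by rw [e2]
        _ = (g : Matrix ι ι F)ᵀ * X := by rw [hX, mul_assoc]
    have e5 := congrArg Matrix.transpose e4
    rw [Matrix.transpose_mul X _, Matrix.transpose_mul _ X, Matrix.transpose_transpose] at e5
    exact e5.symm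
  obtain ⟨c, hc'⟩ := hirr.2 _ hc
  refine ⟨c, ?_⟩
  have hXc : X = c • (1 : Matrix ι ι F) := by
    rw [← Matrix.transpose_transpose X, hc', Matrix.transpose_smul, Matrix.transpose_one]
  calc G' = G' * (G⁻¹ * G) := by rw [Matrix.nonsing_inv_mul _ hGu, Matrix.mul_one]
    _ = X * G := by rw [hX, mul_assoc]
    _ = c • G := by rw [hXc, Matrix.smul_mul, Matrix.one_mul]

/-- Uniqueness of invariant sesquilinear forms up to a scalar. -/
theorem sesq_unique {P : Subgroup (GL ι F)} (hirr : ActsAbsolutelyIrreducibly (matrixSet P))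
    {σ : F ≃+* F} {f g : (ι → F) → (ι → F) → F} (hf : IsSesq σ f) (hfn : IsNondegenerateForm f)
    (hfP : FixesForm (matrixSet P) f) (hg : IsSesq σ g) (hgP : FixesForm (matrixSet P) g) :
    ∃ c : F, ∀ u v, g u v = c * f u v := by
  obtain ⟨c, hc⟩ := gram_unique hirr (det_gram_ne_zero hf hfn)
    (fun s hs => fixes_gram hf (hfP s hs)) (fun s hs => fixes_gram hg (hgP s hs))
  refine ⟨c, fun u v => ?_⟩
  rw [hg.eq_gram, hf.eq_gram, hc]
  simp [sesqOf, Matrix.smul_mulVec, dotProduct_smul]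

theorem IsSesq.comp {σ : F ≃+* F} {f : (ι → F) → (ι → F) → F} (hf : IsSesq σ f) (M : Matrix ι ι F) :
    IsSesq σ (fun u v => f (M *ᵥ u) (M *ᵥ v)) := by
  refine ⟨?_, ?_, ?_, ?_⟩
  · intro x y v; simp only [Matrix.mulVec_add, hf.add_left]
  · intro c x v; simp only [Matrix.mulVec_smul, hf.smul_left]
  · intro v x y; simp only [Matrix.mulVec_add, hf.add_right]
  · intro c v x; simp only [Matrix.mulVec_smul, hf.smul_right]

/-- If `x ∈ P` fixes `f` and `h` normalises `P` then `P` fixes the translate of `f` by `h`. -/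
theorem fixesForm_comp {H P : Subgroup (GL ι F)} (hn : ∀ h ∈ H, ∀ x ∈ P, h * x * h⁻¹ ∈ P)
    {f : (ι → F) → (ι → F) → F} (hfP : FixesForm (matrixSet P) f) {h : GL ι F} (hh : h ∈ H) :
    FixesForm (matrixSet P) (fun u v => f ((h : Matrix ι ι F) *ᵥ u) ((h : Matrix ι ι F) *ᵥ v)) := by
  rintro s ⟨x, hx, rfl⟩ u v
  have hx' : h * x * h⁻¹ ∈ P := hn h hh x hx
  have key : ∀ w : ι → F, (h : Matrix ι ι F) *ᵥ ((x : Matrix ι ι F) *ᵥ w) =
      ((h * x * h⁻¹ : GL ι F) : Matrix ι ι F) *ᵥ ((h : Matrix ι ι F) *ᵥ w) := by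
    intro w
    rw [Matrix.mulVec_mulVec, Matrix.mulVec_mulVec, ← Units.val_mul, ← Units.val_mul,
      inv_mul_cancel_right]
  show f ((h : Matrix ι ι F) *ᵥ ((x : Matrix ι ι F) *ᵥ u)) ((h : Matrix ι ι F) *ᵥ ((x : Matrix ι ι F) *ᵥ v)) = _
  rw [key, key]
  exact hfP _ ⟨_, hx', rfl⟩ _ _

/-- `P` abs. irreducible fixing the nondegenerate sesquilinear form `f`, normalised by `H`: `H` consists of
similarities of `f`. -/
theorem le_similarityGroup_of_fixes {H P : Subgroup (GL ι F)}
    (hn : ∀ h ∈ H, ∀ x ∈ P, h * x * h⁻¹ ∈ P) (hirr : ActsAbsolutelyIrreducibly (matrixSet P))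
    {σ : F ≃+* F} {f : (ι → F) → (ι → F) → F} (hf : IsSesq σ f) (hfn : IsNondegenerateForm f)
    (hfP : FixesForm (matrixSet P) f) : H ≤ similarityGroup f := by
  intro h hh
  obtain ⟨c, hc⟩ := sesq_unique hirr hf hfn hfP (hf.comp (h : Matrix ι ι F)) (fixesForm_comp hn hfP hh)
  by_cases hc0 : c = 0
  · subst hc0
    -- then `F^ι = 0`
    refine ⟨1, fun u v => ?_⟩
    have hz : ∀ u : ι → F, u = 0 := by
      intro u
      by_contra hu
      obtain ⟨⟨x, hx⟩, -⟩ := hfn u hu
      apply hx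
      have := hc (((h⁻¹ : GL ι F) : Matrix ι ι F) *ᵥ x) (((h⁻¹ : GL ι F) : Matrix ι ι F) *ᵥ u)
      simp only [Matrix.mulVec_mulVec, ← Units.val_mul, mul_inv_cancel, Units.val_one,
        Matrix.one_mulVec, zero_mul] at this
      exact this
    rw [hz ((h : Matrix ι ι F) *ᵥ u), hz u, Units.val_one, one_mul]
    rw [hf.zero_left, hf.zero_left]
  · exact ⟨Units.mk0 c hc0, hc⟩


/-! ### Realisability data -/

/-- `(D2)` Rational structure on an invariant sesquilinear form: if `P` is absolutely irreducible, has entries in `F₀`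
after conjugation by `B`, and fixes the nondegenerate `σ`-sesquilinear form `f`, where `σ` preserves `F₀`, then for a
non-zero `ζ` the form `ζ f` is `F₀`-valued on the `F₀`-span of the columns of `B⁻¹`. -/
theorem exists_isFormRationalStructure {P : Subgroup (GL ι F)}
    (hirr : ActsAbsolutelyIrreducibly (matrixSet P)) {F₀ : Subfield F} {B : GL ι F}
    (hB : ∀ s ∈ matrixSet P, ∀ i j,
      ((B : Matrix ι ι F) * s * ((B⁻¹ : GL ι F) : Matrix ι ι F)) i j ∈ F₀)
    {σ : F ≃+* F} (hσ : ∀ x ∈ F₀, σ x ∈ F₀) {f : (ι → F) → (ι → F) → F} (hf : IsSesq σ f)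
    (hfn : IsNondegenerateForm f) (hfP : FixesForm (matrixSet P) f) :
    ∃ ζ : F, ζ ≠ 0 ∧ IsFormRationalStructure f F₀ ζ B⁻¹ := by
  set Bi : Matrix ι ι F := ((B⁻¹ : GL ι F) : Matrix ι ι F) with hBi
  have hBBi : (B : Matrix ι ι F) * Bi = 1 := by rw [hBi, ← Units.val_mul, mul_inv_cancel, Units.val_one]
  have hBiB : Bi * (B : Matrix ι ι F) = 1 := by rw [hBi, ← Units.val_mul, inv_mul_cancel, Units.val_one]
  set G := gramMatrix f with hG
  have hGdet : G.det ≠ 0 := det_gram_ne_zero hf hfn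
  set G' : Matrix ι ι F := Biᵀ * G * Bi.map σ with hG'
  by_cases hG0 : G' = 0
  · refine ⟨1, one_ne_zero, fun u v _ _ => ?_⟩
    rw [hf.eq_gram, sesqOf_mulVec, ← hG, ← hG', hG0]
    simp [sesqOf, F₀.zero_mem]
  obtain ⟨i, j, hij⟩ : ∃ i j, G' i j ≠ 0 := by
    by_contra hcon
    push Not at hcon
    exact hG0 (Matrix.ext hcon)
  obtain ⟨l, hl, hlF, hlx⟩ := exists_functional F₀ hij
  set L : Matrix ι ι F := G'.map l with hL
  have hBσ : Bi.map σ * (B : Matrix ι ι F).map σ = 1 := by
    have := congrArg (fun M : Matrix ι ι F => M.map σ) hBiB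
    simpa [Matrix.map_mul, Matrix.map_one] using this
  have hBσ' : (B : Matrix ι ι F).map σ * Bi.map σ = 1 := by
    have := congrArg (fun M : Matrix ι ι F => M.map σ) hBBi
    simpa [Matrix.map_mul, Matrix.map_one] using this
  have hBt : (B : Matrix ι ι F)ᵀ * Biᵀ = 1 := by
    rw [← Matrix.transpose_mul, hBiB, Matrix.transpose_one]
  have hBt' : Biᵀ * (B : Matrix ι ι F)ᵀ = 1 := by
    rw [← Matrix.transpose_mul, hBBi, Matrix.transpose_one]
  -- invariance of `G'` under the conjugated group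
  have inv' : ∀ s ∈ matrixSet P, ((B : Matrix ι ι F) * s * Bi)ᵀ * G' * ((B : Matrix ι ι F) * s * Bi).map σ = G' := by
    intro s hs
    have h0 := fixes_gram hf (hfP s hs)
    rw [← hG] at h0
    rw [hG', Matrix.map_mul, Matrix.map_mul, Matrix.transpose_mul, Matrix.transpose_mul]
    calc Biᵀ * (sᵀ * (B : Matrix ι ι F)ᵀ) * (Biᵀ * G * Bi.map σ) *
          ((B : Matrix ι ι F).map σ * s.map σ * Bi.map σ)
        = Biᵀ * sᵀ * ((B : Matrix ι ι F)ᵀ * Biᵀ) * G * (Bi.map σ * (B : Matrix ι ι F).map σ) * s.map σ * Bi.map σ := by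
          simp only [mul_assoc]
      _ = Biᵀ * (sᵀ * G * s.map σ) * Bi.map σ := by
          rw [hBt, hBσ]; simp only [mul_assoc, Matrix.mul_one]
      _ = Biᵀ * G * Bi.map σ := by rw [h0]
  have invL : ∀ s ∈ matrixSet P, ((B : Matrix ι ι F) * s * Bi)ᵀ * L * ((B : Matrix ι ι F) * s * Bi).map σ = L := by
    intro s hs
    have e := congrArg (fun M : Matrix ι ι F => M.map l) (inv' s hs)
    rw [map_mul_right hl (A := ((B : Matrix ι ι F) * s * Bi).map σ) (fun a b => by
        rw [Matrix.map_apply]; exact hσ _ (hB s hs a b)),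
      map_mul_left hl (A := ((B : Matrix ι ι F) * s * Bi)ᵀ) (fun a b => by
        rw [Matrix.transpose_apply]; exact hB s hs b a)] at e
    exact e
  have inv2 : ∀ s ∈ matrixSet P, sᵀ * ((B : Matrix ι ι F)ᵀ * L * (B : Matrix ι ι F).map σ) * s.map σ =
      (B : Matrix ι ι F)ᵀ * L * (B : Matrix ι ι F).map σ := by
    intro s hs
    have h0 := invL s hs
    rw [Matrix.map_mul, Matrix.map_mul, Matrix.transpose_mul, Matrix.transpose_mul] at h0
    calc sᵀ * ((B : Matrix ι ι F)ᵀ * L * (B : Matrix ι ι F).map σ) * s.map σ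
        = ((B : Matrix ι ι F)ᵀ * Biᵀ) * sᵀ * (B : Matrix ι ι F)ᵀ * L * (B : Matrix ι ι F).map σ * s.map σ *
            (Bi.map σ * (B : Matrix ι ι F).map σ) := by
          rw [hBt, hBσ]; simp only [mul_assoc, Matrix.mul_one, Matrix.one_mul]
      _ = (B : Matrix ι ι F)ᵀ * (Biᵀ * (sᵀ * (B : Matrix ι ι F)ᵀ) * L *
            ((B : Matrix ι ι F).map σ * s.map σ * Bi.map σ)) * (B : Matrix ι ι F).map σ := by
          simp only [mul_assoc]
      _ = _ := by rw [h0]
  obtain ⟨ζ, hζ⟩ := gram_unique hirr hGdet (fun s hs => fixes_gram hf (hfP s hs)) inv2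
  have hLζ : L = ζ • G' := by
    calc L = Biᵀ * ((B : Matrix ι ι F)ᵀ * L * (B : Matrix ι ι F).map σ) * Bi.map σ := by
          calc L = (Biᵀ * (B : Matrix ι ι F)ᵀ) * L * ((B : Matrix ι ι F).map σ * Bi.map σ) := by
                rw [hBt', hBσ', Matrix.one_mul, Matrix.mul_one]
            _ = _ := by simp only [mul_assoc]
      _ = Biᵀ * (ζ • G) * Bi.map σ := by rw [hζ]
      _ = ζ • G' := by rw [hG', Matrix.mul_smul, Matrix.smul_mul]
  refine ⟨ζ, ?_, ?_⟩
  · rintro rfl
    apply hlx
    have := congrFun (congrFun hLζ i) j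
    simpa [hL] using this
  · intro u v hu hv
    rw [hf.eq_gram, sesqOf_mulVec, ← hG, ← hBi, ← hG']
    have : ζ * sesqOf σ G' u v = sesqOf σ L u v := by
      rw [hLζ]; simp [sesqOf, Matrix.smul_mulVec, dotProduct_smul]
    rw [this]
    unfold sesqOf dotProduct Matrix.mulVec dotProduct
    exact F₀.sum_mem fun a _ => F₀.mul_mem (hu a) (F₀.sum_mem fun b _ => F₀.mul_mem (hlF _) (hσ _ (hv b)))


/-! ### Subfields of finite fields -/

theorem mem_subfield_iff_pow [Finite F] (F₀ : Subfield F) (x : F) : x ∈ F₀ ↔ x ^ Nat.card F₀ = x := by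
  classical
  have : Fintype F := Fintype.ofFinite F
  have : Fintype F₀ := Fintype.ofFinite F₀
  constructor
  · intro hx
    have h := FiniteField.pow_card (⟨x, hx⟩ : F₀)
    rw [Nat.card_eq_fintype_card]
    exact congrArg Subtype.val h
  · intro hx
    set q := Nat.card F₀ with hq
    have hq1 : 1 < q := Finite.one_lt_card
    have hne : (Polynomial.X ^ q - Polynomial.X : Polynomial F) ≠ 0 :=
      FiniteField.X_pow_card_sub_X_ne_zero F hq1
    have hdeg : (Polynomial.X ^ q - Polynomial.X : Polynomial F).natDegree = q :=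
      FiniteField.X_pow_card_sub_X_natDegree_eq F hq1
    set S : Finset F := (Finset.univ : Finset F₀).map ⟨Subtype.val, Subtype.val_injective⟩ with hS
    have hScard : S.card = q := by
      rw [hS, Finset.card_map, Finset.card_univ, hq, Nat.card_eq_fintype_card]
    have hroot : ∀ y : F, y ^ q = y → y ∈ (Polynomial.X ^ q - Polynomial.X : Polynomial F).roots.toFinset := by
      intro y hy
      rw [Multiset.mem_toFinset, Polynomial.mem_roots hne]
      simp [hy]
    have hSsub : S ⊆ (Polynomial.X ^ q - Polynomial.X : Polynomial F).roots.toFinset := by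
      intro y hy
      rw [hS, Finset.mem_map] at hy
      obtain ⟨z, -, rfl⟩ := hy
      apply hroot
      have h := FiniteField.pow_card z
      rw [hq, Nat.card_eq_fintype_card]
      exact congrArg Subtype.val h
    have hle : (Polynomial.X ^ q - Polynomial.X : Polynomial F).roots.toFinset.card ≤ S.card := by
      rw [hScard]
      refine (Multiset.toFinset_card_le _).trans ((Polynomial.card_roots' _).trans ?_)
      rw [hdeg]
    have heq := Finset.eq_of_subset_of_card_le hSsub hle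
    have := hroot x hx
    rw [← heq, hS, Finset.mem_map] at this
    obtain ⟨z, -, rfl⟩ := this
    exact z.2

theorem map_mem_subfield [Finite F] (σ : F ≃+* F) (F₀ : Subfield F) {x : F} (hx : x ∈ F₀) : σ x ∈ F₀ := by
  rw [mem_subfield_iff_pow] at hx ⊢
  rw [← map_pow, hx]

theorem subfield_eq_of_card_eq [Finite F] {F₀ F₁ : Subfield F} (h : Nat.card F₀ = Nat.card F₁) : F₀ = F₁ := by
  ext x
  rw [mem_subfield_iff_pow, mem_subfield_iff_pow, h]

/-- The fixed subfield of an automorphism. -/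
def fixedBy (σ : F ≃+* F) : Subfield F := RingHom.eqLocusField (σ : F →+* F) (RingHom.id F)

theorem mem_fixedBy {σ : F ≃+* F} {x : F} : x ∈ fixedBy σ ↔ σ x = x := Iff.rfl

theorem fixedBy_ne_top {σ : F ≃+* F} (h : σ ≠ RingEquiv.refl F) : fixedBy σ ≠ ⊤ := by
  intro ht
  apply h
  ext x
  have : x ∈ fixedBy σ := by rw [ht]; exact Subfield.mem_top x
  exact this

/-- `σ` as an algebra automorphism over its fixed field. -/
def autOver (σ : F ≃+* F) : F ≃ₐ[fixedBy σ] F :=
  AlgEquiv.ofRingEquiv (f := σ) (fun x => x.2)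

theorem autOver_apply (σ : F ≃+* F) (x : F) : autOver σ x = σ x := rfl

theorem autOver_pow_apply (σ : F ≃+* F) (k : ℕ) (x : F) : (autOver σ ^ k) x = (σ ^ k) x := by
  induction k generalizing x with
  | zero => rfl
  | succ k ih =>
    rw [pow_succ, pow_succ]
    exact ih (σ x)

theorem zpowers_autOver [Finite F] (σ : F ≃+* F) : Subgroup.zpowers (autOver σ) = ⊤ := by
  have h1 : IntermediateField.fixedField (Subgroup.zpowers (autOver σ)) = ⊥ := by
    rw [eq_bot_iff]
    intro x hx
    rw [IntermediateField.mem_fixedField_iff] at hx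
    have := hx (autOver σ) (Subgroup.mem_zpowers _)
    rw [IntermediateField.mem_bot]
    exact ⟨⟨x, this⟩, rfl⟩
  have h2 := IntermediateField.fixingSubgroup_fixedField (Subgroup.zpowers (autOver σ))
  rw [← h2, h1]
  exact IntermediateField.fixingSubgroup_bot

theorem exists_prod_eq [Finite F] (σ : F ≃+* F) {c : F} (hc : σ c = c) :
    ∃ μ : F, ∏ k ∈ Finset.range (orderOf (autOver σ)), (σ ^ k) μ = c := by
  classical
  have : Fintype F := Fintype.ofFinite F
  obtain ⟨μ, hμ⟩ := FiniteField.norm_surjective (fixedBy σ) F ⟨c, hc⟩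
  refine ⟨μ, ?_⟩
  have h1 := Algebra.norm_eq_prod_automorphisms (fixedBy σ) μ
  rw [hμ] at h1
  have h2 : (Finset.univ : Finset (F ≃ₐ[fixedBy σ] F)) =
      Finset.image (fun i => autOver σ ^ i) (Finset.range (orderOf (autOver σ))) := by
    symm
    apply IsCyclic.image_range_orderOf
    intro x
    rw [zpowers_autOver]; trivial
  have h3 : ∏ τ : (F ≃ₐ[fixedBy σ] F), τ μ = ∏ k ∈ Finset.range (orderOf (autOver σ)), (autOver σ ^ k) μ := by
    rw [h2, Finset.prod_image]
    intro a ha b hb hab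
    simp only [Finset.coe_range, Set.mem_Iio] at ha hb
    exact pow_injOn_Iio_orderOf ha hb hab
  have h4 : c = ∏ k ∈ Finset.range (orderOf (autOver σ)), (autOver σ ^ k) μ := by
    rw [← h3, ← h1]; rfl
  rw [h4]
  exact Finset.prod_congr rfl fun k _ => (autOver_pow_apply σ k μ).symm

/-! ### (D5) Descent: an absolutely irreducible group conjugate to its Galois twist -/

/-- Existence of a basis inside a spanning set, as an invertible matrix. -/
theorem exists_gl_of_span (S : Set (ι → F)) (hS : Submodule.span F S = ⊤) :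
    ∃ C : GL ι F, ∀ j, (C : Matrix ι ι F).col j ∈ S := by
  classical
  obtain ⟨b, hb, hspan, hli⟩ := exists_linearIndependent F S
  have hspan' : Submodule.span F b = ⊤ := by rw [hspan, hS]
  let B : Module.Basis b F (ι → F) := Module.Basis.mk hli (by rw [Subtype.range_coe, hspan'])
  have : Fintype b := FiniteDimensional.fintypeBasisIndex B
  have hcard : Fintype.card b = Fintype.card ι := by
    rw [← Module.finrank_eq_card_basis B, Module.finrank_fintype_fun_eq_card]
  let e : b ≃ ι := Fintype.equivOfCardEq hcard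
  let B' : Module.Basis ι F (ι → F) := B.reindex e
  let M : Matrix ι ι F := (Pi.basisFun F ι).toMatrix B'
  have hM : IsUnit M := by
    have := Module.Basis.invertibleToMatrix (Pi.basisFun F ι) B'
    exact isUnit_of_invertible M
  obtain ⟨C, hC⟩ := hM
  refine ⟨C, fun j => ?_⟩
  have : (C : Matrix ι ι F).col j = B' j := by
    rw [hC]
    ext i
    simp [M, Module.Basis.toMatrix, Matrix.col]
  rw [this]
  simp only [B', Module.Basis.reindex_apply, B, Module.Basis.mk_apply]
  exact hb (e.symm j).2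

/-- `(D5)` If `P` is absolutely irreducible over a finite field and conjugate to its twist by the field automorphism `σ` through
`X` (`σ(s) X = X s` for all `s`), then `P` is realisable over the fixed field of `σ`. -/
theorem realisableOver_of_twist [Finite F] {P : Subgroup (GL ι F)}
    (hirr : ActsAbsolutelyIrreducibly (matrixSet P)) (σ : F ≃+* F) {X : Matrix ι ι F} (hX0 : IsUnit X)
    (hX : ∀ s ∈ matrixSet P, s.map σ * X = X * s) : RealisableOver (fixedBy σ) (matrixSet P) := by
  classical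
  by_cases hι : Nonempty ι
  swap
  · exact ⟨1, fun s _ i => (hι ⟨i⟩).elim⟩
  obtain ⟨X, rfl⟩ := hX0
  set Xi : Matrix ι ι F := ((X⁻¹ : GL ι F) : Matrix ι ι F) with hXi
  have hXXi : (X : Matrix ι ι F) * Xi = 1 := by rw [hXi, ← Units.val_mul, mul_inv_cancel, Units.val_one]
  have hXiX : Xi * (X : Matrix ι ι F) = 1 := by rw [hXi, ← Units.val_mul, inv_mul_cancel, Units.val_one]
  -- the semilinear map `J`
  let J : (ι → F) → (ι → F) := fun v => Xi *ᵥ fun i => σ (v i)
  have Jadd : ∀ v w, J (v + w) = J v + J w := by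
    intro v w
    have : (fun i => σ ((v + w) i)) = (fun i => σ (v i)) + fun i => σ (w i) := by ext i; simp
    simp only [J, this, Matrix.mulVec_add]
  have Jsmul : ∀ (a : F) v, J (a • v) = σ a • J v := by
    intro a v
    have : (fun i => σ ((a • v) i)) = σ a • fun i => σ (v i) := by ext i; simp
    simp only [J, this, Matrix.mulVec_smul]
  have Jcomm : ∀ s ∈ matrixSet P, ∀ v, J (s *ᵥ v) = s *ᵥ J v := by
    intro s hs v
    have h1 : (fun i => σ ((s *ᵥ v) i)) = (s.map σ) *ᵥ fun i => σ (v i) := by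
      ext i
      simp [Matrix.mulVec, dotProduct, map_sum]
    simp only [J, h1, Matrix.mulVec_mulVec]
    congr 1
    calc Xi * s.map σ = Xi * (s.map σ * ((X : Matrix ι ι F) * Xi)) := by rw [hXXi, Matrix.mul_one]
      _ = Xi * (s.map σ * (X : Matrix ι ι F)) * Xi := by simp only [mul_assoc]
      _ = Xi * ((X : Matrix ι ι F) * s) * Xi := by rw [hX s hs]
      _ = (Xi * (X : Matrix ι ι F)) * s * Xi := by simp only [mul_assoc]
      _ = s * Xi := by rw [hXiX, Matrix.one_mul]
  have Jinj : ∀ v, J v = 0 → v = 0 := by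
    intro v hv
    have h1 : (X : Matrix ι ι F) *ᵥ J v = fun i => σ (v i) := by
      simp only [J, Matrix.mulVec_mulVec, hXXi, Matrix.one_mulVec]
    rw [hv, Matrix.mulVec_zero] at h1
    ext i
    have := congrFun h1 i
    simpa using this.symm
  set d := orderOf (autOver σ) with hd
  have hdpos : 0 < d := by
    rw [hd]; exact orderOf_pos _
  have hσd : ∀ a : F, (σ ^ d) a = a := by
    intro a
    rw [← autOver_pow_apply, hd, pow_orderOf_eq_one]; rfl
  -- iterates
  have itadd : ∀ (k : ℕ) v w, J^[k] (v + w) = J^[k] v + J^[k] w := by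
    intro k
    induction k with
    | zero => intro v w; rfl
    | succ k ih => intro v w; rw [Function.iterate_succ_apply, Jadd, ih]; rfl
  have σpow : ∀ (k : ℕ) (a : F), (σ ^ (k+1)) a = (σ ^ k) (σ a) := by
    intro k a; rw [pow_succ]; rfl
  have itsmul : ∀ (k : ℕ) (a : F) v, J^[k] (a • v) = (σ ^ k) a • J^[k] v := by
    intro k
    induction k with
    | zero => intro a v; rfl
    | succ k ih => intro a v; rw [Function.iterate_succ_apply, Jsmul, ih, σpow]; rfl
  have itcomm : ∀ (k : ℕ), ∀ s ∈ matrixSet P, ∀ v, J^[k] (s *ᵥ v) = s *ᵥ J^[k] v := by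
    intro k
    induction k with
    | zero => intro s _ v; rfl
    | succ k ih => intro s hs v; rw [Function.iterate_succ_apply, Jcomm s hs, ih s hs]; rfl
  have itinj : ∀ (k : ℕ) v, J^[k] v = 0 → v = 0 := by
    intro k
    induction k with
    | zero => intro v hv; exact hv
    | succ k ih => intro v hv; rw [Function.iterate_succ_apply] at hv; exact Jinj _ (ih _ hv)
  -- `J^d` is a scalar
  let T : (ι → F) →ₗ[F] (ι → F) :=
    { toFun := J^[d]
      map_add' := itadd d
      map_smul' := fun a v => by rw [itsmul, hσd]; rfl }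
  have hT : ∀ v, T v = J^[d] v := fun v => rfl
  obtain ⟨c, hc⟩ := hirr.2 (LinearMap.toMatrix' T) (by
    intro s hs
    apply Matrix.toLin'.injective
    refine LinearMap.ext fun v => ?_
    rw [Matrix.toLin'_mul, Matrix.toLin'_mul]
    simp only [Matrix.toLin'_toMatrix', LinearMap.comp_apply, Matrix.toLin'_apply, hT]
    rw [itcomm d s hs])
  have hTc : ∀ v, J^[d] v = c • v := by
    intro v
    have : T = Matrix.toLin' (c • (1 : Matrix ι ι F)) := by rw [← hc, Matrix.toLin'_toMatrix']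
    rw [← hT, this, Matrix.toLin'_apply, Matrix.smul_mulVec, Matrix.one_mulVec]
  obtain ⟨i₀⟩ := hι
  have he : (Pi.single i₀ 1 : ι → F) ≠ 0 := by
    intro h; have := congrFun h i₀; simp at this
  have hc0 : c ≠ 0 := by
    rintro rfl
    apply he
    apply itinj d
    rw [hTc, zero_smul]
  have hσc : σ c = c := by
    have h1 : J^[d] (J (Pi.single i₀ 1)) = J (J^[d] (Pi.single i₀ 1)) := by
      rw [← Function.iterate_succ_apply, Function.iterate_succ_apply']
    rw [hTc, hTc, Jsmul, ← sub_eq_zero, ← sub_smul] at h1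
    rcases smul_eq_zero.mp h1 with h2 | h2
    · exact (sub_eq_zero.mp h2).symm
    · exact absurd (Jinj _ h2) he
  -- rescale
  obtain ⟨μ, hμ⟩ := exists_prod_eq σ (c := c⁻¹) (by rw [map_inv₀, hσc])
  have hμ0 : μ ≠ 0 := by
    rintro rfl
    rw [Finset.prod_eq_zero (Finset.mem_range.mpr hdpos) (by simp)] at hμ
    exact inv_ne_zero hc0 hμ.symm
  let K : (ι → F) → (ι → F) := fun v => μ • J v
  have Kadd : ∀ v w, K (v + w) = K v + K w := by
    intro v w; simp only [K, Jadd, smul_add]
  have Ksmul : ∀ (a : F) v, K (a • v) = σ a • K v := by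
    intro a v; simp only [K, Jsmul, smul_comm μ]
  have Kcomm : ∀ s ∈ matrixSet P, ∀ v, K (s *ᵥ v) = s *ᵥ K v := by
    intro s hs v; simp only [K, Jcomm s hs, Matrix.mulVec_smul]
  have Kit : ∀ (k : ℕ) v, K^[k] v = (∏ j ∈ Finset.range k, (σ ^ j) μ) • J^[k] v := by
    intro k
    induction k with
    | zero => intro v; simp
    | succ k ih =>
      intro v
      rw [Function.iterate_succ_apply, ih]
      simp only [K]
      rw [itsmul, smul_smul, Finset.prod_range_succ, Function.iterate_succ_apply]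
  have Kd : ∀ v, K^[d] v = v := by
    intro v
    rw [Kit, hμ, hTc, smul_smul, inv_mul_cancel₀ hc0, one_smul]
  have Kitsmul : ∀ (k : ℕ) (a : F) v, K^[k] (a • v) = (σ ^ k) a • K^[k] v := by
    intro k
    induction k with
    | zero => intro a v; rfl
    | succ k ih => intro a v; rw [Function.iterate_succ_apply, Ksmul, ih, σpow]; rfl
  -- fixed vectors span
  have Ksum : ∀ (s : Finset ℕ) (g : ℕ → ι → F), K (∑ k ∈ s, g k) = ∑ k ∈ s, K (g k) := by
    intro s g
    have K0 : K 0 = 0 := by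
      have := Ksmul 0 0
      simpa using this
    induction s using Finset.induction_on with
    | empty => simp [K0]
    | insert a s ha ih => rw [Finset.sum_insert ha, Finset.sum_insert ha, Kadd, ih]
  have hfix : ∀ v, K (∑ k ∈ Finset.range d, K^[k] v) = ∑ k ∈ Finset.range d, K^[k] v := by
    intro v
    rw [Ksum]
    have h1 : ∀ k, K (K^[k] v) = K^[k+1] v := fun k => (Function.iterate_succ_apply' K k v).symm
    simp only [h1]
    have h2 := Finset.sum_range_succ (fun k => K^[k] v) d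
    have h3 := Finset.sum_range_succ' (fun k => K^[k] v) d
    rw [h2, Kd] at h3
    have h4 : (∑ k ∈ Finset.range d, K^[k] v) + v = (∑ k ∈ Finset.range d, K^[k+1] v) + v := h3
    exact (add_right_cancel h4).symm
  have hspan : Submodule.span F {v | K v = v} = ⊤ := by
    by_contra hne
    obtain ⟨φ, hφ0, hφ⟩ := Submodule.exists_dual_map_eq_bot_of_lt_top (lt_top_iff_ne_top.mpr hne) inferInstance
    apply hφ0
    refine LinearMap.ext fun v => ?_
    have hinj : Function.Injective (fun k : Fin d => ((σ ^ (k : ℕ) : F ≃+* F) : F →* F)) := by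
      intro a b hab
      apply Fin.ext
      have h1 : autOver σ ^ (a : ℕ) = autOver σ ^ (b : ℕ) := by
        ext x
        rw [autOver_pow_apply, autOver_pow_apply]
        exact DFunLike.congr_fun hab x
      exact pow_injOn_Iio_orderOf a.2 b.2 h1
    have hli := (linearIndependent_monoidHom F F).comp _ hinj
    rw [Fintype.linearIndependent_iff] at hli
    have hzero : ∀ a : F, ∑ k ∈ Finset.range d, (σ ^ k) a * φ (K^[k] v) = 0 := by
      intro a
      have h1 : φ (∑ k ∈ Finset.range d, K^[k] (a • v)) = 0 := by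
        have h2 : φ (∑ k ∈ Finset.range d, K^[k] (a • v)) ∈
            (Submodule.span F {v | K v = v}).map φ :=
          Submodule.mem_map_of_mem (Submodule.subset_span (hfix (a • v)))
        rw [hφ, Submodule.mem_bot] at h2
        exact h2
      rw [map_sum] at h1
      rw [← h1]
      refine Finset.sum_congr rfl fun k _ => ?_
      rw [Kitsmul, map_smul, smul_eq_mul]
    have := hli (fun k => φ (K^[(k : ℕ)] v)) (by
      funext a
      simp only [Finset.sum_apply, Pi.smul_apply, Function.comp_apply, smul_eq_mul, Pi.zero_apply]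
      rw [← hzero a, Finset.sum_range]
      refine Finset.sum_congr rfl fun k _ => ?_
      rw [mul_comm]
      rfl) ⟨0, hdpos⟩
    exact this
  obtain ⟨C, hC⟩ := exists_gl_of_span _ hspan
  have KC : ∀ w, K ((C : Matrix ι ι F) *ᵥ w) = (C : Matrix ι ι F) *ᵥ fun i => σ (w i) := by
    intro w
    have e1 : ∀ w : ι → F, (C : Matrix ι ι F) *ᵥ w = ∑ j, w j • (C : Matrix ι ι F).col j := by
      intro w
      funext i
      rw [Finset.sum_apply]
      exact Finset.sum_congr rfl fun j _ => mul_comm _ _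
    have K0 : K 0 = 0 := by
      have := Ksmul 0 0
      simpa using this
    have Ksum' : ∀ (s : Finset ι) (g : ι → ι → F), K (∑ k ∈ s, g k) = ∑ k ∈ s, K (g k) := by
      intro s g
      induction s using Finset.induction_on with
      | empty => simp [K0]
      | insert a s ha ih => rw [Finset.sum_insert ha, Finset.sum_insert ha, Kadd, ih]
    rw [e1, e1, Ksum']
    refine Finset.sum_congr rfl fun j _ => ?_
    rw [Ksmul, hC j]
  refine ⟨C⁻¹, fun s hs i j => ?_⟩
  rw [inv_inv]
  set a : Matrix ι ι F := ((C⁻¹ : GL ι F) : Matrix ι ι F) * s * (C : Matrix ι ι F) with ha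
  have hCC : (C : Matrix ι ι F) * ((C⁻¹ : GL ι F) : Matrix ι ι F) = 1 := by
    rw [← Units.val_mul, mul_inv_cancel, Units.val_one]
  have hCC' : ((C⁻¹ : GL ι F) : Matrix ι ι F) * (C : Matrix ι ι F) = 1 := by
    rw [← Units.val_mul, inv_mul_cancel, Units.val_one]
  have hsC : s * (C : Matrix ι ι F) = (C : Matrix ι ι F) * a := by
    rw [ha, ← mul_assoc, ← mul_assoc, hCC, Matrix.one_mul]
  have hmain : (C : Matrix ι ι F) * a = (C : Matrix ι ι F) * a.map σ := by
    apply Matrix.toLin'.injective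
    refine LinearMap.ext fun w' => ?_
    obtain ⟨w, rfl⟩ : ∃ w : ι → F, w' = fun i => σ (w i) := ⟨fun i => σ.symm (w' i), by ext i; simp⟩
    rw [Matrix.toLin'_apply, Matrix.toLin'_apply]
    have h1 : K (s *ᵥ ((C : Matrix ι ι F) *ᵥ w)) = s *ᵥ ((C : Matrix ι ι F) *ᵥ fun i => σ (w i)) := by
      rw [Kcomm s hs, KC]
    rw [Matrix.mulVec_mulVec, hsC, ← Matrix.mulVec_mulVec, KC, Matrix.mulVec_mulVec, hsC] at h1
    rw [← h1, mulVec_map, Matrix.mulVec_mulVec]
  have hmain2 : a = a.map σ := by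
    calc a = ((C⁻¹ : GL ι F) : Matrix ι ι F) * ((C : Matrix ι ι F) * a) := by
          rw [← mul_assoc, hCC', Matrix.one_mul]
      _ = ((C⁻¹ : GL ι F) : Matrix ι ι F) * ((C : Matrix ι ι F) * a.map σ) := by rw [hmain]
      _ = a.map σ := by rw [← mul_assoc, hCC', Matrix.one_mul]
  rw [mem_fixedBy]
  have := congrFun (congrFun hmain2 i) j
  rw [Matrix.map_apply] at this
  exact this.symm


theorem exists_prime_index_subfield {F : Type*} [Field F] [Finite F] (F₀ : Subfield F) (h : F₀ ≠ ⊤) :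
    ∃ F₁ : Subfield F, F₀ ≤ F₁ ∧ F₁ ≠ ⊤ ∧ ∃ r, r.Prime ∧ Nat.card F = Nat.card F₁ ^ r := by
  have hgal : IsGalois F₀ F := inferInstance
  have hfd : FiniteDimensional F₀ F := inferInstance
  have hd : Module.finrank F₀ F ≠ 1 := by
    intro h1
    apply h
    rw [eq_top_iff]
    intro x _
    have := (finrank_eq_one_iff_of_nonzero' (1 : F) one_ne_zero).mp h1 x
    obtain ⟨c, hc⟩ := this
    rw [← hc, Subfield.smul_def, smul_eq_mul, mul_one]
    exact c.2
  obtain ⟨r, hr, hrd⟩ := Nat.exists_prime_and_dvd hd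
  rw [← IsGalois.card_aut_eq_finrank F₀ F] at hrd
  have : Fact r.Prime := ⟨hr⟩
  obtain ⟨g, hg⟩ := exists_prime_orderOf_dvd_card' r hrd
  let K : IntermediateField F₀ F := IntermediateField.fixedField (Subgroup.zpowers g)
  have hK : Module.finrank K F = r := by
    have := IntermediateField.finrank_fixedField_eq_card (Subgroup.zpowers g) (F := F₀) (E := F)
    rw [this, Nat.card_zpowers, hg]
  have hcard : Nat.card F = Nat.card K ^ r := by
    rw [← hK]
    exact Module.natCard_eq_pow_finrank (K := K) (V := F)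
  refine ⟨K.toSubfield, ?_, ?_, r, hr, ?_⟩
  · intro x hx
    exact K.algebraMap_mem ⟨x, hx⟩
  · intro ht
    have h1 : Nat.card K = Nat.card F := by
      have h2 : (K.toSubfield : Set F) = Set.univ := by rw [ht]; rfl
      have h3 : (K : Set F) = Set.univ := h2
      have := Nat.card_congr (Equiv.Set.univ F)
      rw [← this]
      exact Nat.card_congr (Equiv.setCongr h3)
    rw [h1] at hcard
    have h4 : 1 < Nat.card F := Finite.one_lt_card
    have h5 : Nat.card F ^ 1 < Nat.card F ^ r := Nat.pow_lt_pow_right h4 hr.one_lt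
    rw [← hcard, pow_one] at h5
    exact lt_irrefl _ h5
  · exact hcard

end Cfsg.Agent.H914
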