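import Cfsg.Agent.H875.SpDec
import Cfsg.Agent.H914.Quad
import Cfsg.Agent.H924.SympForm
set_option linter.all false

/-!
# Small exclusions for maximal subgroups of symplectic groups (helper914)

`quad_of_frame_two`: over the field with two elements, the stabiliser of a decomposition into non-degenerate 2-spaces
preserves a quadratic form whose polar form is the symplectic form.
-/

set_option autoImplicit false
set_option linter.unusedSectionVars false

namespace Cfsg.Agent.H914

open Cfsg Cfsg.Geo
open Cfsg.Agent.H875 (IsProj exists_isProj)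
open scoped MatrixGroups Matrix

variable {ι : Type} [Fintype ι] [DecidableEq ι] {F : Type*} [Field F]

theorem eq_zero_or_one_of_card_two [Fintype F] (h : Fintype.card F = 2) (a : F) : a = 0 ∨ a = 1 := by
  classical
  by_contra hcon
  push Not at hcon
  have : 2 < Fintype.card F := Fintype.two_lt_card_iff.mpr ⟨0, 1, a, zero_ne_one, hcon.1.symm, hcon.2.symm⟩
  omega

theorem two_eq_zero_of_card_two [Fintype F] (h : Fintype.card F = 2) : (2 : F) = 0 := by
  rcases eq_zero_or_one_of_card_two h (2 : F) with h1 | h1
  · exact h1
  · exfalso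
    have : (1 : F) = 0 := by linear_combination h1
    exact one_ne_zero this

/-- Projections of a decomposition are compatible with an element permuting the members. -/
theorem proj_map {t : ℕ} {D : Fin t → Submodule F (ι → F)} {P : Fin t → ((ι → F) →ₗ[F] (ι → F))}
    (hP : IsProj D P) {g : Matrix ι ι F} {σ : Equiv.Perm (Fin t)}
    (hσ : ∀ i, (D i).map (Matrix.toLin' g) = D (σ i)) (i : Fin t) (v : ι → F) :
    P (σ i) (g *ᵥ v) = g *ᵥ (P i v) := by
  have hmem : ∀ j, g *ᵥ (P j v) ∈ D (σ j) := by
    intro j
    rw [← hσ j]
    exact ⟨P j v, hP.mem j v, rfl⟩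
  conv_lhs => rw [← hP.sum v]
  rw [Matrix.mulVec_sum, map_sum, Finset.sum_eq_single i]
  · exact hP.same _ _ (hmem i)
  · intro j _ hj
    exact hP.ne _ _ (fun h => hj (σ.injective h).symm) _ (hmem j)
  · intro h; exact absurd (Finset.mem_univ i) h

/-- `(E1)` Over the field with two elements, the stabiliser of a decomposition into pairwise orthogonal non-degenerate
2-spaces preserves a quadratic form polarising to the symplectic form. -/
theorem quad_of_frame_two [Fintype F] (hF : Fintype.card F = 2) {f : (ι → F) → (ι → F) → F}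
    (hf : IsSymplecticForm f) {t : ℕ} {D : Fin t → Submodule F (ι → F)}
    (hD : IsNondegenerateMDecomposition f 2 D) :
    ∃ Q : (ι → F) → F, IsNondegenerateQuadraticForm Q ∧ (∀ u v, QuadraticMap.polar Q u v = f u v) ∧
      decompositionStabilizer D ≤ quadSimilarityGroup Q := by
  classical
  obtain ⟨P, hP⟩ := exists_isProj hD.decomp.indep hD.decomp.iSup_eq_top
  have h2 := two_eq_zero_of_card_two hF
  let ε : (ι → F) → F := fun x => if x = 0 then 0 else 1
  have hε0 : ε 0 = 0 := by simp [ε]
  have hε1 : ∀ x, x ≠ 0 → ε x = 1 := fun x hx => by simp [ε, hx]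
  let Q : (ι → F) → F := fun v => ∑ i, ε (P i v)
  have hs := hf.bilinear
  have hfz : ∀ v, f 0 v = 0 := fun v => by simpa using hs.smul_left 0 0 v
  have hfz' : ∀ v, f v 0 = 0 := fun v => by simpa using hs.smul_right 0 v 0
  have hneg : ∀ x : ι → F, x + x = 0 := by
    intro x
    rw [← two_smul F x, h2, zero_smul]
  -- one block
  have hblock : ∀ i, ∀ a ∈ D i, ∀ b ∈ D i, ε (a + b) - ε a - ε b = f a b := by
    intro i a ha b hb
    by_cases ha0 : a = 0
    · subst ha0; rw [zero_add, hε0, hfz]; ring
    by_cases hb0 : b = 0
    · subst hb0; rw [add_zero, hε0, hfz']; ring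
    by_cases hab : a = b
    · subst hab
      rw [hneg, hε0, hε1 _ ha0, hf.alternating]
      linear_combination -h2
    have hab' : a + b ≠ 0 := by
      intro h
      apply hab
      have : a = -b := eq_neg_of_add_eq_zero_left h
      rw [this, neg_eq_iff_add_eq_zero]
      exact hneg b
    rw [hε1 _ ha0, hε1 _ hb0, hε1 _ hab']
    rcases eq_zero_or_one_of_card_two hF (f a b) with h | h
    · exfalso
      -- `a, b` span `D i`
      have hli : LinearIndependent F ![a, b] := by
        rw [LinearIndependent.pair_iff]
        intro s t hst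
        rcases eq_zero_or_one_of_card_two hF s with rfl | rfl <;>
        rcases eq_zero_or_one_of_card_two hF t with rfl | rfl
        · exact ⟨rfl, rfl⟩
        · simp at hst; exact absurd hst hb0
        · simp at hst; exact absurd hst ha0
        · simp at hst; exact absurd hst hab'
      have hspan : Submodule.span F (Set.range ![a, b]) = D i := by
        apply Submodule.eq_of_le_of_finrank_eq
        · rw [Submodule.span_le]
          rintro _ ⟨k, rfl⟩
          fin_cases k
          · exact ha
          · exact hb
        · rw [finrank_span_eq_card hli, hD.decomp.finrank_eq i]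
          simp
      obtain ⟨⟨x, hx, hxa⟩, -⟩ := hD.nondegenerate i a ha ha0
      apply hxa
      rw [← hspan] at hx
      clear hxa
      induction hx using Submodule.span_induction with
      | mem x hx =>
        obtain ⟨k, rfl⟩ := hx
        fin_cases k
        · exact hf.alternating a
        · show f b a = 0
          rw [hf.skew, h, neg_zero]
      | zero => exact hfz a
      | add x y _ _ h1 h2 => rw [hs.add_left, h1, h2, add_zero]
      | smul c x _ h1 => rw [hs.smul_left, h1, mul_zero]
    · rw [h]
      linear_combination -h2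
  have hfsum : ∀ u v, f u v = ∑ i, f (P i u) (P i v) := by
    intro u v
    have hs' := IsSesq.of_bilinear hs
    conv_lhs => rw [← hP.sum u, ← hP.sum v]
    rw [hs'.sum_left]
    refine Finset.sum_congr rfl fun i _ => ?_
    rw [hs'.sum_right, Finset.sum_eq_single i]
    · intro j _ hj
      exact hD.orthogonal i j hj.symm _ (hP.mem i u) _ (hP.mem j v)
    · intro h; exact absurd (Finset.mem_univ i) h
  have hpol : ∀ u v, QuadraticMap.polar Q u v = f u v := by
    intro u v
    rw [hfsum]
    simp only [QuadraticMap.polar, Q, map_add]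
    rw [← Finset.sum_sub_distrib, ← Finset.sum_sub_distrib]
    exact Finset.sum_congr rfl fun i _ => hblock i _ (hP.mem i u) _ (hP.mem i v)
  have hsm : ∀ (c : F) v, Q (c • v) = c ^ 2 * Q v := by
    intro c v
    rcases eq_zero_or_one_of_card_two hF c with rfl | rfl
    · simp [Q, hε0]
    · simp
  refine ⟨Q, H924.isNondegenerateQuadraticForm_of_polar hs hf.nondegenerate hsm hpol, hpol, ?_⟩
  rintro g ⟨σ, hσ⟩
  refine ⟨1, fun v => ?_⟩
  rw [Units.val_one, one_mul]
  show ∑ i, ε (P i ((g : Matrix ι ι F) *ᵥ v)) = ∑ i, ε (P i v)
  rw [← Equiv.sum_comp σ]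
  refine Finset.sum_congr rfl fun i _ => ?_
  rw [proj_map hP hσ]
  by_cases h : P i v = 0
  · rw [h, Matrix.mulVec_zero]
  · rw [hε1 _ h, hε1]
    intro h0
    apply h
    have h1 := congrArg (fun w => ((g⁻¹ : GL ι F) : Matrix ι ι F) *ᵥ w) h0
    simpa only [Matrix.mulVec_mulVec, ← Units.val_mul, inv_mul_cancel, Units.val_one,
      Matrix.one_mulVec, Matrix.mulVec_zero] using h1

end Cfsg.Agent.H914
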