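import Cfsg.Agent.H476.JTwo.Tps_m3
import Cfsg.Agent.H464.L2StageOne_m3
import Mathlib
import Cfsg.Agent.Lib.SL2Hom
import Cfsg.Agent.H637.A7Cov
import Cfsg.Agent.H914.SixBase
import Cfsg.Agent.Lib.AutSL2Out
import Cfsg.Agent.H464.L2Num_m3
import Cfsg.Agent.H464.L2TrF_m3
import Cfsg.Agent.H906.Cover_m3
import Cfsg.Agent.Omega.TwoF.RowM12_m3
import Cfsg.Agent.SmallSimple.SylowCount
import Cfsg.Agent.H936.U33All
import Cfsg.Agent.H936.U33Two
import Cfsg.Agent.H937.T2Fields_m3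
import Cfsg.Agent.Lib.FinFast
import Cfsg.Agent.S0253
import Cfsg.Agent.H871.Par9_m3
import Cfsg.Agent.H871.Par8
import Cfsg.Agent.H918.U43.Main
import Cfsg.Agent.H95.JT.Core
import Cfsg.Agent.H937.T2Rep_m3
import Cfsg.Agent.H916.T8
import Cfsg.Agent.H614.AMod.Main
import Cfsg.Agent.H878.Sz.MainP3
import Cfsg.Agent.H659.J1Not11
import Cfsg.Agent.H161.G2Elems
import Cfsg.Agent.H161.G2Emb
import Cfsg.Agent.H638.G2Iso
import Cfsg.Agent.H4.JT.Two
import Cfsg.Agent.H4.JT.AutJ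
import Cfsg.Agent.S1619
import Cfsg.Agent.H953.Sympl
import Cfsg.Agent.H936.List12c
import Cfsg.Agent.H875.TwoQuad
import Cfsg.Agent.S0256
import Cfsg.Agent.Lib.FastPerm
import Cfsg.Agent.FastGrp
import Cfsg.Agent.Prune
set_option linter.all false

section
prune_inst 0x7f00000000000000000000000000000000000000000000000000000000000000000000000000000000000000000000000000000000000000000000000000000000000000000000000000000000000000003fffffffffffffffffffffffffffaeffbdffffffff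

section
prune_inst 0xfdb9f9fbb8b9dfdfff7e77aedcdffdf9b93fffe6dff9cbffe061ff0bdf4b02c9c5ab8d8fe810fe0ef6621410f87b53fffffeffe86ffc7ffffdfff41ffbffcfedf7b508519488340fbc0ff603f0778e7f000000000000000000000000000010000200000000

-- part: H914/SixRB
section
prune_inst 0x44000001400020000008000000000000000000000000000000000000000000005000000000000000000000000000000000000000000000000000000000000000000000000000000000018000000000000000000000000000000000000000000000000000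
set_option linter.all false
open scoped Cfsg.Agent.FastGrp

/-- Laplace expansion which skips zero entries -/
private noncomputable def detL_12f40 {R : Type*} [CommRing R] [DecidableEq R] (n : ℕ) : Matrix (Fin n) (Fin n) R → R :=
  @Nat.rec (fun n => Matrix (Fin n) (Fin n) R → R) (fun _ => 1) (fun n ih M =>
    ∑ j : Fin (n + 1), if M 0 j = 0 then 0 else (-1) ^ (j : ℕ) * M 0 j * ih (M.submatrix Fin.succ j.succAbove)) n

private theorem detL_eq_12f40 {R : Type*} [CommRing R] [DecidableEq R] {n : ℕ} (M : Matrix (Fin n) (Fin n) R) :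
    M.det = detL_12f40 n M := by
  induction n with
  | zero => exact Matrix.det_fin_zero
  | succ n ih =>
    rw [Matrix.det_succ_row_zero]
    refine Finset.sum_congr rfl fun j _ => ?_
    by_cases h : M 0 j = 0
    · rw [if_pos h, h, mul_zero, zero_mul]
    · rw [if_neg h, ih]
      rfl


-- part: H914/SpinF
section
/-!
# Symplectic bases of eigenvectors; conjugation of fixed lines (helper914)

* `exists_eig` : an endomorphism of order prime to the characteristic has an eigenvalue `≠ 1`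
* `form_ne_zero`, `sy_of_basis` : a basis of eigenvectors with distinct eigenvalues in dual pairs is symplectic
* `Fix1`, `Fix1.conj`, `Fix1.exists`
-/

set_option autoImplicit false
set_option linter.unusedSectionVars false
set_option maxHeartbeats 400000

namespace Cfsg.Agent.H914.S6.Spin

open Matrix Cfsg Cfsg.Geo Cfsg.Agent.H915.LD Module
open scoped MatrixGroups

universe u v

/-- an endomorphism of finite order prime to the characteristic, not the identity, has an eigenvalue `≠ 1` -/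
theorem exists_eig {k : Type u} [Field k] [IsAlgClosed k] {V : Type v} [AddCommGroup V] [Module k V]
    [FiniteDimensional k V] (f : Module.End k V) {r : ℕ} (hr : (r : k) ≠ 0) (hf : f ^ r = 1) (hf1 : f ≠ 1) :
    ∃ (b : k) (x : V), b ≠ 1 ∧ b ^ r = 1 ∧ x ≠ 0 ∧ f x = b • x := by
  have hmap : ∀ x ∈ LinearMap.range (f - 1), f x ∈ LinearMap.range (f - 1) := by
    rintro _ ⟨x, rfl⟩
    exact ⟨f x, by simp only [LinearMap.sub_apply, Module.End.one_apply, map_sub]⟩
  have hne : Nontrivial (LinearMap.range (f - 1)) := by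
    rw [Submodule.nontrivial_iff_ne_bot]
    intro h
    rw [LinearMap.range_eq_bot, sub_eq_zero] at h
    exact hf1 h
  obtain ⟨b, hb⟩ := Module.End.exists_eigenvalue (f.restrict hmap)
  obtain ⟨x, hx⟩ := hb.exists_hasEigenvector
  have hx0 : (x : V) ≠ 0 := fun h => hx.2 (Subtype.ext h)
  have hfx : f x = b • (x : V) := by
    have := congrArg Subtype.val hx.apply_eq_smul
    simpa using this
  have hpow : ∀ n : ℕ, (f ^ n) (x : V) = b ^ n • (x : V) := by
    intro n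
    induction n with
    | zero => simp
    | succ n ih => rw [pow_succ, Module.End.mul_apply, hfx, map_smul, ih, smul_smul, pow_succ, mul_comm]
  refine ⟨b, x, ?_, ?_, hx0, hfx⟩
  · rintro rfl
    rw [one_smul] at hfx
    obtain ⟨y, hy⟩ := x.2
    have hy' : f y = y + x := by
      rw [← hy, LinearMap.sub_apply, Module.End.one_apply]
      abel
    have hpow' : ∀ n : ℕ, (f ^ n) y = y + (n : k) • (x : V) := by
      intro n
      induction n with
      | zero => simp only [_root_.pow_zero, _root_.Module.End.one_apply, _root_.Nat.cast_zero, _root_.zero_smul, _root_.add_zero]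
      | succ n ih =>
        rw [pow_succ', Module.End.mul_apply, ih, map_add, map_smul, hfx, hy', Nat.cast_succ, add_smul, one_smul]
        abel
    have h1 := hpow' r
    rw [hf, Module.End.one_apply, left_eq_add, smul_eq_zero] at h1
    rcases h1 with h1 | h1
    · exact hr h1
    · exact hx0 h1
  · have h1 := hpow r
    rw [hf, Module.End.one_apply] at h1
    by_contra hne
    have : (b ^ r - 1) • (x : V) = 0 := by rw [sub_smul, one_smul, ← h1, sub_self]
    rcases smul_eq_zero.1 this with h | h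
    · exact hne (sub_eq_zero.1 h)
    · exact hx0 h

section Basis

variable {k : Type u} [Field k]

theorem form_mul {A : Matrix (Fin 3 ⊕ Fin 3) (Fin 3 ⊕ Fin 3) k} (hA : Sy A) (x y : Fin 3 ⊕ Fin 3 → k) :
    sympForm 3 k (A *ᵥ x) (A *ᵥ y) = sympForm 3 k x y := by
  unfold sympForm
  conv_rhs => rw [← hA]
  rw [← Matrix.mulVec_mulVec, ← Matrix.mulVec_mulVec, Matrix.dotProduct_mulVec x, Matrix.vecMul_transpose]

theorem form_eq_zero {A : Matrix (Fin 3 ⊕ Fin 3) (Fin 3 ⊕ Fin 3) k} (hA : Sy A) {x y : Fin 3 ⊕ Fin 3 → k} {a b : k}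
    (hx : A *ᵥ x = a • x) (hy : A *ᵥ y = b • y) (hab : a * b ≠ 1) : sympForm 3 k x y = 0 := by
  have h1 := form_mul hA x y
  rw [hx, hy] at h1
  unfold sympForm at *
  rw [Matrix.mulVec_smul, dotProduct_smul, smul_dotProduct, smul_eq_mul, smul_eq_mul, ← mul_assoc, mul_comm b a] at h1
  by_contra h
  exact hab (mul_right_cancel₀ h (h1.trans (one_mul _).symm))

/-- the dual index -/
def du : Fin 3 ⊕ Fin 3 → Fin 3 ⊕ Fin 3 := Sum.elim Sum.inr Sum.inl

theorem linInd {A : Matrix (Fin 3 ⊕ Fin 3) (Fin 3 ⊕ Fin 3) k} {v : Fin 3 ⊕ Fin 3 → Fin 3 ⊕ Fin 3 → k}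
    {l : Fin 3 ⊕ Fin 3 → k} (hv0 : ∀ i, v i ≠ 0) (hv : ∀ i, A *ᵥ v i = l i • v i) (hl : Function.Injective l) :
    LinearIndependent k v :=
  Module.End.eigenvectors_linearIndependent' (Matrix.toLin' A) l hl v
    fun i => Module.End.hasEigenvector_iff.2 ⟨Module.End.mem_eigenspace_iff.2 (by rw [Matrix.toLin'_apply, hv]), hv0 i⟩

theorem isUnit_basis {v : Fin 3 ⊕ Fin 3 → Fin 3 ⊕ Fin 3 → k} (h : LinearIndependent k v) :
    IsUnit (Matrix.of fun i j => v j i : Matrix (Fin 3 ⊕ Fin 3) (Fin 3 ⊕ Fin 3) k) := by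
  rw [← Matrix.linearIndependent_cols_iff_isUnit]
  exact h

/-- dual eigenvectors are not orthogonal -/
theorem form_ne_zero {A : Matrix (Fin 3 ⊕ Fin 3) (Fin 3 ⊕ Fin 3) k} (hA : Sy A)
    {v : Fin 3 ⊕ Fin 3 → Fin 3 ⊕ Fin 3 → k} {l : Fin 3 ⊕ Fin 3 → k} (hv0 : ∀ i, v i ≠ 0)
    (hv : ∀ i, A *ᵥ v i = l i • v i) (hl : Function.Injective l) (hdu : ∀ i, l i * l (du i) = 1) (i : Fin 3 ⊕ Fin 3) :
    sympForm 3 k (v i) (v (du i)) ≠ 0 := by
  intro h0
  have hall : ∀ j, sympForm 3 k (v i) (v j) = 0 := by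
    intro j
    by_cases hj : j = du i
    · rw [hj, h0]
    · apply form_eq_zero hA (hv i) (hv j)
      intro h
      apply hj
      apply hl
      have hi : l i ≠ 0 := by
        intro h3
        rw [h3, zero_mul] at h
        exact zero_ne_one h
      exact mul_left_cancel₀ hi (h.trans (hdu i).symm)
  have hT := isUnit_basis (linInd hv0 hv hl)
  have h1 : (v i) ᵥ* (Matrix.J (Fin 3) k * (Matrix.of fun i j => v j i : Matrix (Fin 3 ⊕ Fin 3) (Fin 3 ⊕ Fin 3) k)) =
      0 := by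
    funext j
    rw [← Matrix.vecMul_vecMul, Pi.zero_apply, ← hall j]
    unfold sympForm
    rw [Matrix.dotProduct_mulVec]
    rfl
  have hJ : IsUnit (Matrix.J (Fin 3) k) := ⟨⟨Matrix.J (Fin 3) k, -Matrix.J (Fin 3) k,
    by rw [Matrix.mul_neg, Matrix.J_squared, neg_neg], by rw [Matrix.neg_mul, Matrix.J_squared, neg_neg]⟩, rfl⟩
  have h3 := Matrix.vecMul_injective_of_isUnit (hJ.mul hT)
  exact hv0 i (h3 (h1.trans (Matrix.zero_vecMul _).symm))

/-- a basis of eigenvectors with distinct eigenvalues, dual in pairs and normalised, is symplectic -/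
theorem sy_of_basis {A : Matrix (Fin 3 ⊕ Fin 3) (Fin 3 ⊕ Fin 3) k} (hA : Sy A)
    {v : Fin 3 ⊕ Fin 3 → Fin 3 ⊕ Fin 3 → k} {l : Fin 3 ⊕ Fin 3 → k}
    (hv : ∀ i, A *ᵥ v i = l i • v i) (hl : Function.Injective l) (hdu : ∀ i, l i * l (du i) = 1)
    (h1 : ∀ i : Fin 3, sympForm 3 k (v (Sum.inr i)) (v (Sum.inl i)) = 1)
    (h2 : ∀ i : Fin 3, sympForm 3 k (v (Sum.inl i)) (v (Sum.inr i)) = -1) :
    Sy (Matrix.of fun i j => v j i : Matrix (Fin 3 ⊕ Fin 3) (Fin 3 ⊕ Fin 3) k) := by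
  have e : ∀ i j, ((Matrix.of fun i j => v j i : Matrix (Fin 3 ⊕ Fin 3) (Fin 3 ⊕ Fin 3) k)ᵀ * Matrix.J (Fin 3) k *
      (Matrix.of fun i j => v j i : Matrix (Fin 3 ⊕ Fin 3) (Fin 3 ⊕ Fin 3) k)) i j = sympForm 3 k (v i) (v j) := by
    intro i j
    rw [Matrix.mul_assoc, Matrix.mul_apply]
    unfold sympForm
    rfl
  have hz : ∀ i j, j ≠ du i → sympForm 3 k (v i) (v j) = 0 := by
    intro i j hj
    apply form_eq_zero hA (hv i) (hv j)
    intro h
    apply hj
    apply hl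
    have hi : l i ≠ 0 := by
      intro h3
      rw [h3, zero_mul] at h
      exact zero_ne_one h
    exact mul_left_cancel₀ hi (h.trans (hdu i).symm)
  unfold Sy
  ext i j
  rw [e]
  by_cases hj : j = du i
  · subst hj
    rcases i with i | i
    · exact (h2 i).trans (by simp [du, Matrix.J])
    · exact (h1 i).trans (by simp [du, Matrix.J])
  · rw [hz i j hj]
    rcases i with i | i <;> rcases j with j | j
    · simp [Matrix.J]
    · have : i ≠ j := by
        rintro rfl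
        exact hj rfl
      simp [Matrix.J, Matrix.one_apply_ne this]
    · have : i ≠ j := by
        rintro rfl
        exact hj rfl
      simp [Matrix.J, Matrix.one_apply_ne this]
    · simp [Matrix.J]

end Basis

section Conj

variable {k : Type u} [Field k] {G : Type v} [Group G]

/-- `n` spans the space of vectors fixed by the representation -/
structure Fix1 (ρ : G →* GL (Fin 3 ⊕ Fin 3) k) (n : E → k) : Prop where
  ne : n ≠ 0
  fix : ∀ g, C (ρ g : Matrix (Fin 3 ⊕ Fin 3) (Fin 3 ⊕ Fin 3) k) *ᵥ n = n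
  uniq : ∀ n' : E → k, (∀ g, C (ρ g : Matrix (Fin 3 ⊕ Fin 3) (Fin 3 ⊕ Fin 3) k) *ᵥ n' = n') → ∃ c : k, n' = c • n

/-- fixed lines of conjugate representations -/
theorem Fix1.conj (h2 : (2 : k) = 0) {ρ ρ' : G →* GL (Fin 3 ⊕ Fin 3) k} (hρ : ∀ g, ρ g ∈ spGL 3 k)
    {T : GL (Fin 3 ⊕ Fin 3) k} (hT : T ∈ spGL 3 k) (hconj : ∀ g, ρ' g = T⁻¹ * ρ g * T) {n : E → k} (h : Fix1 ρ' n) :
    Fix1 ρ (C (T : Matrix (Fin 3 ⊕ Fin 3) (Fin 3 ⊕ Fin 3) k) *ᵥ n) := by
  have hTi : (T⁻¹ : GL (Fin 3 ⊕ Fin 3) k) ∈ spGL 3 k := inv_mem hT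
  have e1 : C (T : Matrix (Fin 3 ⊕ Fin 3) (Fin 3 ⊕ Fin 3) k) *
      C ((T⁻¹ : GL (Fin 3 ⊕ Fin 3) k) : Matrix (Fin 3 ⊕ Fin 3) (Fin 3 ⊕ Fin 3) k) = 1 := by
    rw [← C_mul h2 (sy_of_mem hT) (sy_of_mem hTi), ← Units.val_mul, mul_inv_cancel, Units.val_one, C_one]
  have e2 := mul_eq_one_comm.1 e1
  have e3 : ∀ g, C (ρ' g : Matrix (Fin 3 ⊕ Fin 3) (Fin 3 ⊕ Fin 3) k) =
      C ((T⁻¹ : GL (Fin 3 ⊕ Fin 3) k) : Matrix (Fin 3 ⊕ Fin 3) (Fin 3 ⊕ Fin 3) k) *
      C (ρ g : Matrix (Fin 3 ⊕ Fin 3) (Fin 3 ⊕ Fin 3) k) * C (T : Matrix (Fin 3 ⊕ Fin 3) (Fin 3 ⊕ Fin 3) k) := by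
    intro g
    rw [hconj, Units.val_mul, Units.val_mul, C_mul h2 ((sy_of_mem hTi).mul (sy_of_mem (hρ g))) (sy_of_mem hT),
      C_mul h2 (sy_of_mem hTi) (sy_of_mem (hρ g))]
  refine ⟨?_, ?_, ?_⟩
  · intro h0
    apply h.ne
    calc n = (C ((T⁻¹ : GL (Fin 3 ⊕ Fin 3) k) : Matrix (Fin 3 ⊕ Fin 3) (Fin 3 ⊕ Fin 3) k) *
        C (T : Matrix (Fin 3 ⊕ Fin 3) (Fin 3 ⊕ Fin 3) k)) *ᵥ n := by rw [e2, Matrix.one_mulVec]
      _ = 0 := by rw [← Matrix.mulVec_mulVec, h0, Matrix.mulVec_zero]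
  · intro g
    have h1 := h.fix g
    rw [e3] at h1
    have h3 := congrArg (fun x => C (T : Matrix (Fin 3 ⊕ Fin 3) (Fin 3 ⊕ Fin 3) k) *ᵥ x) h1
    rw [Matrix.mulVec_mulVec, ← Matrix.mul_assoc, ← Matrix.mul_assoc, e1, Matrix.one_mul] at h3
    rw [Matrix.mulVec_mulVec, h3]
  · intro n' hn'
    obtain ⟨c, hc⟩ := h.uniq (C ((T⁻¹ : GL (Fin 3 ⊕ Fin 3) k) : Matrix (Fin 3 ⊕ Fin 3) (Fin 3 ⊕ Fin 3) k) *ᵥ n')
      (fun g => by
        rw [e3, Matrix.mulVec_mulVec, Matrix.mul_assoc, e1, Matrix.mul_one, ← Matrix.mulVec_mulVec, hn' g])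
    refine ⟨c, ?_⟩
    rw [← Matrix.mulVec_smul, ← hc, Matrix.mulVec_mulVec, e1, Matrix.one_mulVec]

/-- descent of the fixed line -/
theorem Fix1.exists {F : Type u} [Field F] [Algebra F k] {P : Subgroup (GL (Fin 3 ⊕ Fin 3) F)} (f : G →* P)
    (hf : Function.Surjective f) {ρ : G →* GL (Fin 3 ⊕ Fin 3) k}
    (hρ : ∀ g, (ρ g : Matrix (Fin 3 ⊕ Fin 3) (Fin 3 ⊕ Fin 3) k) =
      ((f g : GL (Fin 3 ⊕ Fin 3) F) : Matrix (Fin 3 ⊕ Fin 3) (Fin 3 ⊕ Fin 3) F).map (algebraMap F k))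
    {n : E → k} (h : Fix1 ρ n) : ∃ n : E → F, FixOne P n := by
  apply exists_fixOne h.ne
  · intro g hg
    obtain ⟨x, hx⟩ := hf ⟨g, hg⟩
    have h1 := h.fix x
    rw [hρ, hx] at h1
    exact h1
  · intro n' hn'
    apply h.uniq
    intro x
    rw [hρ]
    exact hn' _ (f x).2

end Conj

end Cfsg.Agent.H914.S6.Spin
end

-- part: H914/SpinL
section
/-!
# `L₂(13)` in `Sp₆(2^a)` fixes a line of the spin module (helper914)
-/

set_option autoImplicit false
set_option linter.unusedSectionVars false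
set_option maxHeartbeats 400000

namespace Cfsg.Agent.H914.S6.Spin.L

open Matrix Cfsg Cfsg.Geo Cfsg.Agent.H915.LD Module Cfsg.Agent.H464.Sl2
open scoped MatrixGroups

universe u v

local instance fact13 : Fact (Nat.Prime 13) := ⟨by norm_num⟩

variable {k : Type u} [Field k]

/-- the permutation `e₁ → f₃ → e₂ → f₁ → e₃ → f₂ → e₁` -/
def pi (i : Fin 3 ⊕ Fin 3) : Fin 3 ⊕ Fin 3 :=
  Sum.elim ![Sum.inr 2, Sum.inr 0, Sum.inr 1] ![Sum.inl 2, Sum.inl 0, Sum.inl 1] i

/-- the permutation matrix -/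
def hm (k : Type u) [Field k] : Matrix (Fin 3 ⊕ Fin 3) (Fin 3 ⊕ Fin 3) k := Matrix.of fun i j => if i = pi j then 1 else 0

/-- the all-inl triple -/
abbrev e0 : E := (false, false, false)
/-- the all-inr triple -/
abbrev e1 : E := (true, true, true)

/-- the fixed vector -/
def n0 (k : Type u) [Field k] : E → k := fun ε => if ε = e0 ∨ ε = e1 then 1 else 0

theorem C_hm (h2 : (2 : k) = 0) (δ ε : E) : C (hm k) δ ε = if δ = (!ε.2.1, !ε.2.2, !ε.1) then 1 else 0 := by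
  have hneg : (-1 : k) = 1 := by linear_combination (-1 : k) * h2
  obtain ⟨a, b, c⟩ := δ
  obtain ⟨a', b', c'⟩ := ε
  rw [C_apply]
  simp only [d3, ix_zero, ix_one, ix_two, hm, pi, Matrix.of_apply]
  rcases a <;> rcases b <;> rcases c <;> rcases a' <;> rcases b' <;> rcases c' <;> simp [hneg]

theorem C_hm_mulVec (h2 : (2 : k) = 0) (n : E → k) (ε : E) :
    (C (hm k) *ᵥ n) ε = n (!ε.2.2, !ε.1, !ε.2.1) := by
  simp only [Matrix.mulVec, dotProduct, C_hm h2]
  have : ∀ x : E, (if ε = (!x.2.1, !x.2.2, !x.1) then (1 : k) else 0) * n x =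
      if x = (!ε.2.2, !ε.1, !ε.2.1) then n x else 0 := by
    intro x
    have h : (ε = (!x.2.1, !x.2.2, !x.1)) ↔ (x = (!ε.2.2, !ε.1, !ε.2.1)) := by
      constructor
      · rintro rfl
        simp
      · rintro rfl
        simp
    by_cases hx : x = (!ε.2.2, !ε.1, !ε.2.1)
    · rw [if_pos (h.2 hx), if_pos hx, one_mul]
    · rw [if_neg (fun h' => hx (h.1 h')), if_neg hx, zero_mul]
  simp only [this, Finset.sum_ite_eq', Finset.mem_univ, if_true]

/-- the data of the representation in the good basis -/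
structure Good (ρ : Matrix.SpecialLinearGroup (Fin 2) (ZMod 13) →* GL (Fin 3 ⊕ Fin 3) k) (b : kˣ) : Prop where
  two : (2 : k) = 0
  ord : orderOf b = 13
  sp : ∀ g, ρ g ∈ spGL 3 k
  cen : ρ (-1) = 1
  u1 : (ρ (u 1) : Matrix (Fin 3 ⊕ Fin 3) (Fin 3 ⊕ Fin 3) k) = dg ![b, b ^ 9, b ^ 3]
  t2 : ∀ a : (ZMod 13)ˣ, (a : ZMod 13) = 2 → (ρ (t a) : Matrix (Fin 3 ⊕ Fin 3) (Fin 3 ⊕ Fin 3) k) = hm k

/-- the exponent of a triple -/
def ex (ε : E) : ℤ := (bif ε.1 then -1 else 1) + (bif ε.2.1 then -9 else 9) + (bif ε.2.2 then -3 else 3)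

theorem wt_eq (b : kˣ) (ε : E) : wt ![b, b ^ 9, b ^ 3] ε = b ^ ex ε := by
  obtain ⟨x, y, z⟩ := ε
  unfold wt ex
  rcases x <;> rcases y <;> rcases z <;>
    simp only [Matrix.cons_val_zero, Matrix.cons_val_one, Matrix.cons_val, cond_true, cond_false] <;> group

theorem ex_cases : ∀ ε δ : E, (13 : ℤ) ∣ ex ε - ex δ → ε = δ ∨ ((ε = e0 ∨ ε = e1) ∧ (δ = e0 ∨ δ = e1)) := by
  unfold ex
  decide +kernel

theorem ex_zero : ∀ ε : E, (13 : ℤ) ∣ ex ε → ε = e0 ∨ ε = e1 := by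
  unfold ex
  decide

theorem ex_e : (13 : ℤ) ∣ ex e0 ∧ (13 : ℤ) ∣ ex e1 := by
  unfold ex
  decide


theorem eq_of_wt {b : kˣ} (hb : orderOf b = 13) {ε δ : E} (h : wt ![b, b ^ 9, b ^ 3] ε = wt ![b, b ^ 9, b ^ 3] δ) :
    ε = δ ∨ ((ε = e0 ∨ ε = e1) ∧ (δ = e0 ∨ δ = e1)) := by
  apply ex_cases
  rw [wt_eq, wt_eq, ← div_eq_one, div_eq_mul_inv, ← _root_.zpow_sub] at h
  have := orderOf_dvd_iff_zpow_eq_one.2 h
  rwa [hb] at this

theorem wt_one_iff {b : kˣ} (hb : orderOf b = 13) {ε : E} :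
    wt ![b, b ^ 9, b ^ 3] ε = 1 ↔ ε = e0 ∨ ε = e1 := by
  constructor
  · intro h
    apply ex_zero
    rw [wt_eq] at h
    have := orderOf_dvd_iff_zpow_eq_one.2 h
    rwa [hb] at this
  · intro h
    rw [wt_eq, ← orderOf_dvd_iff_zpow_eq_one, hb]
    rcases h with rfl | rfl
    exacts [ex_e.1, ex_e.2]

/-- the invariant form -/
def bt (m n : E → k) : k := ∑ ε, m ε * n (bar ε)

theorem bt_eq (h2 : (2 : k) = 0) (m n : E → k) : bt m n = m ⬝ᵥ (C (Matrix.J (Fin 3) k) *ᵥ n) := by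
  unfold bt
  rw [dotProduct]
  exact Finset.sum_congr rfl fun ε _ => by rw [C_J_mulVec h2]

theorem bt_inv (h2 : (2 : k) = 0) {g : Matrix (Fin 3 ⊕ Fin 3) (Fin 3 ⊕ Fin 3) k} (hg : Sy g) (m n : E → k) :
    bt (C g *ᵥ m) (C g *ᵥ n) = bt m n := by
  rw [bt_eq h2, bt_eq h2]
  conv_rhs => rw [← C_form h2 hg]
  rw [← Matrix.mulVec_mulVec, ← Matrix.mulVec_mulVec, Matrix.dotProduct_mulVec m, Matrix.vecMul_transpose]

theorem bt_n0 (h2 : (2 : k) = 0) : bt (n0 k) (n0 k) = 0 := by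
  unfold bt n0
  simp only [Fintype.sum_prod_type, Fintype.sum_bool, bar]
  simp only [_root_.Prod.mk.injEq, _root_.Bool.true_eq_false, _root_.and_self, _root_.or_true, ↓ _root_.reduceIte, _root_.Bool.not_true, _root_.Bool.false_eq_true, _root_.or_false, _root_.mul_one, _root_.and_true, _root_.and_false, _root_.or_self, _root_.Bool.not_false, _root_.MulZeroClass.mul_zero, _root_.add_zero, _root_.zero_add]
  linear_combination h2

namespace Good

variable {ρ : Matrix.SpecialLinearGroup (Fin 2) (ZMod 13) →* GL (Fin 3 ⊕ Fin 3) k} {b : kˣ} (D : Good ρ b)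
include D

/-- the action on the spin module -/
theorem mul (g h : Matrix.SpecialLinearGroup (Fin 2) (ZMod 13)) (m : E → k) :
    C (ρ (g * h) : Matrix (Fin 3 ⊕ Fin 3) (Fin 3 ⊕ Fin 3) k) *ᵥ m =
      C (ρ g : Matrix (Fin 3 ⊕ Fin 3) (Fin 3 ⊕ Fin 3) k) *ᵥ (C (ρ h : Matrix (Fin 3 ⊕ Fin 3) (Fin 3 ⊕ Fin 3) k) *ᵥ m) := by
  rw [map_mul, Units.val_mul, C_mul D.two (sy_of_mem (D.sp g)) (sy_of_mem (D.sp h)), Matrix.mulVec_mulVec]

theorem one (m : E → k) : C (ρ 1 : Matrix (Fin 3 ⊕ Fin 3) (Fin 3 ⊕ Fin 3) k) *ᵥ m = m := by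
  rw [map_one, Units.val_one, C_one, Matrix.one_mulVec]

theorem u_pow (n : ℕ) (m : E → k) (ε : E) : (C (ρ (u 1 ^ n) : Matrix (Fin 3 ⊕ Fin 3) (Fin 3 ⊕ Fin 3) k) *ᵥ m) ε =
    (wt ![b, b ^ 9, b ^ 3] ε : k) ^ n * m ε := by
  induction n generalizing m with
  | zero => rw [pow_zero, D.one, pow_zero, one_mul]
  | succ n ih => rw [pow_succ (u 1) n, D.mul, ih, D.u1, C_dg_mulVec, pow_succ _ n, mul_assoc]

theorem u_eq_pow (x : ZMod 13) : u x = u (1 : ZMod 13) ^ x.val := by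
  have h : ∀ n : ℕ, u (n : ZMod 13) = u 1 ^ n := by
    intro n
    induction n with
    | zero => rw [Nat.cast_zero, u_zero, pow_zero]
    | succ n ih => rw [Nat.cast_succ, u_add, ih, pow_succ]
  rw [← h, ZMod.natCast_zmod_val]

theorem u_n0 (x : ZMod 13) : C (ρ (u x) : Matrix (Fin 3 ⊕ Fin 3) (Fin 3 ⊕ Fin 3) k) *ᵥ n0 k = n0 k := by
  rw [D.u_eq_pow x]
  funext ε
  rw [D.u_pow]
  by_cases h : ε = e0 ∨ ε = e1
  · rw [(wt_one_iff D.ord).2 h, Units.val_one, one_pow, one_mul]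
  · have : n0 k ε = 0 := by
      unfold n0
      rw [if_neg h]
    rw [this, mul_zero]

theorem t_n0 (a : (ZMod 13)ˣ) : C (ρ (t a) : Matrix (Fin 3 ⊕ Fin 3) (Fin 3 ⊕ Fin 3) k) *ᵥ n0 k = n0 k := by
  obtain ⟨c, hc⟩ : ∃ c : (ZMod 13)ˣ, (c : ZMod 13) = 2 := ⟨⟨2, 7, by decide, by decide⟩, rfl⟩
  have h1 : C (ρ (t c) : Matrix (Fin 3 ⊕ Fin 3) (Fin 3 ⊕ Fin 3) k) *ᵥ n0 k = n0 k := by
    rw [D.t2 c hc]
    funext ε
    rw [C_hm_mulVec D.two]
    obtain ⟨x, y, z⟩ := ε
    unfold n0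
    rcases x <;> rcases y <;> rcases z <;> simp
  have h2 : ∀ n : ℕ, C (ρ (t (c ^ n)) : Matrix (Fin 3 ⊕ Fin 3) (Fin 3 ⊕ Fin 3) k) *ᵥ n0 k = n0 k := by
    intro n
    induction n with
    | zero => rw [pow_zero, t_one, D.one]
    | succ n ih => rw [pow_succ, t_mul, D.mul, h1, ih]
  have h3 : ∀ x : ZMod 13, x ≠ 0 → ∃ n : ℕ, n < 12 ∧ x = 2 ^ n := by decide
  obtain ⟨n, -, hn⟩ := h3 a a.ne_zero
  have : a = c ^ n := Units.ext (by rw [hn, Units.val_pow_eq_pow_val, hc])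
  rw [this]
  exact h2 n

theorem uniq (n' : E → k) (hn : ∀ g, C (ρ g : Matrix (Fin 3 ⊕ Fin 3) (Fin 3 ⊕ Fin 3) k) *ᵥ n' = n') :
    ∃ c : k, n' = c • n0 k := by
  obtain ⟨c, hc⟩ : ∃ c : (ZMod 13)ˣ, (c : ZMod 13) = 2 := ⟨⟨2, 7, by decide, by decide⟩, rfl⟩
  have h1 := hn (t c)
  rw [D.t2 c hc] at h1
  have h3 := congrFun h1 e0
  rw [C_hm_mulVec D.two] at h3
  refine ⟨n' e0, ?_⟩
  funext ε
  rw [Pi.smul_apply, smul_eq_mul]
  unfold n0
  by_cases h : ε = e0 ∨ ε = e1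
  · rw [if_pos h, mul_one]
    rcases h with rfl | rfl
    · rfl
    · exact h3
  · rw [if_neg h, mul_zero]
    have h4 := congrFun (hn (u 1)) ε
    rw [D.u1, C_dg_mulVec] at h4
    by_contra h5
    apply h
    rw [← wt_one_iff D.ord]
    apply Units.ext
    rw [Units.val_one]
    exact mul_right_cancel₀ h5 (h4.trans (one_mul _).symm)


theorem bt_uwu (x y : ZMod 13) (c : (ZMod 13)ˣ) :
    bt (n0 k) (C (ρ (u x * w c * u y) : Matrix (Fin 3 ⊕ Fin 3) (Fin 3 ⊕ Fin 3) k) *ᵥ n0 k) =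
      bt (n0 k) (C (ρ (w 1) : Matrix (Fin 3 ⊕ Fin 3) (Fin 3 ⊕ Fin 3) k) *ᵥ n0 k) := by
  have h1 := bt_inv D.two (sy_of_mem (D.sp (u x))) (n0 k)
    (C (ρ (w 1) : Matrix (Fin 3 ⊕ Fin 3) (Fin 3 ⊕ Fin 3) k) *ᵥ n0 k)
  rw [D.u_n0] at h1
  rw [D.mul, D.u_n0, D.mul, ← w_one_mul_t, D.mul, D.t_n0]
  exact h1

theorem bt_ut (x : ZMod 13) (a : (ZMod 13)ˣ) :
    bt (n0 k) (C (ρ (u x * t a) : Matrix (Fin 3 ⊕ Fin 3) (Fin 3 ⊕ Fin 3) k) *ᵥ n0 k) = 0 := by
  rw [D.mul, D.t_n0, D.u_n0, bt_n0 D.two]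

omit D in
theorem lower {z : ZMod 13} (hz : z ≠ 0) :
    (w 1)⁻¹ * u z * w 1 = u (-z⁻¹) * w (-(Units.mk0 z hz)) * u (-z⁻¹) := by
  apply Subtype.ext
  rw [Matrix.SpecialLinearGroup.coe_mul, Matrix.SpecialLinearGroup.coe_mul, Matrix.SpecialLinearGroup.coe_inv,
    Matrix.SpecialLinearGroup.coe_mul, Matrix.SpecialLinearGroup.coe_mul, Matrix.adjugate_fin_two]
  ext i j
  (revert i j; simp only [Matrix.mul_apply, hz, _root_.Fin.forall_fin_succ, Fin.isValue, _root_.Cfsg.Agent.H464.Sl2.w_coe, _root_.inv_one, _root_.Units.val_one, _root_.Matrix.of_apply, _root_.Matrix.cons_val', _root_.Matrix.cons_val_one, _root_.Matrix.cons_val_fin_one, _root_.Matrix.cons_val_zero, _root_.neg_neg, _root_.Cfsg.Agent.H464.Sl2.u_coe, _root_.Matrix.cons_mul, _root_.Nat.succ_eq_add_one, Nat.reduceAdd, _root_.Matrix.vecMul_cons, _root_.Matrix.head_cons, _root_.zero_smul, _root_.Matrix.tail_cons, _root_.one_smul, _root_.Matrix.empty_vecMul, _root_.add_zero,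 _root_.zero_add, _root_.neg_smul, _root_.Matrix.neg_cons, _root_.Matrix.neg_empty, _root_.Matrix.empty_mul, _root_.Equiv.symm_apply_apply, _root_.Fin.sum_univ_two, _root_.inv_neg, _root_.Units.val_neg, _root_.Units.val_inv_eq_inv_val, _root_.Units.val_mk0, _root_.Matrix.smul_cons, _root_.smul_eq_mul, _root_.mul_neg, _root_.ne_eq, _root_.not_false_eq_true, _root_.inv_mul_cancel₀, _root_.MulZeroClass.mul_zero, _root_.Matrix.smul_empty, _root_.neg_zero, _root_.Matrix.add_cons, _root_.Matrix.empty_add_empty, _root_.mul_one, _root_.Matrix.cons_val_succ, _root_.forall_const, _root_.true_and, _root_.one_mul, _root_.neg_add_cancel, _root_.neg_mul, _root_.mul_inv_cancel₀, _root_.implies_true, _root_.and_self])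

/-- scalar products of two translates -/
theorem bt_gh (g h : Matrix.SpecialLinearGroup (Fin 2) (ZMod 13)) :
    bt (C (ρ g : Matrix (Fin 3 ⊕ Fin 3) (Fin 3 ⊕ Fin 3) k) *ᵥ n0 k)
      (C (ρ h : Matrix (Fin 3 ⊕ Fin 3) (Fin 3 ⊕ Fin 3) k) *ᵥ n0 k) =
    bt (n0 k) (C (ρ (g⁻¹ * h) : Matrix (Fin 3 ⊕ Fin 3) (Fin 3 ⊕ Fin 3) k) *ᵥ n0 k) := by
  rw [← bt_inv D.two (sy_of_mem (D.sp g)) (n0 k), ← D.mul, mul_inv_cancel_left]

/-- the scalar product of `n0` and its image under `w` is zero -/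
theorem gamma_zero : bt (n0 k) (C (ρ (w 1) : Matrix (Fin 3 ⊕ Fin 3) (Fin 3 ⊕ Fin 3) k) *ᵥ n0 k) = 0 := by
  by_contra hγ
  let g : Option (ZMod 13) → Matrix.SpecialLinearGroup (Fin 2) (ZMod 13) := fun o => o.elim 1 fun x => u x * w 1
  let X : Option (ZMod 13) → E → k := fun o => C (ρ (g o) : Matrix (Fin 3 ⊕ Fin 3) (Fin 3 ⊕ Fin 3) k) *ᵥ n0 k
  have hX : ∀ i j, bt (X i) (X j) = if i = j then 0 else
      bt (n0 k) (C (ρ (w 1) : Matrix (Fin 3 ⊕ Fin 3) (Fin 3 ⊕ Fin 3) k) *ᵥ n0 k) := by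
    intro i j
    rw [D.bt_gh]
    split_ifs with hij
    · subst hij
      rw [inv_mul_cancel, D.one, bt_n0 D.two]
    · rcases i with _ | x <;> rcases j with _ | y
      · exact absurd rfl hij
      · have : (g none)⁻¹ * g (some y) = u y * w 1 * u 0 := by
          change (1 : Matrix.SpecialLinearGroup (Fin 2) (ZMod 13))⁻¹ * (u y * w 1) = _
          rw [u_zero, mul_one, inv_one, one_mul]
        rw [this]
        exact D.bt_uwu y 0 1
      · have : (g (some x))⁻¹ * g none = u 0 * w (-1) * u (-x) := by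
          apply Subtype.ext
          change ((u x * w 1)⁻¹ * 1 : Matrix.SpecialLinearGroup (Fin 2) (ZMod 13)).1 = _
          rw [mul_one, Matrix.SpecialLinearGroup.coe_inv, Matrix.adjugate_fin_two]
          ext i j
          (revert i j; simp [_root_.Fin.forall_fin_succ])
        rw [this]
        exact D.bt_uwu 0 (-x) (-1)
      · have hxy : y - x ≠ 0 := by
          intro h
          exact hij (by rw [sub_eq_zero.1 h])
        have : (g (some x))⁻¹ * g (some y) = u (-(y - x)⁻¹) * w (-(Units.mk0 _ hxy)) * u (-(y - x)⁻¹) := by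
          rw [← lower hxy]
          change (u x * w 1)⁻¹ * (u y * w 1) = _
          have h : u y = u x * u (y - x) := by rw [← u_add, add_sub_cancel]
          rw [h]
          group
        rw [this]
        exact D.bt_uwu _ _ _
  have hli : LinearIndependent k X := by
    rw [Fintype.linearIndependent_iff]
    intro a ha
    have h1 : ∀ j, a j = ∑ i, a i := by
      intro j
      have h3 : bt (X j) (∑ i, a i • X i) = 0 := by
        rw [ha]
        unfold bt
        simp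
      have h4 : bt (X j) (∑ i, a i • X i) = ∑ i, a i * bt (X j) (X i) := by
        unfold bt
        simp only [Finset.sum_apply, Pi.smul_apply, smul_eq_mul, Finset.mul_sum]
        rw [Finset.sum_comm]
        refine Finset.sum_congr rfl fun i _ => Finset.sum_congr rfl fun e _ => ?_
        ring
      rw [h4] at h3
      have h5 : ∑ i, a i * bt (X j) (X i) = (∑ i, a i - a j) *
          bt (n0 k) (C (ρ (w 1) : Matrix (Fin 3 ⊕ Fin 3) (Fin 3 ⊕ Fin 3) k) *ᵥ n0 k) := by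
        rw [← Finset.add_sum_erase Finset.univ a (Finset.mem_univ j),
          ← Finset.add_sum_erase Finset.univ (fun i => a i * bt (X j) (X i)) (Finset.mem_univ j), hX, if_pos rfl, mul_zero,
          zero_add, add_sub_cancel_left, Finset.sum_mul]
        refine Finset.sum_congr rfl fun i hi => ?_
        rw [hX, if_neg (Finset.ne_of_mem_erase hi).symm]
      rw [h5] at h3
      rcases mul_eq_zero.1 h3 with h | h
      · exact (sub_eq_zero.1 h).symm
      · exact absurd h hγ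
    have h6 : ∑ i, a i = 0 := by
      have h7 : ∑ i, a i = (Fintype.card (Option (ZMod 13)) : ℕ) • ∑ i, a i := by
        conv_lhs => rw [Finset.sum_congr rfl fun i _ => h1 i]
        rw [Finset.sum_const, Finset.card_univ]
      have h8 : Fintype.card (Option (ZMod 13)) = 14 := by
        rw [Fintype.card_option, ZMod.card]
      rw [h8, nsmul_eq_mul] at h7
      have h9 := D.two
      push_cast at h7
      linear_combination h7 + 7 * (∑ i, a i) * h9
    intro i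
    rw [h1 i, h6]
  have h10 := hli.fintype_card_le_finrank
  rw [Module.finrank_fintype_fun_eq_card, Fintype.card_option, ZMod.card] at h10
  exact absurd h10 (by decide)


theorem bt_all (g h : Matrix.SpecialLinearGroup (Fin 2) (ZMod 13)) :
    bt (C (ρ g : Matrix (Fin 3 ⊕ Fin 3) (Fin 3 ⊕ Fin 3) k) *ᵥ n0 k)
      (C (ρ h : Matrix (Fin 3 ⊕ Fin 3) (Fin 3 ⊕ Fin 3) k) *ᵥ n0 k) = 0 := by
  rw [D.bt_gh]
  rcases bruhat (g⁻¹ * h) with ⟨x, a, hx⟩ | ⟨x, c, y, hx⟩
  · rw [hx]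
    exact D.bt_ut x a
  · rw [hx, D.bt_uwu, D.gamma_zero]

theorem sum_zero (n : ℕ) : ∑ ε : E, (wt ![b, b ^ 9, b ^ 3] ε : k) ^ n *
    ((C (ρ (w 1) : Matrix (Fin 3 ⊕ Fin 3) (Fin 3 ⊕ Fin 3) k) *ᵥ n0 k) ε) ^ 2 = 0 := by
  obtain ⟨c, hc⟩ : ∃ c : (ZMod 13)ˣ, (c : ZMod 13) = 2 := ⟨⟨2, 7, by decide, by decide⟩, rfl⟩
  have h1 := D.bt_all (w 1) (t c * (t c * (t c * (u 1 ^ n * w 1))))
  rw [D.mul, D.mul, D.mul, D.mul (u 1 ^ n), D.t2 c hc] at h1
  rw [← h1]
  unfold bt
  refine Finset.sum_congr rfl fun ε _ => ?_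
  rw [C_hm_mulVec D.two, C_hm_mulVec D.two, C_hm_mulVec D.two, D.u_pow]
  obtain ⟨x, y, z⟩ := ε
  simp only [bar, Bool.not_not]
  ring

theorem w_zero {ε : E} (hε : ¬ (ε = e0 ∨ ε = e1)) :
    (C (ρ (w 1) : Matrix (Fin 3 ⊕ Fin 3) (Fin 3 ⊕ Fin 3) k) *ᵥ n0 k) ε = 0 := by
  set v := C (ρ (w 1) : Matrix (Fin 3 ⊕ Fin 3) (Fin 3 ⊕ Fin 3) k) *ᵥ n0 k with hv
  have h1 : ∑ n ∈ Finset.range 13, ((wt ![b, b ^ 9, b ^ 3] ε : k)⁻¹) ^ n *
      ∑ δ : E, (wt ![b, b ^ 9, b ^ 3] δ : k) ^ n * (v δ) ^ 2 = 0 := by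
    apply Finset.sum_eq_zero
    intro n _
    rw [D.sum_zero n, mul_zero]
  have h2 : ∑ n ∈ Finset.range 13, ((wt ![b, b ^ 9, b ^ 3] ε : k)⁻¹) ^ n *
      ∑ δ : E, (wt ![b, b ^ 9, b ^ 3] δ : k) ^ n * (v δ) ^ 2 =
      ∑ δ : E, (∑ n ∈ Finset.range 13, ((wt ![b, b ^ 9, b ^ 3] ε : k)⁻¹ * wt ![b, b ^ 9, b ^ 3] δ) ^ n) * (v δ) ^ 2 := by
    simp only [Finset.mul_sum, Finset.sum_mul]
    rw [Finset.sum_comm]
    refine Finset.sum_congr rfl fun δ _ => Finset.sum_congr rfl fun n _ => ?_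
    rw [mul_pow]
    ring
  have h13 : ∀ δ : E, (wt ![b, b ^ 9, b ^ 3] δ : kˣ) ^ 13 = 1 := by
    intro δ
    have hb : b ^ 13 = 1 := by
      rw [← D.ord]
      exact pow_orderOf_eq_one b
    rw [wt_eq, ← zpow_natCast, ← _root_.zpow_mul, mul_comm, _root_.zpow_mul, zpow_natCast, hb, _root_.one_zpow]
  have h3 : ∀ δ : E, δ ≠ ε → ∑ n ∈ Finset.range 13, ((wt ![b, b ^ 9, b ^ 3] ε : k)⁻¹ * wt ![b, b ^ 9, b ^ 3] δ) ^ n = 0 := by
    intro δ hδ
    have hne : (wt ![b, b ^ 9, b ^ 3] ε : k)⁻¹ * wt ![b, b ^ 9, b ^ 3] δ ≠ 1 := by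
      intro h
      rw [inv_mul_eq_one₀ (Units.ne_zero _)] at h
      rcases eq_of_wt D.ord (Units.ext h) with h4 | h4
      · exact hδ h4.symm
      · exact hε h4.1
    rw [geom_sum_eq hne, mul_pow, inv_pow, ← Units.val_pow_eq_pow_val, ← Units.val_pow_eq_pow_val, h13, h13,
      Units.val_one, inv_one, mul_one, sub_self, zero_div]
  rw [h2, ← Finset.add_sum_erase Finset.univ _ (Finset.mem_univ ε), Finset.sum_eq_zero (s := Finset.univ.erase ε)
    (fun δ hδ => by rw [h3 δ (Finset.ne_of_mem_erase hδ), zero_mul]), add_zero,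
    inv_mul_cancel₀ (Units.ne_zero _)] at h1
  simp only [one_pow, Finset.sum_const, Finset.card_range, nsmul_eq_mul, mul_one] at h1
  have h5 : ((13 : ℕ) : k) = 1 := by
    push_cast
    linear_combination 6 * D.two
  rw [h5, one_mul] at h1
  exact pow_eq_zero_iff (two_ne_zero) |>.1 h1

theorem w_fix : C (ρ (w 1) : Matrix (Fin 3 ⊕ Fin 3) (Fin 3 ⊕ Fin 3) k) *ᵥ n0 k = n0 k := by
  set v := C (ρ (w 1) : Matrix (Fin 3 ⊕ Fin 3) (Fin 3 ⊕ Fin 3) k) *ᵥ n0 k with hv
  have h0 : v e0 = v e1 := by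
    have h1 := D.sum_zero 0
    rw [← hv] at h1
    have h3 : ∀ ε : E, ¬ (ε = e0 ∨ ε = e1) → v ε = 0 := fun ε h => D.w_zero h
    simp only [pow_zero, one_mul, Fintype.sum_prod_type, Fintype.sum_bool] at h1
    rw [h3 (true, true, false) (by simp), h3 (true, false, true) (by simp), h3 (true, false, false) (by simp),
      h3 (false, true, true) (by simp), h3 (false, true, false) (by simp), h3 (false, false, true) (by simp)] at h1
    have h4 : (v e0 - v e1) ^ 2 = 0 := by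
      linear_combination h1 - v e0 * v e1 * D.two
    exact sub_eq_zero.1 (pow_eq_zero_iff (two_ne_zero) |>.1 h4)
  have h1 : v = v e0 • n0 k := by
    funext ε
    rw [Pi.smul_apply, smul_eq_mul]
    unfold n0
    by_cases h : ε = e0 ∨ ε = e1
    · rw [if_pos h, mul_one]
      rcases h with rfl | rfl
      · rfl
      · exact h0.symm
    · rw [if_neg h, mul_zero]
      exact D.w_zero h
  have h3 : (w (1 : (ZMod 13)ˣ)) * w 1 = -1 := by
    apply Subtype.ext
    rw [Matrix.SpecialLinearGroup.coe_mul, Matrix.SpecialLinearGroup.coe_neg, Matrix.SpecialLinearGroup.coe_one]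
    ext i j
    (revert i j; simp only [Matrix.mul_apply, _root_.Fin.forall_fin_succ, _root_.Cfsg.Agent.H464.Sl2.w_coe, _root_.inv_one, _root_.Units.val_one, _root_.Matrix.of_apply, _root_.Matrix.cons_val', _root_.Matrix.cons_val_fin_one, _root_.Fin.sum_univ_two, Fin.isValue, _root_.Matrix.cons_val_zero, _root_.Matrix.cons_val_one, _root_.Matrix.neg_apply, _root_.MulZeroClass.mul_zero, _root_.mul_one, _root_.zero_add, _root_.Matrix.cons_val_succ, _root_.mul_neg, _root_.add_zero, _root_.neg_inj, _root_.IsEmpty.forall_iff, _root_.and_true, _root_.Matrix.one_apply_eq, Nat.reduceAdd, _root_.Fin.succ_zero_eq_one, _root_.ne_eq, _root_.zero_ne_one, _root_.not_false_eq_true, _root_.Matrix.one_apply_ne, _root_.and_self, _root_.Fin.succ_ne_zero, _root_.neg_zero, _root_.true_and])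
  have h4 := D.mul (w 1) (w 1) (n0 k)
  rw [h3, D.cen, Units.val_one, C_one, Matrix.one_mulVec, ← hv, h1, Matrix.mulVec_smul, ← hv, h1, smul_smul] at h4
  have h5 := congrFun h4 e0
  rw [Pi.smul_apply, smul_eq_mul] at h5
  have h6 : n0 k e0 = 1 := by
    unfold n0
    rw [if_pos (Or.inl rfl)]
  rw [h6, mul_one, Pi.smul_apply, smul_eq_mul, h6, mul_one] at h5
  have h7 : (v e0 - 1) ^ 2 = 0 := by
    linear_combination -h5 + (1 - v e0) * D.two
  have h8 := sub_eq_zero.1 (pow_eq_zero_iff (two_ne_zero) |>.1 h7)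
  rw [h1, h8, one_smul]

theorem fix (g : Matrix.SpecialLinearGroup (Fin 2) (ZMod 13)) :
    C (ρ g : Matrix (Fin 3 ⊕ Fin 3) (Fin 3 ⊕ Fin 3) k) *ᵥ n0 k = n0 k := by
  rcases bruhat g with ⟨x, a, rfl⟩ | ⟨x, c, y, rfl⟩
  · rw [D.mul, D.t_n0, D.u_n0]
  · rw [D.mul, D.u_n0, D.mul, ← w_one_mul_t, D.mul, D.t_n0, D.w_fix, D.u_n0]

theorem fix1 : Fix1 ρ (n0 k) where
  ne := by
    intro h
    have := congrFun h e0
    unfold n0 at this
    simp at this
  fix := D.fix
  uniq := D.uniq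

end Good

end Cfsg.Agent.H914.S6.Spin.L
end

-- part: H914/SpinM
section
/-!
# The good basis for `SL₂(13)` in `Sp₆(k)`, characteristic two (helper914)
-/

set_option autoImplicit false
set_option linter.unusedSectionVars false
set_option maxHeartbeats 400000

namespace Cfsg.Agent.H914.S6.Spin.L

open Matrix Cfsg Cfsg.Geo Cfsg.Agent.H915.LD Module Cfsg.Agent.H464.Sl2
open scoped MatrixGroups

universe u v

local instance fact13' : Fact (Nat.Prime 13) := ⟨by norm_num⟩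

variable {k : Type u} [Field k]

theorem sympForm_smul (a c : k) (x y : Fin 3 ⊕ Fin 3 → k) : sympForm 3 k (a • x) (c • y) = a * c * sympForm 3 k x y := by
  unfold sympForm
  rw [Matrix.mulVec_smul, dotProduct_smul, smul_dotProduct, smul_eq_mul, smul_eq_mul]
  ring

theorem sympForm_symm (x y : Fin 3 ⊕ Fin 3 → k) : sympForm 3 k x y = -sympForm 3 k y x := by
  unfold sympForm
  rw [Matrix.dotProduct_mulVec x, ← Matrix.mulVec_transpose, Matrix.J_transpose, Matrix.neg_mulVec, neg_dotProduct,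
    dotProduct_comm]

/-- the exponent of the torus element for the column -/
def sj : Fin 3 ⊕ Fin 3 → ℕ := Sum.elim ![0, 2, 4] ![3, 5, 1]

/-- the exponent of the eigenvalue for the column -/
def mj : Fin 3 ⊕ Fin 3 → ℕ := Sum.elim ![1, 9, 3] ![12, 4, 10]

theorem mj_spec : ∀ j, (mj j : ZMod 13) * (2 ^ sj j) ^ 2 = 1 := by decide

theorem mj_inj : ∀ i j, (13 : ℤ) ∣ (mj i : ℤ) - mj j → i = j := by decide

theorem mj_du : ∀ i, mj i + mj (du i) = 13 := by decide

variable [IsAlgClosed k] (h2 : (2 : k) = 0)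
  (ρ : Matrix.SpecialLinearGroup (Fin 2) (ZMod 13) →* GL (Fin 3 ⊕ Fin 3) k)
  (sp : ∀ g, ρ g ∈ spGL 3 k) (cen : ρ (-1) = 1) (hu : ρ (u 1) ≠ 1)
include h2 ρ sp cen hu

theorem exists_good : ∃ (T : GL (Fin 3 ⊕ Fin 3) k) (_ : T ∈ spGL 3 k)
    (ρ' : Matrix.SpecialLinearGroup (Fin 2) (ZMod 13) →* GL (Fin 3 ⊕ Fin 3) k) (b : kˣ),
    (∀ g, ρ' g = T⁻¹ * ρ g * T) ∧ Good ρ' b := by
  have h13 : ((13 : ℕ) : k) ≠ 0 := by
    have : ((13 : ℕ) : k) = 1 := by
      push_cast
      linear_combination 6 * h2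
    rw [this]
    exact one_ne_zero
  have u_eq_pow : ∀ n : ℕ, u (n : ZMod 13) = u 1 ^ n := by
    intro n
    induction n with
    | zero => rw [Nat.cast_zero, u_zero, pow_zero]
    | succ n ih => rw [Nat.cast_succ, u_add, ih, pow_succ]
  have hu13 : (ρ (u 1)) ^ 13 = 1 := by
    rw [← map_pow, ← u_eq_pow]
    have : ((13 : ℕ) : ZMod 13) = 0 := by decide
    rw [this, u_zero, map_one]
  obtain ⟨β, x, hβ1, hβ13, hx0, hx⟩ := exists_eig (Matrix.toLin' (ρ (u 1) : Matrix (Fin 3 ⊕ Fin 3) (Fin 3 ⊕ Fin 3) k))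
    h13 (by
      rw [← Matrix.toLin'_pow, ← Units.val_pow_eq_pow_val, hu13, Units.val_one, Matrix.toLin'_one]
      rfl) (by
      intro h
      apply hu
      apply Units.ext
      apply Matrix.toLin'.injective
      rw [h, Units.val_one, Matrix.toLin'_one]
      rfl)
  rw [Matrix.toLin'_apply] at hx
  have hβ0 : β ≠ 0 := by
    rintro rfl
    rw [zero_pow (by norm_num)] at hβ13
    exact zero_ne_one hβ13
  -- the order
  have hord : orderOf (Units.mk0 β hβ0) = 13 := by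
    apply orderOf_eq_prime
    · apply Units.ext
      rw [Units.val_pow_eq_pow_val, Units.val_mk0, hβ13, Units.val_one]
    · intro h
      apply hβ1
      have := congrArg Units.val h
      rwa [Units.val_mk0, Units.val_one] at this
  obtain ⟨c, hc⟩ : ∃ c : (ZMod 13)ˣ, (c : ZMod 13) = 2 := ⟨⟨2, 7, by decide, by decide⟩, rfl⟩
  have hc6 : t (c ^ 6) = -1 := by
    apply Subtype.ext
    rw [Matrix.SpecialLinearGroup.coe_neg, Matrix.SpecialLinearGroup.coe_one]
    have h1 : ((c ^ 6 : (ZMod 13)ˣ) : ZMod 13) = -1 := by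
      rw [Units.val_pow_eq_pow_val, hc]
      decide
    have h3 : (((c ^ 6)⁻¹ : (ZMod 13)ˣ) : ZMod 13) = -1 := by
      have : ((c ^ 6)⁻¹ : (ZMod 13)ˣ) = -1 := by
        rw [inv_eq_iff_eq_inv, inv_neg, inv_one]
        apply Units.ext
        rw [h1, Units.val_neg, Units.val_one]
      rw [this, Units.val_neg, Units.val_one]
    rw [t_coe, h1, h3]
    ext i j
    (revert i j; simp only [_root_.Fin.forall_fin_succ, _root_.Matrix.of_apply, _root_.Matrix.cons_val', _root_.Matrix.cons_val_fin_one, _root_.Matrix.neg_apply, Fin.isValue, _root_.Matrix.cons_val_zero, _root_.Matrix.cons_val_succ, _root_.IsEmpty.forall_iff, _root_.and_true, _root_.Matrix.one_apply_eq, Nat.reduceAdd, _root_.Fin.succ_zero_eq_one, _root_.ne_eq, _root_.zero_ne_one, _root_.not_false_eq_true, _root_.Matrix.one_apply_ne, _root_.neg_zero, _root_.and_self, _root_.Fin.succ_ne_zero, _root_.neg_inj, _root_.true_and])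
  -- the vectors
  let W : (Fin 3 ⊕ Fin 3 → k) → ℕ → Fin 3 ⊕ Fin 3 → k := fun y i =>
    (ρ (t (c ^ i)) : Matrix (Fin 3 ⊕ Fin 3) (Fin 3 ⊕ Fin 3) k) *ᵥ y
  have hW6 : ∀ y i, W y (i + 6) = W y i := by
    intro y i
    change (ρ (t (c ^ (i + 6))) : Matrix (Fin 3 ⊕ Fin 3) (Fin 3 ⊕ Fin 3) k) *ᵥ y = _
    rw [pow_add, t_mul, hc6, map_mul, cen, mul_one]
  have hWadd : ∀ y i j, (ρ (t (c ^ i)) : Matrix (Fin 3 ⊕ Fin 3) (Fin 3 ⊕ Fin 3) k) *ᵥ W y j = W y (i + j) := by
    intro y i j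
    change _ = (ρ (t (c ^ (i + j))) : Matrix (Fin 3 ⊕ Fin 3) (Fin 3 ⊕ Fin 3) k) *ᵥ y
    rw [pow_add, t_mul, map_mul, Units.val_mul, ← Matrix.mulVec_mulVec]
  have hWu : ∀ y : Fin 3 ⊕ Fin 3 → k, (ρ (u 1) : Matrix (Fin 3 ⊕ Fin 3) (Fin 3 ⊕ Fin 3) k) *ᵥ y = β • y →
      ∀ j, (ρ (u 1) : Matrix (Fin 3 ⊕ Fin 3) (Fin 3 ⊕ Fin 3) k) *ᵥ W y (sj j) = β ^ (mj j) • W y (sj j) := by
    intro y hy j
    have e1 : u (1 : ZMod 13) * t (c ^ sj j) = t (c ^ sj j) * u 1 ^ mj j := by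
      rw [← u_eq_pow, t_mul_u, Units.val_pow_eq_pow_val, hc, mul_comm _ ((mj j : ℕ) : ZMod 13), mj_spec]
    have e2 : ∀ n : ℕ, (ρ (u 1 ^ n) : Matrix (Fin 3 ⊕ Fin 3) (Fin 3 ⊕ Fin 3) k) *ᵥ y = β ^ n • y := by
      intro n
      induction n with
      | zero => rw [pow_zero, map_one, Units.val_one, Matrix.one_mulVec, pow_zero, one_smul]
      | succ n ih =>
        rw [pow_succ, map_mul, Units.val_mul, ← Matrix.mulVec_mulVec, hy, Matrix.mulVec_smul, ih, smul_smul, pow_succ,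
          mul_comm β]
    change _ *ᵥ ((ρ (t (c ^ sj j)) : Matrix (Fin 3 ⊕ Fin 3) (Fin 3 ⊕ Fin 3) k) *ᵥ y) = _
    rw [Matrix.mulVec_mulVec, ← Units.val_mul, ← map_mul, e1, map_mul, Units.val_mul, ← Matrix.mulVec_mulVec, e2,
      Matrix.mulVec_smul]
  have hW0 : ∀ y : Fin 3 ⊕ Fin 3 → k, y ≠ 0 → ∀ i, W y i ≠ 0 := by
    intro y hy i h
    apply hy
    have : (((ρ (t (c ^ i)))⁻¹ : GL (Fin 3 ⊕ Fin 3) k) : Matrix (Fin 3 ⊕ Fin 3) (Fin 3 ⊕ Fin 3) k) *ᵥ W y i = y := by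
      change _ *ᵥ ((ρ (t (c ^ i)) : Matrix (Fin 3 ⊕ Fin 3) (Fin 3 ⊕ Fin 3) k) *ᵥ y) = y
      rw [Matrix.mulVec_mulVec, ← Units.val_mul, inv_mul_cancel, Units.val_one, Matrix.one_mulVec]
    rw [← this, h, Matrix.mulVec_zero]
  let l : Fin 3 ⊕ Fin 3 → k := fun j => β ^ mj j
  have hl : Function.Injective l := by
    intro i j hij
    apply mj_inj
    have h1 : (Units.mk0 β hβ0) ^ ((mj i : ℤ) - mj j) = 1 := by
      rw [_root_.zpow_sub, zpow_natCast, zpow_natCast, mul_inv_eq_one]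
      apply Units.ext
      rw [Units.val_pow_eq_pow_val, Units.val_pow_eq_pow_val, Units.val_mk0]
      exact hij
    have h3 := orderOf_dvd_iff_zpow_eq_one.2 h1
    rwa [hord] at h3
  have hdu : ∀ i, l i * l (du i) = 1 := by
    intro i
    change β ^ mj i * β ^ mj (du i) = 1
    rw [← pow_add, mj_du, hβ13]
  -- normalisation
  have hc0 := form_ne_zero (sy_of_mem (sp (u 1))) (v := fun j => W x (sj j)) (l := l) (fun j => hW0 x hx0 _) (hWu x hx)
    hl hdu (Sum.inr 0)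
  change sympForm 3 k (W x 3) (W x 0) ≠ 0 at hc0
  obtain ⟨γ, hγ⟩ := IsAlgClosed.exists_pow_nat_eq ((sympForm 3 k (W x 3) (W x 0))⁻¹) (n := 2) (by norm_num)
  have hγ0 : γ ≠ 0 := by
    rintro rfl
    rw [zero_pow (by norm_num)] at hγ
    exact inv_ne_zero hc0 hγ.symm
  have hWs : ∀ i, W (γ • x) i = γ • W x i := fun i => Matrix.mulVec_smul _ _ _
  have hf0 : sympForm 3 k (W (γ • x) 3) (W (γ • x) 0) = 1 := by
    rw [hWs, hWs, sympForm_smul, ← pow_two, hγ, inv_mul_cancel₀ hc0]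
  have hfadd : ∀ i, sympForm 3 k (W (γ • x) (i + 3)) (W (γ • x) i) = 1 := by
    intro i
    rw [← hf0, ← form_mul (sy_of_mem (sp (t (c ^ i)))) (W (γ • x) 3) (W (γ • x) 0), hWadd, hWadd]
    rfl
  have hyx : (ρ (u 1) : Matrix (Fin 3 ⊕ Fin 3) (Fin 3 ⊕ Fin 3) k) *ᵥ (γ • x) = β • (γ • x) := by
    rw [Matrix.mulVec_smul, hx, smul_comm]
  have hy0 : γ • x ≠ 0 := smul_ne_zero hγ0 hx0
  have hf : ∀ i : Fin 3, sympForm 3 k (W (γ • x) (sj (Sum.inr i))) (W (γ • x) (sj (Sum.inl i))) = 1 := by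
    intro i
    fin_cases i
    · exact hfadd 0
    · exact hfadd 2
    · have := hfadd 4
      rwa [show 4 + 3 = 1 + 6 from rfl, hW6] at this
  have hsy := sy_of_basis (sy_of_mem (sp (u 1))) (v := fun j => W (γ • x) (sj j)) (l := l) (hWu _ hyx) hl hdu hf
    (fun i => by rw [sympForm_symm, hf])
  have hunit := isUnit_basis (linInd (A := (ρ (u 1) : Matrix (Fin 3 ⊕ Fin 3) (Fin 3 ⊕ Fin 3) k))
    (v := fun j => W (γ • x) (sj j)) (l := l) (fun j => hW0 _ hy0 _) (hWu _ hyx) hl)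
  obtain ⟨T, hT⟩ := hunit
  rw [← hT] at hsy
  refine ⟨T, mem_of_sy hsy, (MulAut.conj T⁻¹).toMonoidHom.comp ρ, Units.mk0 β hβ0, ?_, ?_⟩
  · intro g
    simp only [MulAut.conj_apply, _root_.map_inv, _root_.MulEquiv.toMonoidHom_eq_coe, _root_.MonoidHom.coe_comp, _root_.MonoidHom.coe_coe, _root_.MulAut.coe_inv, _root_.Function.comp_apply, _root_.MulAut.conj_symm_apply]
  have hconj : ∀ g, ((MulAut.conj T⁻¹).toMonoidHom.comp ρ) g = T⁻¹ * ρ g * T := by
    intro g
    simp only [MulAut.conj_apply, _root_.map_inv, _root_.MulEquiv.toMonoidHom_eq_coe, _root_.MonoidHom.coe_comp, _root_.MonoidHom.coe_coe, _root_.MulAut.coe_inv, _root_.Function.comp_apply, _root_.MulAut.conj_symm_apply]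
  have hTj : ∀ i j, (T : Matrix (Fin 3 ⊕ Fin 3) (Fin 3 ⊕ Fin 3) k) i j = W (γ • x) (sj j) i := by
    intro i j
    rw [hT]
    rfl
  have hmul : ∀ (g : Matrix.SpecialLinearGroup (Fin 2) (ZMod 13)) (D : Matrix (Fin 3 ⊕ Fin 3) (Fin 3 ⊕ Fin 3) k),
      (ρ g : Matrix (Fin 3 ⊕ Fin 3) (Fin 3 ⊕ Fin 3) k) * T = T * D →
      ((MulAut.conj T⁻¹).toMonoidHom.comp ρ g : Matrix (Fin 3 ⊕ Fin 3) (Fin 3 ⊕ Fin 3) k) = D := by
    intro g D h
    rw [hconj, Units.val_mul, Units.val_mul, Matrix.mul_assoc, h, ← Matrix.mul_assoc, ← Units.val_mul, inv_mul_cancel,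
      Units.val_one, Matrix.one_mul]
  refine ⟨h2, hord, ?_, ?_, ?_, ?_⟩
  · intro g
    rw [hconj]
    exact mul_mem (mul_mem (inv_mem (mem_of_sy hsy)) (sp g)) (mem_of_sy hsy)
  · rw [hconj, cen, mul_one, inv_mul_cancel]
  · apply hmul
    ext i j
    have e1 : ((ρ (u 1) : Matrix (Fin 3 ⊕ Fin 3) (Fin 3 ⊕ Fin 3) k) * T) i j =
        ((ρ (u 1) : Matrix (Fin 3 ⊕ Fin 3) (Fin 3 ⊕ Fin 3) k) *ᵥ W (γ • x) (sj j)) i := by
      rw [Matrix.mul_apply, Matrix.mulVec, dotProduct]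
      exact Finset.sum_congr rfl fun a _ => by rw [hTj]
    rw [e1, hWu _ hyx j]
    unfold dg
    rw [Matrix.mul_diagonal, hTj, Pi.smul_apply, smul_eq_mul, mul_comm]
    congr 1
    rcases j with j | j
    · fin_cases j
      · simp [mj]
      · simp [mj]
      · simp [mj]
    · have h3 : ∀ a b : ℕ, a + b = 13 → β ^ a = (β ^ b)⁻¹ := by
        intro a b hab
        apply eq_inv_of_mul_eq_one_left
        rw [← pow_add, hab, hβ13]
      fin_cases j
      · simpa [mj] using h3 12 1 rfl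
      · simpa [mj] using h3 4 9 rfl
      · simpa [mj] using h3 10 3 rfl
  · intro a ha
    have hac : a = c := Units.ext (ha.trans hc.symm)
    rw [hac]
    apply hmul
    ext i j
    have e1 : ((ρ (t c) : Matrix (Fin 3 ⊕ Fin 3) (Fin 3 ⊕ Fin 3) k) * T) i j =
        ((ρ (t (c ^ 1)) : Matrix (Fin 3 ⊕ Fin 3) (Fin 3 ⊕ Fin 3) k) *ᵥ W (γ • x) (sj j)) i := by
      rw [pow_one, Matrix.mul_apply, Matrix.mulVec, dotProduct]
      exact Finset.sum_congr rfl fun a _ => by rw [hTj]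
    have e2 : ((T : Matrix (Fin 3 ⊕ Fin 3) (Fin 3 ⊕ Fin 3) k) * hm k) i j = W (γ • x) (sj (pi j)) i := by
      rw [Matrix.mul_apply, ← hTj]
      simp [hm]
    rw [e1, e2, hWadd]
    rcases j with j | j
    · fin_cases j
      · rfl
      · rfl
      · rfl
    · fin_cases j
      · rfl
      · change W (γ • x) (0 + 6) i = W (γ • x) 0 i
        rw [hW6]
      · rfl

/-- **`SL₂(13)` in `Sp₆(k)`, characteristic two, has exactly one fixed line in the spin module.** -/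
theorem exists_fix1 : ∃ n : E → k, Fix1 ρ n := by
  obtain ⟨T, hT, ρ', b, hconj, D⟩ := exists_good h2 ρ sp cen hu
  exact ⟨_, Fix1.conj h2 sp hT hconj D.fix1⟩

end Cfsg.Agent.H914.S6.Spin.L
end

-- part: H914/SixThirteen
section
/-!
# N3: `L₂(13)` is not a residual socle of `Sp₆(2^a)` (helper914)

`thirteen_two` : `Hyp 3 H P`, characteristic two, `Soc P ≃* PSL₂(13)` is absurd.
-/

set_option autoImplicit false
set_option linter.unusedSectionVars false
set_option maxHeartbeats 400000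

namespace Cfsg.Agent.H914.S6.Spin.L

open Matrix Cfsg Cfsg.Geo Cfsg.Agent.H915.LD Module Cfsg.Agent.H464.Sl2
open scoped MatrixGroups

universe u v

local instance fact13'' : Fact (Nat.Prime 13) := ⟨by norm_num⟩

theorem u_eq_pow13 (n : ℕ) : u (n : ZMod 13) = u 1 ^ n := by
  induction n with
  | zero => rw [Nat.cast_zero, u_zero, pow_zero]
  | succ n ih => rw [Nat.cast_succ, u_add, ih, pow_succ]

theorem gen_top13 {C : Subgroup (Matrix.SpecialLinearGroup (Fin 2) (ZMod 13))} (hu : u 1 ∈ C) (hw : w 1 ∈ C) : C = ⊤ := by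
  have hu' : ∀ x : ZMod 13, u x ∈ C := by
    intro x
    have : u x = u 1 ^ x.val := by rw [← u_eq_pow13, ZMod.natCast_zmod_val]
    rw [this]
    exact C.pow_mem hu _
  have hwm : w (-1 : (ZMod 13)ˣ) = (w 1)⁻¹ := by
    rw [eq_inv_iff_mul_eq_one, w_mul_w]
    have : (-(1 / (-1 : (ZMod 13)ˣ)) : (ZMod 13)ˣ) = 1 := by
      rw [one_div, inv_neg, inv_one, neg_neg]
    rw [this, t_one]
  have hw' : ∀ c : (ZMod 13)ˣ, w c ∈ C := by
    intro c
    rw [w_eq c, hwm]
    exact C.mul_mem (C.mul_mem (hu' _) (C.mul_mem (C.mul_mem hw (hu' _)) (C.inv_mem hw))) (hu' _)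
  rw [eq_top_iff]
  intro g _
  rcases bruhat g with ⟨x, a, rfl⟩ | ⟨x, c, y, rfl⟩
  · refine C.mul_mem (hu' _) ?_
    have : t a = (w 1)⁻¹ * w a := by rw [eq_inv_mul_iff_mul_eq, w_one_mul_t]
    rw [this]
    exact C.mul_mem (C.inv_mem hw) (hw' _)
  · exact C.mul_mem (C.mul_mem (hu' _) (hw' _)) (hu' _)

theorem card_sl13 : Nat.card (Matrix.SpecialLinearGroup (Fin 2) (ZMod 13)) ≤ 2184 := by
  let f : (ZMod 13 × (ZMod 13)ˣ) ⊕ (ZMod 13 × (ZMod 13)ˣ × ZMod 13) → Matrix.SpecialLinearGroup (Fin 2) (ZMod 13) :=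
    Sum.elim (fun p => u p.1 * t p.2) (fun p => u p.1 * w p.2.1 * u p.2.2)
  have hf : Function.Surjective f := by
    intro g
    rcases bruhat g with ⟨x, a, rfl⟩ | ⟨x, c, y, rfl⟩
    · exact ⟨Sum.inl (x, a), rfl⟩
    · exact ⟨Sum.inr (x, c, y), rfl⟩
  have h1 := Nat.card_le_card_of_surjective f hf
  rw [Nat.card_eq_fintype_card (α := (ZMod 13 × (ZMod 13)ˣ) ⊕ (ZMod 13 × (ZMod 13)ˣ × ZMod 13)), Fintype.card_sum,
    Fintype.card_prod, Fintype.card_prod, Fintype.card_prod, ZMod.card_units_eq_totient, ZMod.card,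
    Nat.totient_prime (by norm_num)] at h1
  exact h1

/-- few automorphisms -/
theorem card_mulAut {T : Type v} [Group T] (f : Matrix.SpecialLinearGroup (Fin 2) (ZMod 13) →* T)
    (hf : Function.Surjective f) : Nat.card (MulAut T) ≤ 2184 * 2184 := by
  have hfin : Finite T := Finite.of_surjective f hf
  have h1 : Nat.card T ≤ 2184 := (Nat.card_le_card_of_surjective f hf).trans card_sl13
  have h2 : Nat.card (MulAut T) ≤ Nat.card (T × T) := by
    refine Nat.card_le_card_of_injective (fun α : MulAut T => (α (f (u 1)), α (f (w 1)))) ?_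
    intro α β hab
    have ha : α (f (u 1)) = β (f (u 1)) := congrArg Prod.fst hab
    have hb : α (f (w 1)) = β (f (w 1)) := congrArg Prod.snd hab
    have h3 : (α.toMonoidHom.comp f).eqLocus (β.toMonoidHom.comp f) = ⊤ := gen_top13 ha hb
    ext x
    obtain ⟨y, rfl⟩ := hf x
    have h4 : y ∈ (α.toMonoidHom.comp f).eqLocus (β.toMonoidHom.comp f) := by
      rw [h3]
      exact Subgroup.mem_top y
    exact h4
  rw [Nat.card_prod] at h2
  exact h2.trans (Nat.mul_le_mul h1 h1)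

theorem neg_one_mem_center : (-1 : Matrix.SpecialLinearGroup (Fin 2) (ZMod 13)) ∈
    Subgroup.center (Matrix.SpecialLinearGroup (Fin 2) (ZMod 13)) := by
  rw [Subgroup.mem_center_iff]
  intro g
  rw [mul_neg, neg_mul, mul_one, one_mul]

theorem u_not_center : u (1 : ZMod 13) ∉ Subgroup.center (Matrix.SpecialLinearGroup (Fin 2) (ZMod 13)) := by
  intro h
  have h1 := Subgroup.mem_center_iff.1 h (w 1)
  have h3 := congrFun (congrFun (congrArg (fun g : Matrix.SpecialLinearGroup (Fin 2) (ZMod 13) => g.1) h1) 0) 0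
  simp only [Matrix.SpecialLinearGroup.coe_mul, u_coe, w_coe] at h3
  simp only [Matrix.mul_apply, _root_.inv_one, _root_.Units.val_one, _root_.Fin.isValue, _root_.Matrix.of_apply, _root_.Matrix.cons_val', _root_.Matrix.cons_val_fin_one, _root_.Matrix.cons_val_zero, _root_.Fin.sum_univ_two, _root_.mul_one, _root_.Matrix.cons_val_one, _root_.MulZeroClass.mul_zero, _root_.add_zero, _root_.zero_add, _root_.zero_ne_one] at h3

/-- **N3.** -/
theorem thirteen_two {F : Type u} [Field F] [Fintype F] {H P : Subgroup (GL (Fin 3 ⊕ Fin 3) F)} (S : Hyp 3 H P)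
    (h2 : (2 : F) = 0) (e : Soc P ≃* Matrix.ProjectiveSpecialLinearGroup (Fin 2) (ZMod 13)) : False := by
  let e' : Matrix.ProjectiveSpecialLinearGroup (Fin 2) (ZMod 13) ≃* P := ((socEquiv h2 S).trans e).symm
  let f : Matrix.SpecialLinearGroup (Fin 2) (ZMod 13) →* P :=
    e'.toMonoidHom.comp (QuotientGroup.mk' (Subgroup.center (Matrix.SpecialLinearGroup (Fin 2) (ZMod 13))))
  have hf : Function.Surjective f := e'.surjective.comp (QuotientGroup.mk'_surjective _)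
  have hker : ∀ g, f g = 1 → g ∈ Subgroup.center (Matrix.SpecialLinearGroup (Fin 2) (ZMod 13)) := by
    intro g hg
    have h1 : e' (QuotientGroup.mk' (Subgroup.center (Matrix.SpecialLinearGroup (Fin 2) (ZMod 13))) g) = 1 := hg
    rw [MulEquiv.map_eq_one_iff] at h1
    exact (QuotientGroup.eq_one_iff g).1 h1
  have hcen : f (-1) = 1 := by
    change e' (QuotientGroup.mk' (Subgroup.center (Matrix.SpecialLinearGroup (Fin 2) (ZMod 13))) (-1)) = 1
    rw [MulEquiv.map_eq_one_iff]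
    exact (QuotientGroup.eq_one_iff _).2 neg_one_mem_center
  have hu : f (u 1) ≠ 1 := fun h => u_not_center (hker _ h)
  have hord : orderOf (f (u 1)) = 13 := by
    apply orderOf_eq_prime _ hu
    rw [← map_pow, ← u_eq_pow13]
    have : ((13 : ℕ) : ZMod 13) = 0 := by decide
    rw [this, u_zero, map_one]
  -- the field is not F_2
  have h4 : 4 ≤ Fintype.card F := by
    have hch : CharP F 2 := (CharTwo.of_one_ne_zero_of_two_eq_zero one_ne_zero h2)
    obtain ⟨n, -, hn⟩ := FiniteField.card F 2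
    rcases Nat.lt_or_ge (n : ℕ) 2 with h | h
    · exfalso
      have hn1 : (n : ℕ) = 1 := by
        have := n.pos
        omega
      rw [hn1, pow_one] at hn
      have h5 : 13 ∣ Nat.card (spGL 3 F) := by
        have h6 : 13 ∣ Nat.card P := by
          rw [← hord]
          exact orderOf_dvd_natCard _
        exact h6.trans (Subgroup.card_dvd_of_le S.P_le)
      rw [card_sp6', hn] at h5
      revert h5
      decide
    · rw [hn]
      calc 4 = 2 ^ 2 := rfl
        _ ≤ 2 ^ (n : ℕ) := Nat.pow_le_pow_right (by norm_num) h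
  -- the fixed line
  let k := AlgebraicClosure F
  have h2k : (2 : k) = 0 := by
    have := congrArg (algebraMap F k) h2
    rwa [map_ofNat, map_zero] at this
  let ρ : Matrix.SpecialLinearGroup (Fin 2) (ZMod 13) →* GL (Fin 3 ⊕ Fin 3) k :=
    (Matrix.GeneralLinearGroup.map (algebraMap F k)).comp (P.subtype.comp f)
  have hρ : ∀ g, (ρ g : Matrix (Fin 3 ⊕ Fin 3) (Fin 3 ⊕ Fin 3) k) =
      ((f g : GL (Fin 3 ⊕ Fin 3) F) : Matrix (Fin 3 ⊕ Fin 3) (Fin 3 ⊕ Fin 3) F).map (algebraMap F k) := fun _ => rfl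
  have hsp : ∀ g, ρ g ∈ spGL 3 k := fun g => mem_of_sy (by
    rw [hρ]
    exact (sy_of_mem (S.P_le (f g).2)).map _)
  obtain ⟨n, hn⟩ := exists_fix1 h2k ρ hsp (by
    change Matrix.GeneralLinearGroup.map (algebraMap F k) (f (-1) : GL (Fin 3 ⊕ Fin 3) F) = 1
    rw [hcen, OneMemClass.coe_one, map_one]) (by
    intro h
    apply hu
    apply Subtype.ext
    apply Units.ext
    have h5 : ((ρ (u 1) : GL (Fin 3 ⊕ Fin 3) k) : Matrix (Fin 3 ⊕ Fin 3) (Fin 3 ⊕ Fin 3) k) = 1 := by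
      rw [h, Units.val_one]
    rw [hρ] at h5
    apply Matrix.map_injective (algebraMap F k).injective
    refine h5.trans ?_
    ext i j
    change (1 : Matrix (Fin 3 ⊕ Fin 3) (Fin 3 ⊕ Fin 3) k) i j =
      algebraMap F k ((1 : Matrix (Fin 3 ⊕ Fin 3) (Fin 3 ⊕ Fin 3) F) i j)
    rw [Matrix.one_apply, Matrix.one_apply]
    split_ifs
    · rw [map_one]
    · rw [map_zero])
  obtain ⟨m, hm⟩ := Fix1.exists f hf hρ hn
  -- an element `c ≠ c⁻¹`
  obtain ⟨c, hc⟩ : ∃ c : Fˣ, c ≠ c⁻¹ := by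
    classical
    have h6 : 1 < Fintype.card Fˣ := by
      rw [Fintype.card_units]
      omega
    obtain ⟨c, hc⟩ := Fintype.exists_ne_of_one_lt_card h6 1
    refine ⟨c, fun h => hc ?_⟩
    apply Units.ext
    rw [Units.val_one]
    have h7 : (c : F) * c = 1 := by
      rw [← Units.val_mul, eq_inv_iff_mul_eq_one.1 h, Units.val_one]
    have h8 : ((c : F) - 1) ^ 2 = 0 := by
      linear_combination h7 + (1 - (c : F)) * h2
    exact sub_eq_zero.1 (pow_eq_zero_iff two_ne_zero |>.1 h8)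
  refine false_of_line h2 S hm hc (B := 2184 * 2184) ?_ (num_bound h4 (by norm_num))
  exact (card_H_le' h2 S e).trans (card_mulAut
    (QuotientGroup.mk' (Subgroup.center (Matrix.SpecialLinearGroup (Fin 2) (ZMod 13)))) (QuotientGroup.mk'_surjective _))

end Cfsg.Agent.H914.S6.Spin.L
end

-- part: H156/SN/Code
section
/-!
# Computing with `6 × 6` matrices over the field with nine elements (helper156)

An entry `a + b i` is coded by `a + 3 b`, `a, b ≤ 2`; a matrix is a list of rows.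
`toM η A` is the matrix over a field of characteristic three with `η² = -1`.
-/

set_option autoImplicit false

namespace Cfsg.Agent.H156.SN

open Matrix

universe u

/-- the index set -/
abbrev Ix : Type := Fin 3 ⊕ Fin 3

/-- the number of an index -/
def idx : Ix → ℕ := Sum.elim (fun i => i.val) (fun i => i.val + 3)

theorem idx_lt (i : Ix) : idx i < 6 := by
  rcases i with i | i
  · exact lt_trans i.2 (by norm_num)
  · have := i.2
    change i.val + 3 < 6
    omega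

/-- real part of a code -/
def re (c : ℕ) : ℕ := c % 3

/-- imaginary part of a code -/
def im (c : ℕ) : ℕ := c / 3 % 3

/-- entry of a coded matrix -/
def get (A : List (List ℕ)) (i j : ℕ) : ℕ := (A.getD i []).getD j 0

/-- sum of six values -/
def s6 (f : ℕ → ℕ) : ℕ := f 0 + f 1 + f 2 + f 3 + f 4 + f 5

/-- entry of the product -/
def ent (A B : List (List ℕ)) (i j : ℕ) : ℕ :=
  (s6 fun k => re (get A i k) * re (get B k j) + 2 * (im (get A i k) * im (get B k j))) % 3 +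
    3 * ((s6 fun k => re (get A i k) * im (get B k j) + im (get A i k) * re (get B k j)) % 3)

/-- make a coded matrix -/
def mk (f : ℕ → ℕ → ℕ) : List (List ℕ) := (List.range 6).map fun i => (List.range 6).map fun j => f i j

/-- product of coded matrices -/
def mulc (A B : List (List ℕ)) : List (List ℕ) := mk (ent A B)

/-- transpose of a coded matrix -/
def trc (A : List (List ℕ)) : List (List ℕ) := mk fun i j => get A j i

theorem get_mk (f : ℕ → ℕ → ℕ) {i j : ℕ} (hi : i < 6) (hj : j < 6) : get (mk f) i j = f i j := by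
  unfold get mk
  simp [List.getD_eq_getElem?_getD, hi, hj]

variable {F : Type u} [Field F]

/-- value of a code -/
def ev (η : F) (c : ℕ) : F := (re c : F) + (im c : F) * η

theorem cast_mod (h3 : (3 : F) = 0) (n : ℕ) : ((n % 3 : ℕ) : F) = n := by
  have h : ((n % 3 + 3 * (n / 3) : ℕ) : F) = n := by rw [Nat.mod_add_div]
  rw [← h]
  push_cast
  rw [h3]
  ring

theorem ev_code (h3 : (3 : F) = 0) (η : F) (p q : ℕ) : ev η (p % 3 + 3 * (q % 3)) = p + q * η := by
  have h1 : re (p % 3 + 3 * (q % 3)) = p % 3 := by unfold re; omega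
  have h2 : im (p % 3 + 3 * (q % 3)) = q % 3 := by unfold im; omega
  unfold ev
  rw [h1, h2, cast_mod h3, cast_mod h3]

theorem ev_mul {η : F} (hη : η * η = -1) (h3 : (3 : F) = 0) (a b : ℕ) : ev η a * ev η b =
    ((re a * re b + 2 * (im a * im b) : ℕ) : F) + ((re a * im b + im a * re b : ℕ) : F) * η := by
  unfold ev
  push_cast
  linear_combination ((im a : F) * im b) * hη - ((im a : F) * im b) * h3

/-- the matrix of a code -/
def toM (η : F) (A : List (List ℕ)) : Matrix Ix Ix F := fun i j => ev η (get A (idx i) (idx j))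

theorem toM_mul {η : F} (hη : η * η = -1) (h3 : (3 : F) = 0) {A B C : List (List ℕ)} (h : mulc A B = C) :
    toM η A * toM η B = toM η C := by
  subst h
  ext i j
  rw [Matrix.mul_apply, Fintype.sum_sum_type, Fin.sum_univ_three, Fin.sum_univ_three]
  change ev η (get A (idx i) 0) * ev η (get B 0 (idx j)) + ev η (get A (idx i) 1) * ev η (get B 1 (idx j)) +
    ev η (get A (idx i) 2) * ev η (get B 2 (idx j)) + (ev η (get A (idx i) 3) * ev η (get B 3 (idx j)) +
    ev η (get A (idx i) 4) * ev η (get B 4 (idx j)) + ev η (get A (idx i) 5) * ev η (get B 5 (idx j))) =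
    ev η (get (mulc A B) (idx i) (idx j))
  unfold mulc
  rw [get_mk _ (idx_lt i) (idx_lt j)]
  unfold ent
  rw [ev_code h3]
  simp only [ev_mul hη h3, s6, Nat.cast_add]
  ring

theorem toM_transpose (η : F) (A : List (List ℕ)) : toM η (trc A) = (toM η A)ᵀ := by
  ext i j
  rw [Matrix.transpose_apply]
  unfold toM trc
  rw [get_mk _ (idx_lt i) (idx_lt j)]

/-- the identity -/
def lI : List (List ℕ) := [[1,0,0,0,0,0],[0,1,0,0,0,0],[0,0,1,0,0,0],[0,0,0,1,0,0],[0,0,0,0,1,0],[0,0,0,0,0,1]]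

/-- minus the identity -/
def lN : List (List ℕ) := [[2,0,0,0,0,0],[0,2,0,0,0,0],[0,0,2,0,0,0],[0,0,0,2,0,0],[0,0,0,0,2,0],[0,0,0,0,0,2]]

/-- the form `J = [0 -1; 1 0]` -/
def lJ : List (List ℕ) := [[0,0,0,2,0,0],[0,0,0,0,2,0],[0,0,0,0,0,2],[1,0,0,0,0,0],[0,1,0,0,0,0],[0,0,1,0,0,0]]

theorem toM_lI (η : F) : toM η lI = 1 := by
  ext i j
  rcases i with i | i <;> rcases j with j | j <;> fin_cases i <;> fin_cases j <;>
    simp [toM, lI, get, idx, ev, re, im, Matrix.one_apply]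

theorem two_eq (h3 : (3 : F) = 0) : (2 : F) = -1 := by linear_combination h3

theorem toM_lN (h3 : (3 : F) = 0) (η : F) : toM η lN = -1 := by
  ext i j
  rcases i with i | i <;> rcases j with j | j <;> fin_cases i <;> fin_cases j <;>
    simp [toM, lN, get, idx, ev, re, im, Matrix.one_apply, two_eq h3]

theorem toM_lJ (h3 : (3 : F) = 0) (η : F) : toM η lJ = Matrix.J (Fin 3) F := by
  ext i j
  rcases i with i | i <;> rcases j with j | j <;> fin_cases i <;> fin_cases j <;>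
    simp [toM, lJ, get, idx, ev, re, im, Matrix.one_apply, two_eq h3, Matrix.J]

/-- trace code -/
def trac (A : List (List ℕ)) : ℕ :=
  (s6 fun k => re (get A k k)) % 3 + 3 * ((s6 fun k => im (get A k k)) % 3)

theorem trace_toM (h3 : (3 : F) = 0) (η : F) (A : List (List ℕ)) : (toM η A).trace = ev η (trac A) := by
  unfold Matrix.trace trac
  rw [ev_code h3, Fintype.sum_sum_type, Fin.sum_univ_three, Fin.sum_univ_three]
  change ev η (get A 0 0) + ev η (get A 1 1) + ev η (get A 2 2) + (ev η (get A 3 3) + ev η (get A 4 4) +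
    ev η (get A 5 5)) = _
  simp only [ev, s6, Nat.cast_add]
  ring

/-! ### invertible matrices -/

/-- an invertible matrix from a coded matrix and its inverse -/
def gl {η : F} (hη : η * η = -1) (h3 : (3 : F) = 0) (A B : List (List ℕ)) (h1 : mulc A B = lI) (h2 : mulc B A = lI) :
    GL Ix F :=
  ⟨toM η A, toM η B, by rw [toM_mul hη h3 h1, toM_lI], by rw [toM_mul hη h3 h2, toM_lI]⟩

/-- `g` has code `A` -/
def Is (η : F) (g : GL Ix F) (A : List (List ℕ)) : Prop := (g : Matrix Ix Ix F) = toM η A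

theorem Is.mul {η : F} (hη : η * η = -1) (h3 : (3 : F) = 0) {g h : GL Ix F} {A B C : List (List ℕ)}
    (hg : Is η g A) (hh : Is η h B) (e : mulc A B = C) : Is η (g * h) C := by
  unfold Is at *
  rw [Units.val_mul, hg, hh, toM_mul hη h3 e]

theorem Is.eq {η : F} {g h : GL Ix F} {A : List (List ℕ)} (hg : Is η g A) (hh : Is η h A) : g = h :=
  Units.ext (Eq.trans hg (Eq.symm hh))

theorem Is.one {η : F} : Is η (1 : GL Ix F) lI := by
  unfold Is
  rw [toM_lI, Units.val_one]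

theorem Is.eq_one {η : F} {g : GL Ix F} (hg : Is η g lI) : g = 1 := hg.eq Is.one

theorem Is.neg_one {η : F} (h3 : (3 : F) = 0) : Is η (-1 : GL Ix F) lN := by
  unfold Is
  rw [toM_lN h3, Units.val_neg, Units.val_one]

theorem Is.eq_neg_one {η : F} (h3 : (3 : F) = 0) {g : GL Ix F} (hg : Is η g lN) : g = -1 := hg.eq (Is.neg_one h3)

end Cfsg.Agent.H156.SN
end

-- part: H156/SN/Data
section
/-!
# The group `2.A₇` in `Sp₆(9)`: matrices and their products (helper156, generated)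
-/

set_option autoImplicit false

namespace Cfsg.Agent.H156.SN

/-- a matrix of `2.A₇` -/
def x0 : List (List ℕ) := [[2,4,0,0,0,0],[7,0,0,0,0,0],[0,0,0,0,0,8],[0,0,0,0,5,2],[1,0,0,8,2,8],[5,1,5,0,0,2]]
/-- a matrix of `2.A₇` -/
def y0 : List (List ℕ) := [[0,8,0,0,0,0],[5,2,0,0,0,0],[2,8,2,0,0,4],[0,2,7,2,7,0],[0,0,2,4,0,0],[0,0,7,0,0,0]]
/-- a matrix of `2.A₇` -/
def x1 : List (List ℕ) := [[0,7,2,0,0,0],[4,2,4,2,0,0],[0,0,2,5,2,5],[0,0,0,2,8,0],[0,0,0,5,0,0],[0,0,8,0,0,0]]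
/-- a matrix of `2.A₇` -/
def y1 : List (List ℕ) := [[2,5,0,0,1,7],[8,0,0,0,0,1],[0,0,0,0,0,7],[0,0,0,0,4,0],[0,0,0,7,2,0],[0,0,4,2,4,2]]
/-- a matrix of `2.A₇` -/
def x2 : List (List ℕ) := [[0,0,2,0,0,0],[0,0,0,2,0,0],[0,0,0,0,2,0],[0,0,0,0,0,2],[1,0,0,0,0,0],[0,1,0,0,0,0]]
/-- a matrix of `2.A₇` -/
def y2 : List (List ℕ) := [[0,0,0,0,1,0],[0,0,0,0,0,1],[2,0,0,0,0,0],[0,2,0,0,0,0],[0,0,2,0,0,0],[0,0,0,2,0,0]]
/-- a matrix of `2.A₇` -/
def x3 : List (List ℕ) := [[0,5,2,0,0,0],[8,2,8,2,0,0],[0,0,2,7,2,7],[0,0,0,2,4,0],[0,0,0,7,0,0],[0,0,4,0,0,0]]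
/-- a matrix of `2.A₇` -/
def y3 : List (List ℕ) := [[2,7,0,0,1,5],[4,0,0,0,0,1],[0,0,0,0,0,5],[0,0,0,0,8,0],[0,0,0,5,2,0],[0,0,8,2,8,2]]
/-- a matrix of `2.A₇` -/
def x4 : List (List ℕ) := [[2,8,0,0,0,0],[5,0,0,0,0,0],[0,0,0,0,0,4],[0,0,0,0,7,2],[1,0,0,4,2,4],[7,1,7,0,0,2]]
/-- a matrix of `2.A₇` -/
def y4 : List (List ℕ) := [[0,4,0,0,0,0],[7,2,0,0,0,0],[2,4,2,0,0,8],[0,2,5,2,5,0],[0,0,2,8,0,0],[0,0,5,0,0,0]]
/-- a matrix of `2.A₇` -/
def j0 : List (List ℕ) := [[0,1,5,1,5,0],[0,0,1,8,0,0],[0,0,5,0,0,0],[0,8,0,0,0,0],[5,2,0,0,0,0],[2,8,2,0,0,4]]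
/-- a matrix of `2.A₇` -/
def j1 : List (List ℕ) := [[0,0,0,0,8,0],[0,0,0,5,1,0],[0,0,8,1,8,1],[2,5,0,0,1,7],[8,0,0,0,0,1],[0,0,0,0,0,7]]
/-- a matrix of `2.A₇` -/
def j2 : List (List ℕ) := [[0,1,0,0,0,0],[0,0,1,0,0,0],[0,0,0,1,0,0],[0,0,0,0,1,0],[0,0,0,0,0,1],[2,0,0,0,0,0]]
/-- a matrix of `2.A₇` -/
def j3 : List (List ℕ) := [[0,0,0,0,4,0],[0,0,0,7,1,0],[0,0,4,1,4,1],[2,7,0,0,1,5],[4,0,0,0,0,1],[0,0,0,0,0,5]]
/-- a matrix of `2.A₇` -/
def j4 : List (List ℕ) := [[0,1,7,1,7,0],[0,0,1,4,0,0],[0,0,7,0,0,0],[0,4,0,0,0,0],[7,2,0,0,0,0],[2,4,2,0,0,8]]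
/-- a matrix of `2.A₇` -/
def q01 : List (List ℕ) := [[6,1,7,8,0,0],[0,3,5,0,0,0],[0,0,6,0,0,0],[0,0,4,3,0,0],[0,7,8,2,6,0],[4,8,1,5,7,3]]
/-- a matrix of `2.A₇` -/
def q02 : List (List ℕ) := [[0,0,1,8,0,0],[0,0,5,0,0,0],[0,8,0,0,0,0],[5,2,0,0,0,0],[2,8,2,0,0,4],[0,2,7,2,7,0]]
/-- a matrix of `2.A₇` -/
def q03 : List (List ℕ) := [[3,3,4,8,0,0],[0,6,5,0,0,0],[0,0,3,0,0,0],[0,0,8,6,0,0],[0,5,5,6,3,0],[8,5,6,8,7,6]]
/-- a matrix of `2.A₇` -/
def q04 : List (List ℕ) := [[2,4,0,0,0,0],[5,1,0,0,0,0],[1,8,1,0,0,4],[7,2,5,1,7,2],[2,4,1,8,2,4],[5,1,5,0,0,2]]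
/-- a matrix of `2.A₇` -/
def q10 : List (List ℕ) := [[3,0,0,0,0,4],[1,6,0,0,7,4],[5,5,3,4,4,1],[8,0,0,6,2,7],[0,0,0,0,3,7],[0,0,0,0,0,6]]
/-- a matrix of `2.A₇` -/
def q12 : List (List ℕ) := [[0,0,0,5,1,0],[0,0,8,1,8,1],[2,5,0,0,1,7],[8,0,0,0,0,1],[0,0,0,0,0,7],[0,0,0,0,4,0]]
/-- a matrix of `2.A₇` -/
def q13 : List (List ℕ) := [[1,5,2,7,1,5],[4,2,8,1,4,2],[0,0,2,5,2,5],[0,0,0,2,8,0],[0,0,0,7,1,0],[0,0,4,1,4,1]]
/-- a matrix of `2.A₇` -/
def q14 : List (List ℕ) := [[6,0,0,0,0,8],[3,3,0,0,5,7],[8,5,6,8,7,6],[8,0,0,3,6,4],[0,0,0,0,6,7],[0,0,0,0,0,3]]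
/-- a matrix of `2.A₇` -/
def q20 : List (List ℕ) := [[0,0,0,0,0,4],[0,0,0,0,7,1],[2,0,0,4,1,4],[7,2,7,0,0,1],[2,4,0,0,0,0],[7,0,0,0,0,0]]
/-- a matrix of `2.A₇` -/
def q21 : List (List ℕ) := [[0,0,1,7,1,7],[0,0,0,1,4,0],[0,0,0,7,0,0],[0,0,4,0,0,0],[0,7,2,0,0,0],[4,2,4,2,0,0]]
/-- a matrix of `2.A₇` -/
def q23 : List (List ℕ) := [[0,0,1,5,1,5],[0,0,0,1,8,0],[0,0,0,5,0,0],[0,0,8,0,0,0],[0,5,2,0,0,0],[8,2,8,2,0,0]]
/-- a matrix of `2.A₇` -/
def q24 : List (List ℕ) := [[0,0,0,0,0,8],[0,0,0,0,5,1],[2,0,0,8,1,8],[5,2,5,0,0,1],[2,8,0,0,0,0],[5,0,0,0,0,0]]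
/-- a matrix of `2.A₇` -/
def q30 : List (List ℕ) := [[6,0,0,0,0,4],[6,3,0,0,7,7],[8,7,6,4,7,3],[4,0,0,3,3,4],[0,0,0,0,6,5],[0,0,0,0,0,3]]
/-- a matrix of `2.A₇` -/
def q31 : List (List ℕ) := [[1,7,2,5,1,7],[8,2,4,1,8,2],[0,0,2,7,2,7],[0,0,0,2,4,0],[0,0,0,5,1,0],[0,0,8,1,8,1]]
/-- a matrix of `2.A₇` -/
def q32 : List (List ℕ) := [[0,0,0,7,1,0],[0,0,4,1,4,1],[2,7,0,0,1,5],[4,0,0,0,0,1],[0,0,0,0,0,5],[0,0,0,0,8,0]]
/-- a matrix of `2.A₇` -/
def q34 : List (List ℕ) := [[3,0,0,0,0,8],[2,6,0,0,5,4],[5,7,3,8,4,2],[4,0,0,6,1,7],[0,0,0,0,3,5],[0,0,0,0,0,6]]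
/-- a matrix of `2.A₇` -/
def q40 : List (List ℕ) := [[2,8,0,0,0,0],[7,1,0,0,0,0],[1,4,1,0,0,8],[5,2,7,1,5,2],[2,8,1,4,2,8],[7,1,7,0,0,2]]
/-- a matrix of `2.A₇` -/
def q41 : List (List ℕ) := [[3,6,4,4,0,0],[0,6,7,0,0,0],[0,0,3,0,0,0],[0,0,4,6,0,0],[0,7,5,3,3,0],[4,5,3,8,5,6]]
/-- a matrix of `2.A₇` -/
def q42 : List (List ℕ) := [[0,0,1,4,0,0],[0,0,7,0,0,0],[0,4,0,0,0,0],[7,2,0,0,0,0],[2,4,2,0,0,8],[0,2,5,2,5,0]]
/-- a matrix of `2.A₇` -/
def q43 : List (List ℕ) := [[6,2,7,4,0,0],[0,3,7,0,0,0],[0,0,6,0,0,0],[0,0,8,3,0,0],[0,5,8,1,6,0],[8,8,2,5,5,3]]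
/-- a matrix of `2.A₇` -/
def uc0 : List (List ℕ) := [[4,5,0,0,2,3],[7,6,0,0,5,3],[0,0,3,8,3,8],[0,0,4,7,6,1],[2,7,3,3,8,1],[6,3,4,1,2,5]]
/-- a matrix of `2.A₇` -/
def uc1 : List (List ℕ) := [[2,3,8,7,0,0],[5,3,5,3,0,0],[3,8,0,0,6,4],[6,1,0,0,8,5],[8,1,1,5,6,6],[2,5,3,6,8,2]]
/-- a matrix of `2.A₇` -/
def uc2 : List (List ℕ) := [[5,2,7,1,5,2],[5,3,7,6,5,3],[3,8,3,8,0,0],[4,7,6,1,0,0],[4,0,0,3,1,5],[1,0,0,8,2,8]]
/-- a matrix of `2.A₇` -/
def u : List (List ℕ) := [[0,0,7,2,0,0],[0,4,8,2,2,0],[7,5,0,0,2,2],[2,6,0,0,5,4],[0,2,3,8,7,0],[0,0,2,4,0,0]]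
/-- a matrix of `2.A₇` -/
def tc1 : List (List ℕ) := [[0,0,2,6,8,5],[0,0,7,3,7,3],[3,4,3,4,0,0],[8,7,3,1,0,0],[3,6,8,2,1,7],[8,1,1,5,6,6]]
/-- a matrix of `2.A₇` -/
def t : List (List ℕ) := [[0,0,2,6,8,5],[0,0,7,3,7,3],[3,4,6,8,3,4],[1,4,2,8,1,4],[5,2,5,0,0,1],[8,1,6,0,0,7]]
/-- a matrix of `2.A₇` -/
def u2 : List (List ℕ) := [[4,0,0,0,0,1],[2,0,0,0,0,0],[0,2,0,0,0,0],[0,5,2,0,0,0],[8,2,8,2,0,0],[1,5,0,0,2,7]]
/-- a matrix of `2.A₇` -/
def u3 : List (List ℕ) := [[0,0,1,0,0,0],[0,0,5,1,0,0],[0,8,4,1,1,0],[5,8,2,7,8,1],[2,1,5,5,0,0],[0,2,8,0,0,0]]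
/-- a matrix of `2.A₇` -/
def u4 : List (List ℕ) := [[7,5,0,0,2,2],[8,0,0,0,0,2],[1,0,0,0,0,0],[7,1,0,0,0,0],[4,2,1,0,0,8],[1,7,4,1,5,4]]
/-- a matrix of `2.A₇` -/
def u5 : List (List ℕ) := [[0,2,0,0,0,0],[0,0,2,0,0,0],[0,0,7,2,0,0],[0,4,2,4,2,0],[7,1,7,0,0,2],[1,4,0,0,0,0]]
/-- a matrix of `2.A₇` -/
def u6 : List (List ℕ) := [[0,8,4,1,1,0],[5,7,0,0,1,1],[4,0,0,0,0,1],[1,0,0,0,0,7],[3,1,0,0,4,5],[0,6,1,7,8,0]]
/-- a matrix of `2.A₇` -/
def t2p : List (List ℕ) := [[4,0,0,6,3,8],[2,0,0,8,7,3],[8,2,5,5,3,4],[1,5,8,0,0,6],[4,2,1,0,0,8],[2,5,6,1,5,3]]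
/-- a matrix of `2.A₇` -/
def t4p : List (List ℕ) := [[0,0,1,3,4,7],[0,0,5,6,5,6],[6,8,3,4,6,8],[2,8,1,4,2,8],[7,1,7,0,0,2],[4,2,3,0,0,5]]
/-- a matrix of `2.A₇` -/
def t5p : List (List ℕ) := [[8,0,0,3,6,4],[1,0,0,4,5,6],[4,1,7,7,6,8],[2,7,4,0,0,3],[8,1,2,0,0,4],[1,7,3,2,7,6]]
/-- a matrix of `2.A₇` -/
def tu : List (List ℕ) := [[8,1,5,7,3,8],[0,0,1,3,4,7],[0,0,5,6,5,6],[6,8,0,0,3,4],[6,2,0,0,8,7],[8,8,2,5,5,3]]
/-- a matrix of `2.A₇` -/
def wt : List (List ℕ) := [[8,2,1,7,6,3],[1,5,6,6,4,2],[8,0,0,3,2,5],[1,0,0,4,2,4],[0,1,7,1,7,0],[0,7,4,2,3,0]]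
/-- a matrix of `2.A₇` -/
def m51 : List (List ℕ) := [[7,3,7,3,0,0],[0,0,6,8,6,8],[0,0,4,5,6,2],[1,7,7,6,8,8],[5,7,3,8,4,2],[1,3,4,7,0,0]]
/-- a matrix of `2.A₇` -/
def m52 : List (List ℕ) := [[0,3,5,0,0,0],[0,0,6,0,0,0],[0,0,4,3,0,0],[0,7,8,2,6,0],[4,8,1,5,7,3],[3,2,5,4,0,0]]
/-- a matrix of `2.A₇` -/
def m53 : List (List ℕ) := [[3,4,5,3,8,5],[4,8,0,0,6,6],[4,1,0,0,8,2],[1,5,1,5,0,0],[7,7,3,6,0,0],[7,3,4,5,3,8]]
/-- a matrix of `2.A₇` -/
def m54 : List (List ℕ) := [[6,8,7,6,4,7],[8,4,0,0,3,3],[8,2,0,0,4,1],[2,7,2,7,0,0],[5,5,6,3,0,0],[5,6,8,7,6,4]]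
/-- a matrix of `2.A₇` -/
def m55 : List (List ℕ) := [[0,0,1,2,7,7],[0,0,5,8,1,6],[6,8,2,1,7,6],[6,2,7,4,0,0],[8,8,1,2,0,0],[4,2,5,8,2,7]]
/-- a matrix of `2.A₇` -/
def m56 : List (List ℕ) := [[0,0,1,4,0,0],[0,0,5,2,0,0],[0,8,8,1,2,0],[5,5,0,0,1,2],[2,3,0,0,5,8],[0,2,6,8,5,0]]
/-- a matrix of `2.A₇` -/
def m57 : List (List ℕ) := [[0,0,2,5,2,5],[0,0,7,5,3,3],[3,4,5,3,8,5],[8,7,6,4,7,3],[3,6,4,4,0,0],[8,1,8,1,0,0]]
/-- a matrix of `2.A₇` -/
def m58 : List (List ℕ) := [[0,4,0,0,0,0],[7,2,0,0,0,0],[8,2,2,0,0,8],[2,7,6,2,5,6],[6,3,8,8,0,0],[0,3,5,0,0,0]]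
/-- a matrix of `2.A₇` -/
def m59 : List (List ℕ) := [[8,1,6,0,0,7],[1,7,6,3,4,1],[4,0,0,3,1,5],[2,0,0,4,4,2],[8,2,7,8,1,7],[1,5,5,0,0,1]]
/-- a matrix of `2.A₇` -/
def m60 : List (List ℕ) := [[0,1,5,1,5,0],[0,7,7,3,6,0],[4,1,6,8,1,3],[2,7,6,2,5,6],[4,0,0,3,3,4],[2,0,0,4,1,4]]
/-- a matrix of `2.A₇` -/
def m61 : List (List ℕ) := [[4,1,0,0,8,2],[2,7,1,5,2,7],[8,1,4,2,8,1],[1,7,0,0,2,5],[4,0,0,0,0,2],[2,0,0,0,0,7]]
/-- a matrix of `2.A₇` -/
def m62 : List (List ℕ) := [[6,6,4,2,2,7],[8,2,1,7,6,3],[1,5,6,6,4,2],[3,6,8,2,1,7],[8,1,1,5,6,6],[2,5,3,6,8,2]]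
/-- a matrix of `2.A₇` -/
def m63 : List (List ℕ) := [[8,8,2,5,5,3],[5,0,0,2,3,8],[6,0,0,5,3,5],[8,3,8,0,0,6],[7,6,1,0,0,8],[6,4,8,1,5,7]]
/-- a matrix of `2.A₇` -/
def m64 : List (List ℕ) := [[2,3,4,2,6,4],[5,3,1,7,3,2],[6,4,4,0,0,6],[1,8,1,0,0,4],[5,0,0,1,7,1],[3,0,0,5,7,6]]
/-- a matrix of `2.A₇` -/
def m65 : List (List ℕ) := [[8,1,4,2,8,1],[0,0,1,7,1,7],[0,0,5,7,6,6],[6,8,4,0,0,3],[2,8,2,0,0,4],[7,1,5,2,7,1]]
/-- a matrix of `2.A₇` -/
def m66 : List (List ℕ) := [[2,7,3,3,8,1],[4,0,0,6,1,7],[0,0,0,0,3,5],[0,0,0,0,8,0],[0,0,0,5,2,0],[0,0,8,5,3,2]]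
/-- a matrix of `2.A₇` -/
def m67 : List (List ℕ) := [[0,0,0,0,5,2],[1,0,0,8,2,8],[7,1,5,2,7,1],[1,4,2,8,1,4],[7,0,0,2,5,2],[0,0,0,0,2,8]]
/-- a matrix of `2.A₇` -/
def m68 : List (List ℕ) := [[0,0,8,8,1,2],[1,5,5,0,0,1],[2,8,0,0,0,0],[7,1,0,0,0,0],[7,6,1,0,0,8],[0,0,3,1,5,8]]
/-- a matrix of `2.A₇` -/
def m69 : List (List ℕ) := [[8,4,0,0,3,3],[8,2,0,0,4,1],[1,5,2,7,1,5],[2,8,1,4,2,8],[0,2,5,2,5,0],[0,7,5,3,3,0]]
/-- a matrix of `2.A₇` -/
def m70 : List (List ℕ) := [[1,5,4,2,5,8],[0,1,1,7,5,0],[0,0,1,8,0,0],[0,0,0,1,0,0],[0,0,0,7,1,0],[0,0,4,4,2,1]]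
/-- a matrix of `2.A₇` -/
def m71 : List (List ℕ) := [[0,7,6,7,6,0],[4,3,8,6,4,3],[7,3,5,6,7,3],[6,8,0,0,3,4],[1,1,0,0,4,8],[0,1,1,7,5,0]]
/-- a matrix of `2.A₇` -/
def m72 : List (List ℕ) := [[2,5,4,0,0,6],[6,7,0,0,0,0],[0,3,0,0,0,0],[0,8,6,0,0,0],[5,4,1,3,0,0],[4,2,7,5,6,4]]
/-- a matrix of `2.A₇` -/
def m73 : List (List ℕ) := [[0,0,5,7,6,6],[6,8,7,6,4,7],[8,4,0,0,3,3],[6,1,0,0,8,5],[8,1,1,5,6,6],[0,0,1,3,4,7]]
/-- a matrix of `2.A₇` -/
def nw : List (List ℕ) := [[2,7,1,5,2,7],[8,1,4,2,8,1],[0,0,1,7,1,7],[0,0,0,1,4,0],[0,0,0,5,2,0],[0,0,8,2,8,2]]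
/-- a matrix of `2.A₇` -/
def us : List (List ℕ) := [[0,0,1,7,1,7],[0,0,5,7,6,6],[6,8,7,6,4,7],[4,5,3,8,5,6],[6,3,8,8,0,0],[4,2,4,2,0,0]]
/-- a matrix of `2.A₇` -/
def v : List (List ℕ) := [[0,0,3,2,5,4],[0,0,0,6,7,0],[0,0,0,0,3,0],[0,0,0,0,8,6],[6,0,0,5,4,1],[7,3,8,4,2,7]]
/-- a matrix of `2.A₇` -/
def z : List (List ℕ) := [[3,5,3,0,0,7],[8,0,0,6,4,6],[1,0,0,8,5,3],[1,1,5,6,6,4],[5,3,6,8,2,1],[6,4,5,0,0,2]]
/-- a matrix of `2.A₇` -/
def z2 : List (List ℕ) := [[0,7,8,2,6,0],[4,8,1,5,7,3],[3,2,5,4,0,0],[0,6,7,0,0,0],[0,0,3,0,0,0],[0,0,8,6,0,0]]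
/-- a matrix of `2.A₇` -/
def z4 : List (List ℕ) := [[6,8,0,0,3,4],[6,2,0,0,8,7],[4,1,2,5,3,6],[2,7,3,3,8,1],[2,6,8,5,0,0],[7,3,7,3,0,0]]

theorem p_x0_x0 : mulc x0 x0 = y0 := by decide +kernel
theorem p_x0_y0 : mulc x0 y0 = lI := by decide +kernel
theorem p_y0_x0 : mulc y0 x0 = lI := by decide +kernel
theorem p_x1_x1 : mulc x1 x1 = y1 := by decide +kernel
theorem p_x1_y1 : mulc x1 y1 = lI := by decide +kernel
theorem p_y1_x1 : mulc y1 x1 = lI := by decide +kernel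
theorem p_x2_x2 : mulc x2 x2 = y2 := by decide +kernel
theorem p_x2_y2 : mulc x2 y2 = lI := by decide +kernel
theorem p_y2_x2 : mulc y2 x2 = lI := by decide +kernel
theorem p_x3_x3 : mulc x3 x3 = y3 := by decide +kernel
theorem p_x3_y3 : mulc x3 y3 = lI := by decide +kernel
theorem p_y3_x3 : mulc y3 x3 = lI := by decide +kernel
theorem p_x4_x4 : mulc x4 x4 = y4 := by decide +kernel
theorem p_x4_y4 : mulc x4 y4 = lI := by decide +kernel
theorem p_y4_x4 : mulc y4 x4 = lI := by decide +kernel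
theorem p_y3_lJ : mulc y3 lJ = j0 := by decide +kernel
theorem p_j0_x0 : mulc j0 x0 = lJ := by decide +kernel
theorem tr0 : trc x0 = y3 := by decide +kernel
theorem p_y4_lJ : mulc y4 lJ = j1 := by decide +kernel
theorem p_j1_x1 : mulc j1 x1 = lJ := by decide +kernel
theorem tr1 : trc x1 = y4 := by decide +kernel
theorem p_y2_lJ : mulc y2 lJ = j2 := by decide +kernel
theorem p_j2_x2 : mulc j2 x2 = lJ := by decide +kernel
theorem tr2 : trc x2 = y2 := by decide +kernel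
theorem p_y0_lJ : mulc y0 lJ = j3 := by decide +kernel
theorem p_j3_x3 : mulc j3 x3 = lJ := by decide +kernel
theorem tr3 : trc x3 = y0 := by decide +kernel
theorem p_y1_lJ : mulc y1 lJ = j4 := by decide +kernel
theorem p_j4_x4 : mulc j4 x4 = lJ := by decide +kernel
theorem tr4 : trc x4 = y1 := by decide +kernel
theorem p_x0_x1 : mulc x0 x1 = q01 := by decide +kernel
theorem p_q01_q01 : mulc q01 q01 = lN := by decide +kernel
theorem p_x0_x2 : mulc x0 x2 = q02 := by decide +kernel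
theorem p_q02_q02 : mulc q02 q02 = lN := by decide +kernel
theorem p_x0_x3 : mulc x0 x3 = q03 := by decide +kernel
theorem p_q03_q03 : mulc q03 q03 = lN := by decide +kernel
theorem p_x0_x4 : mulc x0 x4 = q04 := by decide +kernel
theorem p_q04_q04 : mulc q04 q04 = lN := by decide +kernel
theorem p_x1_x0 : mulc x1 x0 = q10 := by decide +kernel
theorem p_q10_q10 : mulc q10 q10 = lN := by decide +kernel
theorem p_x1_x2 : mulc x1 x2 = q12 := by decide +kernel
theorem p_q12_q12 : mulc q12 q12 = lN := by decide +kernel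
theorem p_x1_x3 : mulc x1 x3 = q13 := by decide +kernel
theorem p_q13_q13 : mulc q13 q13 = lN := by decide +kernel
theorem p_x1_x4 : mulc x1 x4 = q14 := by decide +kernel
theorem p_q14_q14 : mulc q14 q14 = lN := by decide +kernel
theorem p_x2_x0 : mulc x2 x0 = q20 := by decide +kernel
theorem p_q20_q20 : mulc q20 q20 = lN := by decide +kernel
theorem p_x2_x1 : mulc x2 x1 = q21 := by decide +kernel
theorem p_q21_q21 : mulc q21 q21 = lN := by decide +kernel
theorem p_x2_x3 : mulc x2 x3 = q23 := by decide +kernel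
theorem p_q23_q23 : mulc q23 q23 = lN := by decide +kernel
theorem p_x2_x4 : mulc x2 x4 = q24 := by decide +kernel
theorem p_q24_q24 : mulc q24 q24 = lN := by decide +kernel
theorem p_x3_x0 : mulc x3 x0 = q30 := by decide +kernel
theorem p_q30_q30 : mulc q30 q30 = lN := by decide +kernel
theorem p_x3_x1 : mulc x3 x1 = q31 := by decide +kernel
theorem p_q31_q31 : mulc q31 q31 = lN := by decide +kernel
theorem p_x3_x2 : mulc x3 x2 = q32 := by decide +kernel
theorem p_q32_q32 : mulc q32 q32 = lN := by decide +kernel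
theorem p_x3_x4 : mulc x3 x4 = q34 := by decide +kernel
theorem p_q34_q34 : mulc q34 q34 = lN := by decide +kernel
theorem p_x4_x0 : mulc x4 x0 = q40 := by decide +kernel
theorem p_q40_q40 : mulc q40 q40 = lN := by decide +kernel
theorem p_x4_x1 : mulc x4 x1 = q41 := by decide +kernel
theorem p_q41_q41 : mulc q41 q41 = lN := by decide +kernel
theorem p_x4_x2 : mulc x4 x2 = q42 := by decide +kernel
theorem p_q42_q42 : mulc q42 q42 = lN := by decide +kernel
theorem p_x4_x3 : mulc x4 x3 = q43 := by decide +kernel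
theorem p_q43_q43 : mulc q43 q43 = lN := by decide +kernel
theorem p_x4_y3 : mulc x4 y3 = uc0 := by decide +kernel
theorem p_uc0_x2 : mulc uc0 x2 = uc1 := by decide +kernel
theorem p_uc1_x1 : mulc uc1 x1 = uc2 := by decide +kernel
theorem p_uc2_x0 : mulc uc2 x0 = u := by decide +kernel
theorem p_q02_x1 : mulc q02 x1 = tc1 := by decide +kernel
theorem p_tc1_x3 : mulc tc1 x3 = t := by decide +kernel
theorem p_u_u : mulc u u = u2 := by decide +kernel
theorem p_u2_u : mulc u2 u = u3 := by decide +kernel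
theorem p_u3_u : mulc u3 u = u4 := by decide +kernel
theorem p_u4_u : mulc u4 u = u5 := by decide +kernel
theorem p_u5_u : mulc u5 u = u6 := by decide +kernel
theorem p_u6_u : mulc u6 u = lI := by decide +kernel
theorem p_t_t : mulc t t = t2p := by decide +kernel
theorem p_t2p_t : mulc t2p t = lN := by decide +kernel
theorem p_lN_t : mulc lN t = t4p := by decide +kernel
theorem p_t4p_t : mulc t4p t = t5p := by decide +kernel
theorem p_t5p_t : mulc t5p t = lI := by decide +kernel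
theorem p_t_u : mulc t u = tu := by decide +kernel
theorem p_u2_t : mulc u2 t = tu := by decide +kernel
theorem p_q13_t : mulc q13 t = wt := by decide +kernel
theorem p_t5p_q13 : mulc t5p q13 = wt := by decide +kernel
theorem p_q13_u : mulc q13 u = m51 := by decide +kernel
theorem p_m51_q13 : mulc m51 q13 = m52 := by decide +kernel
theorem p_u6_q13 : mulc u6 q13 = m53 := by decide +kernel
theorem p_m53_lN : mulc m53 lN = m54 := by decide +kernel
theorem p_m54_u6 : mulc m54 u6 = m52 := by decide +kernel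
theorem p_q13_u2 : mulc q13 u2 = m55 := by decide +kernel
theorem p_m55_q13 : mulc m55 q13 = m56 := by decide +kernel
theorem p_u3_q13 : mulc u3 q13 = m57 := by decide +kernel
theorem p_m57_t5p : mulc m57 t5p = m58 := by decide +kernel
theorem p_m58_u3 : mulc m58 u3 = m56 := by decide +kernel
theorem p_q13_u3 : mulc q13 u3 = m59 := by decide +kernel
theorem p_m59_q13 : mulc m59 q13 = m60 := by decide +kernel
theorem p_u2_q13 : mulc u2 q13 = m61 := by decide +kernel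
theorem p_m61_t4p : mulc m61 t4p = m62 := by decide +kernel
theorem p_m62_u2 : mulc m62 u2 = m60 := by decide +kernel
theorem p_q13_u4 : mulc q13 u4 = m63 := by decide +kernel
theorem p_m63_q13 : mulc m63 q13 = m64 := by decide +kernel
theorem p_u5_q13 : mulc u5 q13 = m65 := by decide +kernel
theorem p_m65_t : mulc m65 t = m66 := by decide +kernel
theorem p_m66_u5 : mulc m66 u5 = m64 := by decide +kernel
theorem p_q13_u5 : mulc q13 u5 = m67 := by decide +kernel
theorem p_m67_q13 : mulc m67 q13 = m68 := by decide +kernel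
theorem p_u4_q13 : mulc u4 q13 = m69 := by decide +kernel
theorem p_m69_t2p : mulc m69 t2p = m70 := by decide +kernel
theorem p_m70_u4 : mulc m70 u4 = m68 := by decide +kernel
theorem p_q13_u6 : mulc q13 u6 = m71 := by decide +kernel
theorem p_m71_q13 : mulc m71 q13 = m72 := by decide +kernel
theorem p_u_q13 : mulc u q13 = m73 := by decide +kernel
theorem p_m73_lI : mulc m73 lI = m73 := by decide +kernel
theorem p_m73_u : mulc m73 u = m72 := by decide +kernel
theorem p_lN_q13 : mulc lN q13 = nw := by decide +kernel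
theorem p_u3_nw : mulc u3 nw = us := by decide +kernel
theorem p_q01_x2 : mulc q01 x2 = v := by decide +kernel
theorem p_v_v : mulc v v = z := by decide +kernel
theorem p_z_z : mulc z z = z2 := by decide +kernel
theorem p_z2_z2 : mulc z2 z2 = z4 := by decide +kernel
theorem p_z4_z : mulc z4 z = lI := by decide +kernel

end Cfsg.Agent.H156.SN
end

-- part: H156/SN/Grp
section
/-!
# The group `2.A₇ < Sp₆(9)` and its subgroup `SL₂(7)`: relations (helper156, generated)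
-/

set_option autoImplicit false
set_option linter.unusedSectionVars false

namespace Cfsg.Agent.H156.SN

open Matrix Cfsg

universe u

/-- a field of characteristic three with a square root of `-1` -/
structure Env (F : Type u) [Field F] where
  η : F
  hη : η * η = -1
  h3 : (3 : F) = 0

theorem mem_spGL_of {F : Type u} [Field F] {g : GL Ix F}
    (h : (g : Matrix Ix Ix F)ᵀ * Matrix.J (Fin 3) F * (g : Matrix Ix Ix F) = Matrix.J (Fin 3) F) : g ∈ spGL 3 F := by
  rw [H931.mem_spGL_iff]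
  intro a b
  unfold sympForm
  rw [Matrix.dotProduct_mulVec, Matrix.vecMul_mulVec, ← Matrix.dotProduct_mulVec, Matrix.mulVec_mulVec, h]

namespace Env

variable {F : Type u} [Field F] (E : Env F)

/-- generators of `2.A₇` -/
def X : ℕ → GL Ix F
  | 0 => gl E.hη E.h3 x0 y0 p_x0_y0 p_y0_x0
  | 1 => gl E.hη E.h3 x1 y1 p_x1_y1 p_y1_x1
  | 2 => gl E.hη E.h3 x2 y2 p_x2_y2 p_y2_x2
  | 3 => gl E.hη E.h3 x3 y3 p_x3_y3 p_y3_x3
  | _ => gl E.hη E.h3 x4 y4 p_x4_y4 p_y4_x4

/-- `g` has code `A` -/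
def Is (g : GL Ix F) (A : List (List ℕ)) : Prop := (g : Matrix Ix Ix F) = toM E.η A

variable {E}

theorem Is.mul {g h : GL Ix F} {A B C : List (List ℕ)} (hg : E.Is g A) (hh : E.Is h B) (e : mulc A B = C) :
    E.Is (g * h) C := SN.Is.mul E.hη E.h3 hg hh e

theorem Is.eq {g h : GL Ix F} {A : List (List ℕ)} (hg : E.Is g A) (hh : E.Is h A) : g = h := SN.Is.eq hg hh

theorem Is.eq_one {g : GL Ix F} (hg : E.Is g lI) : g = 1 := SN.Is.eq_one hg

theorem Is.eq_neg_one {g : GL Ix F} (hg : E.Is g lN) : g = -1 := SN.Is.eq_neg_one E.h3 hg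

variable (E)

theorem hx0 : E.Is (E.X 0) x0 := rfl

theorem X0_cube : E.X 0 ^ 3 = 1 := by
  rw [pow_succ, pow_two]
  exact (((hx0 E).mul (hx0 E) p_x0_x0).mul (hx0 E) p_y0_x0).eq_one

theorem hx1 : E.Is (E.X 1) x1 := rfl

theorem X1_cube : E.X 1 ^ 3 = 1 := by
  rw [pow_succ, pow_two]
  exact (((hx1 E).mul (hx1 E) p_x1_x1).mul (hx1 E) p_y1_x1).eq_one

theorem hx2 : E.Is (E.X 2) x2 := rfl

theorem X2_cube : E.X 2 ^ 3 = 1 := by
  rw [pow_succ, pow_two]
  exact (((hx2 E).mul (hx2 E) p_x2_x2).mul (hx2 E) p_y2_x2).eq_one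

theorem hx3 : E.Is (E.X 3) x3 := rfl

theorem hy3 : E.Is (E.X 3)⁻¹ y3 := rfl

theorem X3_cube : E.X 3 ^ 3 = 1 := by
  rw [pow_succ, pow_two]
  exact (((hx3 E).mul (hx3 E) p_x3_x3).mul (hx3 E) p_y3_x3).eq_one

theorem hx4 : E.Is (E.X 4) x4 := rfl

theorem X4_cube : E.X 4 ^ 3 = 1 := by
  rw [pow_succ, pow_two]
  exact (((hx4 E).mul (hx4 E) p_x4_x4).mul (hx4 E) p_y4_x4).eq_one

theorem X0_sp : E.X 0 ∈ spGL 3 F := by
  apply mem_spGL_of
  rw [show ((E.X 0 : GL Ix F) : Matrix Ix Ix F) = toM E.η x0 from rfl, ← toM_transpose, tr0, ← toM_lJ E.h3 E.η,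
    toM_mul E.hη E.h3 p_y3_lJ, toM_mul E.hη E.h3 p_j0_x0]

theorem X1_sp : E.X 1 ∈ spGL 3 F := by
  apply mem_spGL_of
  rw [show ((E.X 1 : GL Ix F) : Matrix Ix Ix F) = toM E.η x1 from rfl, ← toM_transpose, tr1, ← toM_lJ E.h3 E.η,
    toM_mul E.hη E.h3 p_y4_lJ, toM_mul E.hη E.h3 p_j1_x1]

theorem X2_sp : E.X 2 ∈ spGL 3 F := by
  apply mem_spGL_of
  rw [show ((E.X 2 : GL Ix F) : Matrix Ix Ix F) = toM E.η x2 from rfl, ← toM_transpose, tr2, ← toM_lJ E.h3 E.η,
    toM_mul E.hη E.h3 p_y2_lJ, toM_mul E.hη E.h3 p_j2_x2]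

theorem X3_sp : E.X 3 ∈ spGL 3 F := by
  apply mem_spGL_of
  rw [show ((E.X 3 : GL Ix F) : Matrix Ix Ix F) = toM E.η x3 from rfl, ← toM_transpose, tr3, ← toM_lJ E.h3 E.η,
    toM_mul E.hη E.h3 p_y0_lJ, toM_mul E.hη E.h3 p_j3_x3]

theorem X4_sp : E.X 4 ∈ spGL 3 F := by
  apply mem_spGL_of
  rw [show ((E.X 4 : GL Ix F) : Matrix Ix Ix F) = toM E.η x4 from rfl, ← toM_transpose, tr4, ← toM_lJ E.h3 E.η,
    toM_mul E.hη E.h3 p_y1_lJ, toM_mul E.hη E.h3 p_j4_x4]

theorem X0_X1 : (E.X 0 * E.X 1) ^ 2 = -1 := by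
  rw [pow_two]
  exact (((hx0 E).mul (hx1 E) p_x0_x1).mul ((hx0 E).mul (hx1 E) p_x0_x1) p_q01_q01).eq_neg_one

theorem X0_X2 : (E.X 0 * E.X 2) ^ 2 = -1 := by
  rw [pow_two]
  exact (((hx0 E).mul (hx2 E) p_x0_x2).mul ((hx0 E).mul (hx2 E) p_x0_x2) p_q02_q02).eq_neg_one

theorem X0_X3 : (E.X 0 * E.X 3) ^ 2 = -1 := by
  rw [pow_two]
  exact (((hx0 E).mul (hx3 E) p_x0_x3).mul ((hx0 E).mul (hx3 E) p_x0_x3) p_q03_q03).eq_neg_one

theorem X0_X4 : (E.X 0 * E.X 4) ^ 2 = -1 := by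
  rw [pow_two]
  exact (((hx0 E).mul (hx4 E) p_x0_x4).mul ((hx0 E).mul (hx4 E) p_x0_x4) p_q04_q04).eq_neg_one

theorem X1_X0 : (E.X 1 * E.X 0) ^ 2 = -1 := by
  rw [pow_two]
  exact (((hx1 E).mul (hx0 E) p_x1_x0).mul ((hx1 E).mul (hx0 E) p_x1_x0) p_q10_q10).eq_neg_one

theorem X1_X2 : (E.X 1 * E.X 2) ^ 2 = -1 := by
  rw [pow_two]
  exact (((hx1 E).mul (hx2 E) p_x1_x2).mul ((hx1 E).mul (hx2 E) p_x1_x2) p_q12_q12).eq_neg_one

theorem X1_X3 : (E.X 1 * E.X 3) ^ 2 = -1 := by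
  rw [pow_two]
  exact (((hx1 E).mul (hx3 E) p_x1_x3).mul ((hx1 E).mul (hx3 E) p_x1_x3) p_q13_q13).eq_neg_one

theorem X1_X4 : (E.X 1 * E.X 4) ^ 2 = -1 := by
  rw [pow_two]
  exact (((hx1 E).mul (hx4 E) p_x1_x4).mul ((hx1 E).mul (hx4 E) p_x1_x4) p_q14_q14).eq_neg_one

theorem X2_X0 : (E.X 2 * E.X 0) ^ 2 = -1 := by
  rw [pow_two]
  exact (((hx2 E).mul (hx0 E) p_x2_x0).mul ((hx2 E).mul (hx0 E) p_x2_x0) p_q20_q20).eq_neg_one

theorem X2_X1 : (E.X 2 * E.X 1) ^ 2 = -1 := by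
  rw [pow_two]
  exact (((hx2 E).mul (hx1 E) p_x2_x1).mul ((hx2 E).mul (hx1 E) p_x2_x1) p_q21_q21).eq_neg_one

theorem X2_X3 : (E.X 2 * E.X 3) ^ 2 = -1 := by
  rw [pow_two]
  exact (((hx2 E).mul (hx3 E) p_x2_x3).mul ((hx2 E).mul (hx3 E) p_x2_x3) p_q23_q23).eq_neg_one

theorem X2_X4 : (E.X 2 * E.X 4) ^ 2 = -1 := by
  rw [pow_two]
  exact (((hx2 E).mul (hx4 E) p_x2_x4).mul ((hx2 E).mul (hx4 E) p_x2_x4) p_q24_q24).eq_neg_one

theorem X3_X0 : (E.X 3 * E.X 0) ^ 2 = -1 := by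
  rw [pow_two]
  exact (((hx3 E).mul (hx0 E) p_x3_x0).mul ((hx3 E).mul (hx0 E) p_x3_x0) p_q30_q30).eq_neg_one

theorem X3_X1 : (E.X 3 * E.X 1) ^ 2 = -1 := by
  rw [pow_two]
  exact (((hx3 E).mul (hx1 E) p_x3_x1).mul ((hx3 E).mul (hx1 E) p_x3_x1) p_q31_q31).eq_neg_one

theorem X3_X2 : (E.X 3 * E.X 2) ^ 2 = -1 := by
  rw [pow_two]
  exact (((hx3 E).mul (hx2 E) p_x3_x2).mul ((hx3 E).mul (hx2 E) p_x3_x2) p_q32_q32).eq_neg_one

theorem X3_X4 : (E.X 3 * E.X 4) ^ 2 = -1 := by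
  rw [pow_two]
  exact (((hx3 E).mul (hx4 E) p_x3_x4).mul ((hx3 E).mul (hx4 E) p_x3_x4) p_q34_q34).eq_neg_one

theorem X4_X0 : (E.X 4 * E.X 0) ^ 2 = -1 := by
  rw [pow_two]
  exact (((hx4 E).mul (hx0 E) p_x4_x0).mul ((hx4 E).mul (hx0 E) p_x4_x0) p_q40_q40).eq_neg_one

theorem X4_X1 : (E.X 4 * E.X 1) ^ 2 = -1 := by
  rw [pow_two]
  exact (((hx4 E).mul (hx1 E) p_x4_x1).mul ((hx4 E).mul (hx1 E) p_x4_x1) p_q41_q41).eq_neg_one

theorem X4_X2 : (E.X 4 * E.X 2) ^ 2 = -1 := by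
  rw [pow_two]
  exact (((hx4 E).mul (hx2 E) p_x4_x2).mul ((hx4 E).mul (hx2 E) p_x4_x2) p_q42_q42).eq_neg_one

theorem X4_X3 : (E.X 4 * E.X 3) ^ 2 = -1 := by
  rw [pow_two]
  exact (((hx4 E).mul (hx3 E) p_x4_x3).mul ((hx4 E).mul (hx3 E) p_x4_x3) p_q43_q43).eq_neg_one

/-- the element `U` of `SL₂(7)` -/
def U : GL Ix F := E.X 4 * (E.X 3)⁻¹ * E.X 2 * E.X 1 * E.X 0

theorem hu : E.Is E.U u := (((((hx4 E).mul (hy3 E) p_x4_y3).mul (hx2 E) p_uc0_x2).mul (hx1 E) p_uc1_x1).mul (hx0 E) p_uc2_x0)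

/-- the element `T` of `SL₂(7)` -/
def T : GL Ix F := E.X 0 * E.X 2 * E.X 1 * E.X 3

theorem ht : E.Is E.T t := ((((hx0 E).mul (hx2 E) p_x0_x2).mul (hx1 E) p_q02_x1).mul (hx3 E) p_tc1_x3)

/-- the element `W` of `SL₂(7)` -/
def W : GL Ix F := E.X 1 * E.X 3

theorem hw : E.Is E.W q13 := ((hx1 E).mul (hx3 E) p_x1_x3)

theorem hone : E.Is 1 lI := SN.Is.one

theorem u1 : E.Is (E.U ^ 1) u := by rw [pow_one]; exact E.hu

theorem u2 : E.Is (E.U ^ 2) u2 := by rw [pow_succ]; exact E.u1.mul E.hu p_u_u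

theorem u3 : E.Is (E.U ^ 3) u3 := by rw [pow_succ]; exact E.u2.mul E.hu p_u2_u

theorem u4 : E.Is (E.U ^ 4) u4 := by rw [pow_succ]; exact E.u3.mul E.hu p_u3_u

theorem u5 : E.Is (E.U ^ 5) u5 := by rw [pow_succ]; exact E.u4.mul E.hu p_u4_u

theorem u6 : E.Is (E.U ^ 6) u6 := by rw [pow_succ]; exact E.u5.mul E.hu p_u5_u

theorem u7 : E.Is (E.U ^ 7) lI := by rw [pow_succ]; exact E.u6.mul E.hu p_u6_u

theorem t1 : E.Is (E.T ^ 1) t := by rw [pow_one]; exact E.ht

theorem t2 : E.Is (E.T ^ 2) t2p := by rw [pow_succ]; exact E.t1.mul E.ht p_t_t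

theorem t3 : E.Is (E.T ^ 3) lN := by rw [pow_succ]; exact E.t2.mul E.ht p_t2p_t

theorem t4 : E.Is (E.T ^ 4) t4p := by rw [pow_succ]; exact E.t3.mul E.ht p_lN_t

theorem t5 : E.Is (E.T ^ 5) t5p := by rw [pow_succ]; exact E.t4.mul E.ht p_t4p_t

theorem t6 : E.Is (E.T ^ 6) lI := by rw [pow_succ]; exact E.t5.mul E.ht p_t5p_t

theorem t0 : E.Is (E.T ^ 0) lI := by rw [pow_zero]; exact E.hone

theorem U7 : E.U ^ 7 = 1 := E.u7.eq_one

theorem T6 : E.T ^ 6 = 1 := E.t6.eq_one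

theorem T3 : E.T ^ 3 = -1 := E.t3.eq_neg_one

theorem TU : E.T * E.U = E.U ^ 2 * E.T := (E.ht.mul E.hu p_t_u).eq (E.u2.mul E.ht p_u2_t)

theorem WT : E.W * E.T = E.T ^ 5 * E.W := (E.hw.mul E.ht p_q13_t).eq (E.t5.mul E.hw p_t5p_q13)

theorem WW : E.W * E.W = -1 := (E.hw.mul E.hw p_q13_q13).eq_neg_one

theorem rel1 : E.W * E.U ^ 1 * E.W = E.U ^ 6 * E.W * E.T ^ 3 * E.U ^ 6 :=
  ((E.hw.mul E.u1 p_q13_u).mul E.hw p_m51_q13).eq (((E.u6.mul E.hw p_u6_q13).mul E.t3 p_m53_lN).mul E.u6 p_m54_u6)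

theorem rel2 : E.W * E.U ^ 2 * E.W = E.U ^ 3 * E.W * E.T ^ 5 * E.U ^ 3 :=
  ((E.hw.mul E.u2 p_q13_u2).mul E.hw p_m55_q13).eq (((E.u3.mul E.hw p_u3_q13).mul E.t5 p_m57_t5p).mul E.u3 p_m58_u3)

theorem rel3 : E.W * E.U ^ 3 * E.W = E.U ^ 2 * E.W * E.T ^ 4 * E.U ^ 2 :=
  ((E.hw.mul E.u3 p_q13_u3).mul E.hw p_m59_q13).eq (((E.u2.mul E.hw p_u2_q13).mul E.t4 p_m61_t4p).mul E.u2 p_m62_u2)

theorem rel4 : E.W * E.U ^ 4 * E.W = E.U ^ 5 * E.W * E.T ^ 1 * E.U ^ 5 :=
  ((E.hw.mul E.u4 p_q13_u4).mul E.hw p_m63_q13).eq (((E.u5.mul E.hw p_u5_q13).mul E.t1 p_m65_t).mul E.u5 p_m66_u5)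

theorem rel5 : E.W * E.U ^ 5 * E.W = E.U ^ 4 * E.W * E.T ^ 2 * E.U ^ 4 :=
  ((E.hw.mul E.u5 p_q13_u5).mul E.hw p_m67_q13).eq (((E.u4.mul E.hw p_u4_q13).mul E.t2 p_m69_t2p).mul E.u4 p_m70_u4)

theorem rel6 : E.W * E.U ^ 6 * E.W = E.U ^ 1 * E.W * E.T ^ 0 * E.U ^ 1 :=
  ((E.hw.mul E.u6 p_q13_u6).mul E.hw p_m71_q13).eq (((E.u1.mul E.hw p_u_q13).mul E.t0 p_m73_lI).mul E.u1 p_m73_u)

theorem hneg : E.Is (-1 : GL Ix F) lN := SN.Is.neg_one E.h3

theorem hs : E.Is (E.U ^ 3 * (-1 * E.W)) us := E.u3.mul (E.hneg.mul E.hw p_lN_q13) p_u3_nw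

theorem tr_U : ((E.U : GL Ix F) : Matrix Ix Ix F).trace = -1 := by
  rw [show ((E.U : GL Ix F) : Matrix Ix Ix F) = toM E.η u from E.hu, trace_toM E.h3, show trac u = 2 from by decide +kernel]
  simp only [ev, re, im, two_eq E.h3, _root_.Nat.mod_succ, _root_.Nat.cast_ofNat, _root_.Nat.reduceDiv, _root_.Nat.zero_mod, _root_.Nat.cast_zero, _root_.MulZeroClass.zero_mul, _root_.add_zero]

theorem tr_s : ((E.U ^ 3 * (-1 * E.W) : GL Ix F) : Matrix Ix Ix F).trace = E.η := by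
  rw [show ((E.U ^ 3 * (-1 * E.W) : GL Ix F) : Matrix Ix Ix F) = toM E.η us from E.hs, trace_toM E.h3,
    show trac us = 3 from by decide +kernel]
  simp only [ev, re, im, _root_.Nat.mod_self, _root_.Nat.cast_zero, _root_.Nat.ofNat_pos, _root_.Nat.div_self, _root_.Nat.one_mod, _root_.Nat.cast_one, _root_.one_mul, _root_.zero_add]

/-- an element of order five -/
def Z : GL Ix F := (E.X 0 * E.X 1 * E.X 2) * (E.X 0 * E.X 1 * E.X 2)

theorem hv : E.Is (E.X 0 * E.X 1 * E.X 2) v := (E.hx0.mul E.hx1 p_x0_x1).mul E.hx2 p_q01_x2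

theorem hz : E.Is E.Z z := E.hv.mul E.hv p_v_v

theorem Z5 : E.Z ^ 5 = 1 := by
  have h : E.Z ^ 5 = (E.Z * E.Z) * (E.Z * E.Z) * E.Z := by
    simp only [pow_succ, pow_zero, one_mul, mul_assoc]
  rw [h]
  exact (((E.hz.mul E.hz p_z_z).mul (E.hz.mul E.hz p_z_z) p_z2_z2).mul E.hz p_z4_z).eq_one

theorem tr_Z : ((E.Z : GL Ix F) : Matrix Ix Ix F).trace = 1 := by
  rw [show ((E.Z : GL Ix F) : Matrix Ix Ix F) = toM E.η z from E.hz, trace_toM E.h3, show trac z = 1 from by decide +kernel]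
  simp only [ev, re, im, _root_.Nat.one_mod, _root_.Nat.cast_one, _root_.Nat.reduceDiv, _root_.Nat.zero_mod, _root_.Nat.cast_zero, _root_.MulZeroClass.zero_mul, _root_.add_zero]

theorem Z_ne_one : E.Z ≠ 1 := by
  intro h
  have h1 := E.tr_Z
  rw [h, Units.val_one, Matrix.trace_one] at h1
  have h2 : ((Fintype.card Ix : ℕ) : F) = 0 := by
    have h3 : Fintype.card Ix = 6 := by simp [Ix]
    rw [h3]
    push_cast
    linear_combination 2 * E.h3
  rw [h2] at h1
  exact zero_ne_one h1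

end Env

end Cfsg.Agent.H156.SN
end

-- part: H156/SN/Hom
section
/-!
# `SL₂(7) → 2.A₇ < Sp₆(9)` (helper156)

* `Env.ρ` : the homomorphism from `SL₂(7)`;
* `Env.L` : the group `2.A₇`; `ρ_mem`, `L_le` (in `Sp₆`), `card_quot` (Carmichael bound for `L` modulo scalars), `Z_mem`.
-/

set_option autoImplicit false
set_option linter.unusedSectionVars false

namespace Cfsg.Agent.H156.SN

open Matrix Cfsg

universe u

theorem fact7 : Fact (Nat.Prime 7) := ⟨by norm_num⟩

attribute [local instance] fact7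

/-- discrete logarithm to the base `3` modulo `7` -/
def dl (a : ZMod 7) : ℕ := [0, 0, 2, 1, 4, 5, 3].getD a.val 0

theorem inv7 (a : ZMod 7) : a⁻¹ = a ^ 5 := by
  by_cases h : a = 0
  · subst h
    rw [_root_.inv_zero]
    decide
  · symm
    apply eq_inv_of_mul_eq_one_left
    have : ∀ a : ZMod 7, a ≠ 0 → a ^ 5 * a = 1 := by decide
    exact this a h

section pw

variable {G : Type*} [Group G]

theorem pow_mod_of {g : G} {n : ℕ} (h : g ^ n = 1) (k : ℕ) : g ^ (k % n) = g ^ k := by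
  conv_rhs => rw [← Nat.mod_add_div k n]
  rw [pow_add, pow_mul, h, one_pow, mul_one]

theorem pow_congr_of {g : G} {n : ℕ} (h : g ^ n = 1) {k l : ℕ} (hkl : k % n = l % n) : g ^ k = g ^ l := by
  rw [← pow_mod_of h k, hkl, pow_mod_of h]

theorem semi_pow {t u : G} (h : t * u = u ^ 2 * t) (m k : ℕ) : t ^ m * u ^ k = u ^ (2 ^ m * k) * t ^ m := by
  have h1 : ∀ m : ℕ, SemiconjBy (t ^ m) u (u ^ 2 ^ m) := by
    intro m
    induction m with
    | zero => rw [pow_zero, pow_zero, pow_one]; exact SemiconjBy.one_left _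
    | succ m ih =>
      have h2 : SemiconjBy t u (u ^ 2) := h
      have h3 := h2.pow_right (2 ^ m)
      rw [pow_succ' t, pow_succ' 2, pow_mul]
      exact h3.mul_left ih
  have h4 := (h1 m).pow_right k
  rw [← pow_mul] at h4
  exact h4

theorem semi_pow' {w t : G} (h : w * t = t ^ 5 * w) (k : ℕ) : w * t ^ k = t ^ (5 * k) * w := by
  have h2 : SemiconjBy w t (t ^ 5) := h
  have h4 := h2.pow_right k
  rw [← pow_mul] at h4
  exact h4

end pw

namespace Env

variable {F : Type u} [Field F] (E : Env F)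

theorem rel : Lib.SL2Hom.Rel (K := ZMod 7) (fun t => E.U ^ t.val) (fun a => E.T ^ dl a) E.W where
  add s t := by
    change E.U ^ (s + t).val = E.U ^ s.val * E.U ^ t.val
    rw [← pow_add, ZMod.val_add]
    exact pow_mod_of E.U7 _
  mul a b ha hb := by
    change E.T ^ dl (a * b) = E.T ^ dl a * E.T ^ dl b
    rw [← pow_add]
    apply pow_congr_of E.T6
    have : ∀ a b : ZMod 7, a ≠ 0 → b ≠ 0 → dl (a * b) % 6 = (dl a + dl b) % 6 := by decide
    exact this a b ha hb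
  hx a t ha := by
    change E.T ^ dl a * E.U ^ t.val = E.U ^ (a ^ 2 * t).val * E.T ^ dl a
    rw [semi_pow E.TU]
    congr 1
    apply pow_congr_of E.U7
    have : ∀ a t : ZMod 7, a ≠ 0 → (2 ^ dl a * t.val) % 7 = (a ^ 2 * t).val % 7 := by decide
    exact this a t ha
  wh a ha := by
    change E.W * E.T ^ dl a = E.T ^ dl a⁻¹ * E.W
    rw [semi_pow' E.WT]
    congr 1
    apply pow_congr_of E.T6
    rw [inv7]
    have : ∀ a : ZMod 7, a ≠ 0 → (5 * dl a) % 6 = dl (a ^ 5) % 6 := by decide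
    exact this a ha
  ww := by
    change E.W * E.W = E.T ^ dl (-1)
    have : dl (-1) = 3 := by decide
    rw [this, E.WW, E.T3]
  rel t ht := by
    change E.W * E.U ^ t.val * E.W = E.U ^ (-t⁻¹).val * E.W * E.T ^ dl (-t) * E.U ^ (-t⁻¹).val
    rw [inv7]
    have : ∀ t : ZMod 7, t ≠ 0 → (t.val, (-t ^ 5).val, dl (-t)) ∈ [(1, 6, 3), (2, 3, 5), (3, 2, 4), (4, 5, 1), (5, 4, 2),
      (6, 1, 0)] := by decide
    have h := this t ht
    simp only [List.mem_cons, List.not_mem_nil, or_false, Prod.mk.injEq] at h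
    rcases h with ⟨h1, h2, h3⟩ | ⟨h1, h2, h3⟩ | ⟨h1, h2, h3⟩ | ⟨h1, h2, h3⟩ | ⟨h1, h2, h3⟩ | ⟨h1, h2, h3⟩ <;>
      rw [h1, h2, h3]
    · exact E.rel1
    · exact E.rel2
    · exact E.rel3
    · exact E.rel4
    · exact E.rel5
    · exact E.rel6

/-- the representation of `SL₂(7)` -/
noncomputable def ρ : _root_.Matrix.SpecialLinearGroup (Fin 2) (ZMod 7) →* GL Ix F := Lib.SL2Hom.hom E.rel

theorem ρ_up (t : ZMod 7) : E.ρ (Lib.SL2Hom.up t) = E.U ^ t.val := Lib.SL2Hom.hom_up E.rel t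

theorem ρ_wl : E.ρ (Lib.SL2Hom.wl (ZMod 7)) = E.W := Lib.SL2Hom.hom_wl E.rel

/-- `2.A₇` -/
def L : Subgroup (GL Ix F) := Subgroup.closure (E.X '' Set.Iio 5)

theorem X_mem {i : ℕ} (hi : i < 5) : E.X i ∈ E.L := Subgroup.subset_closure ⟨i, hi, rfl⟩

theorem U_mem : E.U ∈ E.L := by
  unfold U
  refine mul_mem (mul_mem (mul_mem (mul_mem ?_ (inv_mem ?_)) ?_) ?_) ?_ <;> exact E.X_mem (by norm_num)

theorem T_mem : E.T ∈ E.L := by
  unfold T
  refine mul_mem (mul_mem (mul_mem ?_ ?_) ?_) ?_ <;> exact E.X_mem (by norm_num)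

theorem W_mem : E.W ∈ E.L := by
  unfold W
  refine mul_mem ?_ ?_ <;> exact E.X_mem (by norm_num)

theorem Z_mem : E.Z ∈ E.L := by
  unfold Z
  refine mul_mem (mul_mem (mul_mem ?_ ?_) ?_) (mul_mem (mul_mem ?_ ?_) ?_) <;> exact E.X_mem (by norm_num)

theorem ρ_mem (g : _root_.Matrix.SpecialLinearGroup (Fin 2) (ZMod 7)) : E.ρ g ∈ E.L := by
  rcases Lib.SL2Hom.hom_cases E.rel g with ⟨-, -, h⟩ | ⟨-, h⟩
  · change E.ρ g = E.U ^ _ * E.T ^ _ at h
    rw [h]
    exact mul_mem (pow_mem E.U_mem _) (pow_mem E.T_mem _)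
  · change E.ρ g = E.U ^ _ * E.W * E.T ^ _ * E.U ^ _ at h
    rw [h]
    exact mul_mem (mul_mem (mul_mem (pow_mem E.U_mem _) E.W_mem) (pow_mem E.T_mem _)) (pow_mem E.U_mem _)

theorem L_le : E.L ≤ spGL 3 F := by
  unfold L
  rw [Subgroup.closure_le]
  rintro _ ⟨i, hi, rfl⟩
  have hi' : i < 5 := hi
  interval_cases i
  · exact E.X0_sp
  · exact E.X1_sp
  · exact E.X2_sp
  · exact E.X3_sp
  · exact E.X4_sp

theorem ρ_neg_one : E.ρ (-1) = -1 := by
  have h : (-1 : _root_.Matrix.SpecialLinearGroup (Fin 2) (ZMod 7)) = Lib.SL2Hom.wl (ZMod 7) * Lib.SL2Hom.wl (ZMod 7) := by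
    apply Subtype.ext
    change (-1 : Matrix (Fin 2) (Fin 2) (ZMod 7)) = !![0, 1; -1, 0] * !![0, 1; -1, 0]
    decide
  rw [h, map_mul, ρ_wl, E.WW]

end Env

section card

variable {F : Type u} [Field F]

theorem scalars_normal : (Geo.scalars Ix F).Normal := by
  refine ⟨fun n hn g => ?_⟩
  rw [Geo.mem_scalars_iff] at hn
  obtain ⟨c, hc⟩ := hn
  have h : g * n = n * g := by
    apply Units.ext
    rw [Units.val_mul, Units.val_mul, hc, Matrix.mul_smul, Matrix.smul_mul, Matrix.mul_one, Matrix.one_mul]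
  rw [h, mul_inv_cancel_right, Geo.mem_scalars_iff]
  exact ⟨c, hc⟩

attribute [local instance] scalars_normal

theorem mk_neg_one : (QuotientGroup.mk (-1 : GL Ix F) : GL Ix F ⧸ Geo.scalars Ix F) = 1 := by
  rw [QuotientGroup.eq_one_iff, Geo.mem_scalars_iff]
  exact ⟨-1, by rw [Units.val_neg, Units.val_neg, Units.val_one, Units.val_one, neg_smul, one_smul]⟩

/-- **Carmichael bound**: `2.A₇` modulo scalars. -/
theorem Env.card_quot (E : Env F) : Finite (E.L.map (QuotientGroup.mk' (Geo.scalars Ix F))) ∧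
    Nat.card (E.L.map (QuotientGroup.mk' (Geo.scalars Ix F))) ≤ 2520 := by
  have h := CharactersDeep.Carmichael.card_closure_le 5
    (fun i => (QuotientGroup.mk' (Geo.scalars Ix F)) (E.X i)) (by
      intro i hi
      change (QuotientGroup.mk' (Geo.scalars Ix F)) (E.X i) ^ 3 = 1
      rw [← map_pow]
      interval_cases i
      · rw [E.X0_cube, map_one]
      · rw [E.X1_cube, map_one]
      · rw [E.X2_cube, map_one]
      · rw [E.X3_cube, map_one]
      · rw [E.X4_cube, map_one]) (by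
      intro i hi j hj hij
      change ((QuotientGroup.mk' (Geo.scalars Ix F)) (E.X i) * (QuotientGroup.mk' (Geo.scalars Ix F)) (E.X j)) ^ 2 = 1
      rw [← map_mul, ← map_pow]
      have key : (E.X i * E.X j) ^ 2 = -1 := by
        interval_cases i <;> interval_cases j
        · exact absurd rfl hij
        · exact E.X0_X1
        · exact E.X0_X2
        · exact E.X0_X3
        · exact E.X0_X4
        · exact E.X1_X0
        · exact absurd rfl hij
        · exact E.X1_X2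
        · exact E.X1_X3
        · exact E.X1_X4
        · exact E.X2_X0
        · exact E.X2_X1
        · exact absurd rfl hij
        · exact E.X2_X3
        · exact E.X2_X4
        · exact E.X3_X0
        · exact E.X3_X1
        · exact E.X3_X2
        · exact absurd rfl hij
        · exact E.X3_X4
        · exact E.X4_X0
        · exact E.X4_X1
        · exact E.X4_X2
        · exact E.X4_X3
        · exact absurd rfl hij
      rw [key]
      exact mk_neg_one)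
  have e : Subgroup.closure ((fun i => (QuotientGroup.mk' (Geo.scalars Ix F)) (E.X i)) '' Set.Iio 5) =
      E.L.map (QuotientGroup.mk' (Geo.scalars Ix F)) := by
    unfold Env.L
    rw [MonoidHom.map_closure, Set.image_image]
  rw [e] at h
  refine ⟨h.1, ?_⟩
  have h2 := h.2
  have h3 : (5 + 2).factorial = 5040 := by decide
  omega

/-- symmetric matrices -/
def sy (s : Fin 6 → F) : Matrix (Fin 3) (Fin 3) F := !![s 0, s 1, s 2; s 1, s 3, s 4; s 2, s 4, s 5]

theorem sy_transpose (s : Fin 6 → F) : (sy s)ᵀ = sy s := by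
  ext i j
  fin_cases i <;> fin_cases j <;> rfl

theorem sy_injective : Function.Injective (sy (F := F)) := by
  intro s t h
  funext i
  fin_cases i
  · exact congrFun (congrFun h 0) 0
  · exact congrFun (congrFun h 0) 1
  · exact congrFun (congrFun h 0) 2
  · exact congrFun (congrFun h 1) 1
  · exact congrFun (congrFun h 1) 2
  · exact congrFun (congrFun h 2) 2

/-- unipotent elements of `Sp₆` -/
def un (s : Fin 6 → F) : GL Ix F :=
  ⟨Matrix.fromBlocks 1 (sy s) 0 1, Matrix.fromBlocks 1 (-sy s) 0 1, by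
    rw [Matrix.fromBlocks_multiply]
    simp, by
    rw [Matrix.fromBlocks_multiply]
    simp⟩

theorem un_mem (s : Fin 6 → F) : un s ∈ spGL 3 F := by
  apply mem_spGL_of
  change (Matrix.fromBlocks 1 (sy s) 0 1)ᵀ * Matrix.fromBlocks 0 (-1) 1 0 * Matrix.fromBlocks 1 (sy s) 0 1 =
    Matrix.fromBlocks 0 (-1) 1 0
  rw [Matrix.fromBlocks_transpose, Matrix.fromBlocks_multiply, Matrix.fromBlocks_multiply, sy_transpose]
  simp

theorem un_inj {s t : Fin 6 → F} (h : (un s)⁻¹ * un t ∈ Geo.scalars Ix F) : s = t := by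
  rw [Geo.mem_scalars_iff] at h
  obtain ⟨c, hc⟩ := h
  have h1 : ((un s)⁻¹ * un t : GL Ix F).1 = Matrix.fromBlocks 1 (sy t - sy s) 0 1 := by
    change Matrix.fromBlocks 1 (-sy s) 0 1 * Matrix.fromBlocks 1 (sy t) 0 1 = _
    rw [Matrix.fromBlocks_multiply]
    congr 1
    · simp
    · simp [sub_eq_add_neg]
    · simp
    · simp
  rw [h1] at hc
  apply sy_injective
  have h2 : sy t - sy s = 0 := by
    ext i j
    have h3 := congrFun (congrFun hc (Sum.inl i)) (Sum.inr j)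
    rw [Matrix.fromBlocks_apply₁₂] at h3
    rw [h3]
    simp
  exact (sub_eq_zero.1 h2).symm

/-- a conjugate of `2.A₇` is not all of `Sp₆(9)` -/
theorem Env.ne_spGL [Fintype F] (hF : Fintype.card F = 9) (E : Env F) (B : GL Ix F) :
    E.L.map (MulAut.conj B).toMonoidHom ≠ spGL 3 F := by
  intro h
  obtain ⟨hfin, hcard⟩ := E.card_quot
  have key : ∀ s : Fin 6 → F, B⁻¹ * un s * B ∈ E.L := by
    intro s
    have h1 := un_mem s
    rw [← h] at h1
    obtain ⟨l, hl, hl2⟩ := h1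
    have h2 : B * l * B⁻¹ = un s := hl2
    rw [← h2]
    have h3 : B⁻¹ * (B * l * B⁻¹) * B = l := by group
    rw [h3]
    exact hl
  let f : (Fin 6 → F) → E.L.map (QuotientGroup.mk' (Geo.scalars Ix F)) :=
    fun s => ⟨QuotientGroup.mk' (Geo.scalars Ix F) (B⁻¹ * un s * B), ⟨_, key s, rfl⟩⟩
  have hf : Function.Injective f := by
    intro s t hst
    have h1 : QuotientGroup.mk' (Geo.scalars Ix F) (B⁻¹ * un s * B) = QuotientGroup.mk' (Geo.scalars Ix F) (B⁻¹ * un t * B) :=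
      congrArg Subtype.val hst
    rw [QuotientGroup.mk'_apply, QuotientGroup.mk'_apply, QuotientGroup.eq] at h1
    apply un_inj
    have h2 := scalars_normal.conj_mem _ h1 B
    have h3 : B * ((B⁻¹ * un s * B)⁻¹ * (B⁻¹ * un t * B)) * B⁻¹ = (un s)⁻¹ * un t := by group
    rwa [h3] at h2
  have h4 := Nat.card_le_card_of_injective f hf
  rw [Nat.card_eq_fintype_card (α := Fin 6 → F), Fintype.card_fun, hF, Fintype.card_fin] at h4
  omega

end card

end Cfsg.Agent.H156.SN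
end

-- part: H156/SN/Tr
section
/-!
# Traces of the six-dimensional representation of `SL₂(7)` in characteristic three (helper156)

`Good ρ η` : `ρ(-1) = -1`, real traces, `tr ρ(u) = -1`, `tr ρ(s) = η`, `s` of order eight; then all traces are known
(`Good.val`).
-/

set_option autoImplicit false
set_option linter.unusedSectionVars false

namespace Cfsg.Agent.H156.SNT

open Matrix Cfsg Cfsg.Geo Cfsg.Agent.H464.Sl2 Cfsg.Agent.H915.LD
open Cfsg.Agent.H156.SN (Ix fact7 two_eq Env)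

universe u

attribute [local instance] fact7

section general

variable {K : Type*} [Field K]

theorem big_coe (x y : K) (c : Kˣ) : (u x * w c * u y).1 =
    !![x * c, x * c * y - ((c⁻¹ : Kˣ) : K); (c : K), c * y] := by
  change (!![1, x; 0, 1] * !![0, -((c⁻¹ : Kˣ) : K); (c : K), 0]) * !![1, y; 0, 1] = _
  ext i j
  (revert i j; simp only [Matrix.mul_apply, Fin.sum_univ_two, _root_.Fin.forall_fin_succ, _root_.Units.val_inv_eq_inv_val, _root_.Matrix.cons_mul, _root_.Nat.succ_eq_add_one, Nat.reduceAdd, _root_.Matrix.vecMul_cons, _root_.Matrix.head_cons, _root_.one_smul, _root_.Matrix.tail_cons, _root_.Matrix.smul_cons, _root_.smul_eq_mul, _root_.MulZeroClass.mul_zero, _root_.Matrix.smul_empty, _root_.Matrix.empty_vecMul, _root_.add_zero, _root_.Matrix.add_cons, _root_.zero_add, _root_.Matrix.empty_add_empty, _root_.zero_smul, _root_.Matrix.empty_mul, _root_.Equiv.symm_apply_apply, _root_.Matrix.of_apply, _root_.Matrix.cons_val',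 _root_.Matrix.cons_val_fin_one, Fin.isValue, _root_.Matrix.cons_val_zero, _root_.Matrix.cons_val_one, _root_.mul_one, _root_.Matrix.cons_val_succ, _root_.forall_const, _root_.implies_true, _root_.and_true, _root_.true_and]) <;> (repeat' with_reducible apply And.intro)
  ring

theorem big_tr (x y : K) (c : Kˣ) : (u x * w c * u y).1 0 0 + (u x * w c * u y).1 1 1 = c * (x + y) := by
  rw [big_coe]
  simp only [_root_.Units.val_inv_eq_inv_val, _root_.Fin.isValue, _root_.Matrix.of_apply, _root_.Matrix.cons_val', _root_.Matrix.cons_val_zero, _root_.Matrix.cons_val_fin_one, _root_.Matrix.cons_val_one]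
  ring

theorem small_coe (x : K) (a : Kˣ) : (u x * t a).1 1 0 = 0 := by
  change (!![1, x; 0, 1] * !![(a : K), 0; 0, ((a⁻¹ : Kˣ) : K)]) 1 0 = 0
  simp [Matrix.mul_apply, Fin.sum_univ_two]

theorem tu_coe (y : K) (ε : Kˣ) : (t ε * u y).1 0 0 + (t ε * u y).1 1 1 = ε + ((ε⁻¹ : Kˣ) : K) := by
  change (!![(ε : K), 0; 0, ((ε⁻¹ : Kˣ) : K)] * !![1, y; 0, 1]) 0 0 +
    (!![(ε : K), 0; 0, ((ε⁻¹ : Kˣ) : K)] * !![1, y; 0, 1]) 1 1 = _
  simp [Matrix.mul_apply, Fin.sum_univ_two]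

end general

/-- `SL₂(7)` -/
abbrev SL7 : Type := _root_.Matrix.SpecialLinearGroup (Fin 2) (ZMod 7)

/-- the trace of an element of `SL₂(7)` -/
def t7 (g : SL7) : ZMod 7 := g.1 0 0 + g.1 1 1

theorem det7 (g : SL7) : g.1 0 0 * g.1 1 1 - g.1 0 1 * g.1 1 0 = 1 := by
  have := g.2
  rwa [Matrix.det_fin_two] at this

theorem t7_cases : ∀ t : ZMod 7, t = 2 ∨ t = -2 ∨ t = 3 ∨ t = -3 ∨ t = 0 ∨ t = 1 ∨ t = -1 := by decide

/-- Cayley–Hamilton -/
theorem ch (g : SL7) : g.1 * g.1 = t7 g • g.1 - 1 := by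
  have h := det7 g
  ext i j
  (revert i j; simp only [Matrix.mul_apply, Fin.sum_univ_two, t7, _root_.Fin.forall_fin_succ, Fin.isValue, _root_.Matrix.sub_apply, _root_.Matrix.smul_apply, _root_.smul_eq_mul, _root_.Fin.succ_zero_eq_one, _root_.IsEmpty.forall_iff, _root_.and_true, _root_.Matrix.one_apply_eq, Nat.reduceAdd, _root_.ne_eq, _root_.zero_ne_one, _root_.not_false_eq_true, _root_.Matrix.one_apply_ne, _root_.sub_zero, _root_.Fin.succ_ne_zero]) <;> (repeat' with_reducible apply And.intro) <;>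
    first | ring1 | linear_combination -h

theorem sq_of_zero {g : SL7} (h : t7 g = 0) : g * g = -1 := by
  apply Subtype.ext
  change g.1 * g.1 = -1
  rw [ch, h, zero_smul, zero_sub]

theorem cube_val (g : SL7) : g.1 * g.1 * g.1 = (t7 g ^ 2 - 1) • g.1 - t7 g • 1 := by
  rw [ch, Matrix.sub_mul, Matrix.smul_mul, ch, Matrix.one_mul, smul_sub, smul_smul, sub_smul, one_smul, sq]
  abel

theorem cube_of_one {g : SL7} (h : t7 g = 1) : g ^ 3 = -1 := by
  apply Subtype.ext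
  rw [pow_succ, pow_two]
  change g.1 * g.1 * g.1 = -1
  rw [cube_val, h]
  simp

theorem cube_of_neg_one {g : SL7} (h : t7 g = -1) : g ^ 3 = 1 := by
  apply Subtype.ext
  rw [pow_succ, pow_two]
  change g.1 * g.1 * g.1 = 1
  rw [cube_val, h]
  simp only [_root_.even_two, _root_.Even.neg_pow, _root_.one_pow, _root_.sub_self, _root_.zero_smul, _root_.neg_smul, _root_.one_smul, _root_.sub_neg_eq_add, _root_.zero_add]

/-- elements of trace `±3`: `g³ = -g⁻¹` -/
theorem cube_of_three {g : SL7} (h : t7 g = 3 ∨ t7 g = -3) : g ^ 3 = -g⁻¹ := by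
  have h2 : t7 g ^ 2 = 2 := by
    rcases h with h | h <;> rw [h] <;> decide
  have h4 : g ^ 3 * g = -1 := by
    apply Subtype.ext
    rw [pow_succ, pow_two]
    change g.1 * g.1 * g.1 * g.1 = -1
    rw [cube_val, Matrix.sub_mul, Matrix.smul_mul, ch, Matrix.smul_mul, Matrix.one_mul, h2]
    have : (2 : ZMod 7) - 1 = 1 := by decide
    rw [this, one_smul]
    abel
  rw [← mul_left_inj g, h4, neg_mul, inv_mul_cancel]

theorem t7_neg (g : SL7) : t7 (-g) = -t7 g := by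
  unfold t7
  change -g.1 0 0 + -g.1 1 1 = _
  ring

theorem t7_conj (h g : SL7) : t7 (h * g * h⁻¹) = t7 g := by
  have h1 : ∀ g : SL7, t7 g = g.1.trace := fun g => (Matrix.trace_fin_two g.1).symm
  rw [h1, h1]
  change (h.1 * g.1 * (h⁻¹).1).trace = _
  rw [Matrix.trace_mul_comm, ← Matrix.mul_assoc]
  have h2 : (h⁻¹).1 * h.1 = 1 := congrArg Subtype.val (inv_mul_cancel h)
  rw [h2, Matrix.one_mul]

/-- all elements of trace `3` are conjugate -/
theorem exists_conj_three {g : SL7} (h : t7 g = 3) : ∃ y : SL7, y * (u 3 * w 1) * y⁻¹ = g := by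
  have hc : g.1 1 0 ≠ 0 := by
    intro hc
    have h1 := det7 g
    rw [hc, mul_zero, sub_zero] at h1
    have : ∀ a d : ZMod 7, a * d = 1 → a + d ≠ 3 := by decide
    exact this _ _ h1 h
  rcases bruhat g with ⟨x, a, rfl⟩ | ⟨x, c, y, rfl⟩
  · exact absurd (small_coe x a) hc
  · obtain ⟨k, x', y', e1, e2⟩ := exists_lower (by decide : (2 : ZMod 7) ≠ 0) 3 (by decide) c
    have e4 : (c : ZMod 7) * (x + y) = 3 := by
      rw [← h]
      exact (big_tr x y c).symm
    have e5 : x' + y' = x + y := mul_left_cancel₀ c.ne_zero (e2.trans e4.symm)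
    refine ⟨u (x - x') * k, ?_⟩
    have e6 : u (x - x') * k * (u 3 * w 1) * (u (x - x') * k)⁻¹ = u (x - x') * (k * (u 3 * w 1) * k⁻¹) * (u (x - x'))⁻¹ := by
      group
    have e7 : (u (x - x'))⁻¹ = u (x' - x) := by
      rw [inv_eq_iff_mul_eq_one, ← u_add]
      rw [show x - x' + (x' - x) = 0 by ring, u_zero]
    rw [e6, e1, e7]
    have e8 : u (x - x') * (u x' * w c * u y') * u (x' - x) = (u (x - x') * u x') * w c * (u y' * u (x' - x)) := by
      simp only [mul_assoc]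
    rw [e8, ← u_add, ← u_add]
    congr 2
    · congr 1
      ring
    · linear_combination e5

variable {F : Type u} [Field F] {ρ : SL7 →* GL Ix F} {η : F}

/-- the known data of the representation -/
structure Good (ρ : SL7 →* GL Ix F) (η : F) : Prop where
  neg : ρ (-1) = -1
  inv : ∀ g, tr (ρ g⁻¹) = tr (ρ g)
  uni : tr (ρ (u 1)) = -1
  s : tr (ρ (u 3 * w 1)) = η

theorem tr_neg (g : GL Ix F) : tr (-g) = -tr g := by
  unfold tr
  rw [Units.val_neg, Matrix.trace_neg]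

theorem tr_one (h3 : (3 : F) = 0) : tr (1 : GL Ix F) = 0 := by
  unfold tr
  rw [Units.val_one, Matrix.trace_one]
  have h : Fintype.card Ix = 6 := by simp [Ix]
  rw [h]
  push_cast
  linear_combination 2 * h3

theorem tr_cj (y g : SL7) : tr (ρ (y * g * y⁻¹)) = tr (ρ g) := by
  rw [map_mul, map_mul, map_inv, H915.LD.tr_conj]

/-- squares and their negatives -/
theorem sq_cases7 : ∀ y : ZMod 7, y ≠ 0 → ∃ a : ZMod 7, a ≠ 0 ∧ (y = a ^ 2 ∨ y = -a ^ 2) := by decide

theorem tr_u (hinv : ∀ g, tr (ρ g⁻¹) = tr (ρ g)) {y : ZMod 7} (hy : y ≠ 0) : tr (ρ (u y)) = tr (ρ (u 1)) := by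
  obtain ⟨a, ha, h⟩ := sq_cases7 y hy
  have h1 : ∀ z : ZMod 7, tr (ρ (u (a ^ 2 * z))) = tr (ρ (u z)) := by
    intro z
    have h2 := t_mul_u (Units.mk0 a ha) z
    rw [Units.val_mk0] at h2
    have h3 : u (a ^ 2 * z) = t (Units.mk0 a ha) * u z * (t (Units.mk0 a ha))⁻¹ := by
      rw [h2, mul_inv_cancel_right]
    rw [h3, tr_cj]
  rcases h with h | h
  · rw [h, ← h1 1, mul_one]
  · have h2 : (u (1 : ZMod 7))⁻¹ = u (-1) := by
      rw [inv_eq_iff_mul_eq_one, ← u_add, add_neg_cancel, u_zero]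
    have h3 : y = a ^ 2 * (-1) := by rw [h]; ring
    rw [h3, h1, ← h2, hinv]

theorem exists_u {g : SL7} (h : t7 g = 2) : ∃ (k : SL7) (y : ZMod 7), g = k * u y * k⁻¹ := by
  obtain ⟨k, ε, y, hε, rfl⟩ := exists_conj_unip g (by
    have : g.1 0 0 + g.1 1 1 = 2 := h
    rw [this]
    decide)
  rw [t7_conj] at h
  have h3 : ε⁻¹ = ε := by
    rw [inv_eq_iff_mul_eq_one, ← sq, hε]
  have h4 : (ε : ZMod 7) = 1 := by
    have h5 : (ε : ZMod 7) + ε = 2 := by
      rw [← h]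
      have h6 := tu_coe y ε
      rw [h3] at h6
      exact h6.symm
    have : ∀ e : ZMod 7, e + e = 2 → e = 1 := by decide
    exact this _ h5
  have h5 : ε = 1 := Units.ext h4
  subst h5
  exact ⟨k, y, by rw [t_one, one_mul]⟩

theorem u_pow (y : ZMod 7) (n : ℕ) : u y ^ n = u (n * y) := by
  induction n with
  | zero => rw [pow_zero, Nat.cast_zero, zero_mul, u_zero]
  | succ n ih =>
    rw [pow_succ, ih, ← u_add]
    congr 1
    push_cast
    ring

theorem pow_seven {g : SL7} (h : t7 g = 2) : g ^ 7 = 1 := by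
  obtain ⟨k, y, rfl⟩ := exists_u h
  rw [conj_pow, u_pow]
  have h7 : ((7 : ℕ) : ZMod 7) = 0 := by decide
  rw [h7, zero_mul, u_zero, mul_one, mul_inv_cancel]

/-- exponent of `SL₂(7)` -/
theorem pow_168 (g : SL7) : g ^ 168 = 1 := by
  rcases t7_cases (t7 g) with h | h | h | h | h | h | h
  · rw [show 168 = 7 * 24 by norm_num, pow_mul, pow_seven h, one_pow]
  · have h1 : (-g) ^ 7 = 1 := pow_seven (by rw [t7_neg, h]; decide)
    have h2 : g ^ 14 = 1 := by
      rw [show 14 = 2 * 7 by norm_num, pow_mul, ← neg_sq, ← pow_mul, mul_comm, pow_mul, h1, one_pow]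
    rw [show 168 = 14 * 12 by norm_num, pow_mul, h2, one_pow]
  · have h1 := cube_of_three (Or.inl h)
    have h4 : g ^ 4 = -1 := by rw [pow_succ, h1, neg_mul, inv_mul_cancel]
    rw [show 168 = 4 * 42 by norm_num, pow_mul, h4, Even.neg_one_pow (by decide)]
  · have h1 := cube_of_three (Or.inr h)
    have h4 : g ^ 4 = -1 := by rw [pow_succ, h1, neg_mul, inv_mul_cancel]
    rw [show 168 = 4 * 42 by norm_num, pow_mul, h4, Even.neg_one_pow (by decide)]
  · have h1 := sq_of_zero h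
    rw [show 168 = 2 * 84 by norm_num, pow_mul, pow_two, h1, Even.neg_one_pow (by decide)]
  · have h1 := cube_of_one h
    rw [show 168 = 3 * 56 by norm_num, pow_mul, h1, Even.neg_one_pow (by decide)]
  · have h1 := cube_of_neg_one h
    rw [show 168 = 3 * 56 by norm_num, pow_mul, h1, one_pow]

theorem tr_unip (hinv : ∀ g, tr (ρ g⁻¹) = tr (ρ g)) {g : SL7} (h : t7 g = 2) (h1 : g ≠ 1) :
    tr (ρ g) = tr (ρ (u 1)) := by
  obtain ⟨k, y, rfl⟩ := exists_u h
  rw [tr_cj]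
  apply tr_u hinv
  rintro rfl
  apply h1
  rw [u_zero, mul_one, mul_inv_cancel]

theorem Good.val [Finite F] (h3 : (3 : F) = 0) (G : Good ρ η) (g : SL7) : tr (ρ g) =
    if t7 g = 2 then (if g = 1 then 0 else -1) else if t7 g = -2 then (if -g = 1 then 0 else 1) else
      if t7 g = 3 then η else if t7 g = -3 then -η else 0 := by
  have : Fact (Nat.Prime 3) := ⟨by norm_num⟩
  have hch : CharP F 3 := by
    apply CharP.congr (ringChar F)
    have h : ringChar F ∣ 3 := (ringChar.spec F 3).1 (by exact_mod_cast h3)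
    rcases (Nat.dvd_prime (by norm_num)).1 h with h | h
    · exact absurd h (CharP.ringChar_ne_one)
    · exact h
  have hneg : ∀ g, tr (ρ (-g)) = -tr (ρ g) := by
    intro g
    rw [← neg_one_mul, map_mul, G.neg, neg_one_mul, tr_neg]
  have hcube : ∀ g, tr (ρ g) ^ 3 = tr (ρ (g ^ 3)) := by
    intro g
    rw [map_pow]
    have := tr_pow_char 3 (ρ g) 1
    rw [pow_one] at this
    exact this.symm
  have h2 : ∀ g : SL7, t7 g = 2 → tr (ρ g) = if g = 1 then 0 else -1 := by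
    intro g hg
    split_ifs with h
    · rw [h, map_one, tr_one h3]
    · rw [tr_unip G.inv hg h, G.uni]
  have hs : ∀ g : SL7, t7 g = 3 → tr (ρ g) = η := by
    intro g hg
    obtain ⟨y, rfl⟩ := exists_conj_three hg
    rw [tr_cj, G.s]
  have d1 : (-2 : ZMod 7) ≠ 2 := by decide
  have d2 : (3 : ZMod 7) ≠ 2 := by decide
  have d3 : (3 : ZMod 7) ≠ -2 := by decide
  have d4 : (-3 : ZMod 7) ≠ 2 := by decide
  have d5 : (-3 : ZMod 7) ≠ -2 := by decide
  have d6 : (-3 : ZMod 7) ≠ 3 := by decide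
  rcases t7_cases (t7 g) with h | h | h | h | h | h | h
  · rw [if_pos h, h2 g h]
  · rw [if_neg (by rw [h]; exact d1), if_pos h]
    have h4 : t7 (-g) = 2 := by rw [t7_neg, h]; decide
    have h5 := h2 (-g) h4
    rw [hneg] at h5
    rw [← neg_neg (tr (ρ g)), h5]
    split_ifs <;> ring
  · rw [if_neg (by rw [h]; exact d2), if_neg (by rw [h]; exact d3), if_pos h, hs g h]
  · rw [if_neg (by rw [h]; exact d4), if_neg (by rw [h]; exact d5), if_neg (by rw [h]; exact d6), if_pos h]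
    have h4 : t7 (-g) = 3 := by rw [t7_neg, h]; decide
    have h5 := hs (-g) h4
    rw [hneg] at h5
    rw [← h5, neg_neg]
  · rw [h, if_neg (by decide), if_neg (by decide), if_neg (by decide), if_neg (by decide)]
    have h4 : g⁻¹ = -g := by
      rw [inv_eq_iff_mul_eq_one, mul_neg, sq_of_zero h, neg_neg]
    have h5 := G.inv g
    rw [h4, hneg] at h5
    have h6 : (2 : F) * tr (ρ g) = 0 := by linear_combination -h5
    rw [two_eq h3] at h6
    linear_combination -h6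
  · rw [h, if_neg (by decide), if_neg (by decide), if_neg (by decide), if_neg (by decide)]
    have h4 := hcube g
    rw [cube_of_one h, hneg 1, map_one, tr_one h3, neg_zero] at h4
    exact pow_eq_zero_iff three_ne_zero |>.1 h4
  · rw [h, if_neg (by decide), if_neg (by decide), if_neg (by decide), if_neg (by decide)]
    have h4 := hcube g
    rw [cube_of_neg_one h, map_one, tr_one h3] at h4
    exact pow_eq_zero_iff three_ne_zero |>.1 h4

end Cfsg.Agent.H156.SNT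
end

-- part: H156/SN/Rep
section
/-!
# The representation of the core `P ≅ SL₂(7)` in `Sp₆(9)` (helper156)
-/

set_option autoImplicit false
set_option linter.unusedSectionVars false

namespace Cfsg.Agent.H156.SNT

open Matrix Cfsg Cfsg.Geo Cfsg.Agent.H464.Sl2 Cfsg.Agent.H915.LD Cfsg.Agent.H914.S6
open Cfsg.Agent.H156.SN (Ix fact7 two_eq Env)

universe u

attribute [local instance] fact7

/-- the trace of a non-trivial unipotent element in degree six is `-1` -/
theorem tr_unip_six {F : Type u} [Field F] (h3 : (3 : F) = 0) (ρ : SL7 →* GL (Fin 6) F) (hρ : ρ ≠ 1)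
    (habs : ActsAbsolutelyIrreducibly (matrixSet ρ.range)) :
    (ρ (u 1) : Matrix (Fin 6) (Fin 6) F).trace = -1 := by
  classical
  have h7 : ((7 : ℕ) : F) ≠ 0 := by
    push_cast
    intro h
    apply one_ne_zero (α := F)
    linear_combination h - 2 * h3
  have hK := card_ne_zero (K := ZMod 7) h7 (AlgebraicClosure F)
  obtain ⟨ψ, hψ⟩ := exists_prim (K := ZMod 7) hK
  have hsp := span_ext ρ (AlgebraicClosure F) (span_eq_top ρ habs)
  have hne := ext_ne_one ρ (AlgebraicClosure F) hρ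
  have hc : Fintype.card (ZMod 7) = 7 := ZMod.card 7
  have h := dim_cases (_root_.Cfsg.Agent.H464.Sl2.ext ρ (AlgebraicClosure F)) hψ hK hsp hne
  rw [Module.finrank_fin_fun, hc] at h
  have h1 : ∀ b : ZMod 7, b ≠ 0 →
      Module.finrank (AlgebraicClosure F) (LinearMap.range (E (_root_.Cfsg.Agent.H464.Sl2.ext ρ (AlgebraicClosure F)) ψ b)) = 1 := by
    rcases h with ⟨h, -⟩ | ⟨-, h⟩
    · exact h
    · omega
  have h2 := finrank_eq (_root_.Cfsg.Agent.H464.Sl2.ext ρ (AlgebraicClosure F)) hψ hK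
  rw [Module.finrank_fin_fun, Finset.sum_congr rfl fun b hb => h1 b (Finset.ne_of_mem_erase hb), Finset.sum_const,
    Finset.card_erase_of_mem (Finset.mem_univ _), Finset.card_univ, smul_eq_mul, mul_one, hc] at h2
  have h0 : Module.finrank (AlgebraicClosure F) (LinearMap.range (E (_root_.Cfsg.Agent.H464.Sl2.ext ρ (AlgebraicClosure F)) ψ 0)) = 0 := by omega
  have h4 := Cfsg.Agent.H464.Sl2.trace_u (_root_.Cfsg.Agent.H464.Sl2.ext ρ (AlgebraicClosure F)) hψ hK 1
  have h5 : ∑ b : ZMod 7, ψ (b * 1) *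
      (Module.finrank (AlgebraicClosure F) (LinearMap.range (E (_root_.Cfsg.Agent.H464.Sl2.ext ρ (AlgebraicClosure F)) ψ b)) :
        AlgebraicClosure F) = -1 := by
    have h6 : ∑ b : ZMod 7, ψ (b * 1) = 0 := by
      have h7 := AddChar.sum_mulShift (1 : ZMod 7) hψ
      rw [if_neg one_ne_zero, Nat.cast_zero] at h7
      exact h7
    rw [← Finset.add_sum_erase _ _ (Finset.mem_univ (0 : ZMod 7))] at h6 ⊢
    rw [h0, Nat.cast_zero, mul_zero, zero_add]
    rw [Finset.sum_congr rfl fun b hb => by rw [h1 b (Finset.ne_of_mem_erase hb), Nat.cast_one, mul_one]]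
    rw [zero_mul, AddChar.map_zero_eq_one] at h6
    linear_combination h6
  rw [h5, trace_ext] at h4
  apply (algebraMap F (AlgebraicClosure F)).injective
  rw [h4, map_neg, map_one]

variable {F : Type u} [Field F] [Fintype F] {H P : Subgroup (GL (Fin 3 ⊕ Fin 3) F)}

theorem char_three (hF : Fintype.card F = 9) : (3 : F) = 0 := by
  have h : ((Fintype.card F : ℕ) : F) = 0 := Nat.cast_card_eq_zero F
  rw [hF] at h
  have h2 : (3 : F) * 3 = 0 := by
    rw [← h]
    norm_num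
  exact mul_self_eq_zero.1 h2

theorem charP_three (h3 : (3 : F) = 0) : CharP F 3 := by
  apply CharP.congr (ringChar F)
  have h : ringChar F ∣ 3 := (ringChar.spec F 3).1 (by exact_mod_cast h3)
  rcases (Nat.dvd_prime (by norm_num)).1 h with h | h
  · exact absurd h (CharP.ringChar_ne_one)
  · exact h

/-- the representation on `Fin n` -/
theorem rep_fin {ι : Type} [Fintype ι] [DecidableEq ι] {P : Subgroup (GL ι F)} (hC : Core P) (ρ : SL7 →* GL ι F)
    (hρ : ρ.range = P) :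
    ∃ ρ' : SL7 →* GL (Fin (Fintype.card ι)) F,
      (∀ g, (ρ' g : Matrix (Fin (Fintype.card ι)) (Fin (Fintype.card ι)) F).trace = tr (ρ g)) ∧ ρ' ≠ 1 ∧
      ActsAbsolutelyIrreducibly (matrixSet ρ'.range) := by
  let re := reGL (F := F) (Fintype.equivFin ι)
  refine ⟨re.toMonoidHom.comp ρ, fun g => trace_reGL (Fintype.equivFin ι) (ρ g), ?_, ?_⟩
  · intro h
    have h1 : ρ = 1 := by
      ext1 g
      apply re.injective
      have h2 := DFunLike.congr_fun h g
      rw [MonoidHom.one_apply, map_one]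
      exact h2
    rw [h1] at hρ
    apply hC.nonabelian
    have h3 : Subsingleton P := by
      constructor
      rintro ⟨a, ha⟩ ⟨b, hb⟩
      rw [← hρ] at ha hb
      obtain ⟨x, rfl⟩ := ha
      obtain ⟨y, rfl⟩ := hb
      rfl
    have h2 : Subsingleton (P ⧸ (scalars ι F).subgroupOf P) := by
      constructor
      intro a b
      induction a using QuotientGroup.induction_on with
      | H a =>
        induction b using QuotientGroup.induction_on with
        | H b => rw [Subsingleton.elim a b]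
    exact ⟨⟨fun a b => Subsingleton.elim _ _⟩⟩
  · have h1 : (re.toMonoidHom.comp ρ).range = P.map re.toMonoidHom := by
      rw [MonoidHom.range_comp, hρ]
    rw [h1]
    exact absIrr_reGL _ hC.absIrred

theorem exists_good (S : Hyp 3 H P) (e : Nonempty (Soc P ≃* Matrix.ProjectiveSpecialLinearGroup (Fin 2) (ZMod 7)))
    (hF : Fintype.card F = 9) : ∃ (ρ : SL7 →* GL Ix F) (E : Env F), ρ.range = P ∧ ρ.ker ≤ Subgroup.center SL7 ∧
      Good ρ E.η := by
  obtain ⟨e⟩ := e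
  have h3 := char_three hF
  have hch := charP_three h3
  have : Fact (Nat.Prime 3) := ⟨by norm_num⟩
  have hC := S.toCore
  obtain ⟨ρ, hρ, hek⟩ := l2_rep hC (K := ZMod 7) (by rw [ZMod.card]; norm_num) (by rw [ZMod.card]; norm_num) e
  obtain ⟨ρ', htr, hne, habs⟩ := rep_fin hC ρ hρ
  have hker : ρ.ker ≤ Subgroup.center SL7 := by
    intro g hg
    rw [MonoidHom.mem_ker] at hg
    have h1 : ρ g ∈ P := by rw [hg]; exact one_mem _
    have h2 := hek g h1
    have h4 : (⟨ρ g, h1⟩ : P) = 1 := Subtype.ext hg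
    rw [h4, map_one, map_one] at h2
    exact (QuotientGroup.eq_one_iff g).1 h2.symm
  have hmem : ∀ g, ρ g ∈ P := fun g => by rw [← hρ]; exact ⟨g, rfl⟩
  have huni : tr (ρ (u 1)) = -1 := by
    rw [← htr]
    have h6 : Fintype.card Ix = 6 := by simp [Ix]
    clear htr
    revert ρ' hne habs
    rw [h6]
    intro ρ' hne habs
    exact tr_unip_six h3 ρ' hne habs
  have hinv : ∀ g, tr (ρ g⁻¹) = tr (ρ g) := by
    intro g
    rw [map_inv]
    exact S.sd _ (hmem g)
  have hcube : ∀ g, tr (ρ g) ^ 3 = tr (ρ (g ^ 3)) := by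
    intro g
    rw [map_pow]
    have := tr_pow_char 3 (ρ g) 1
    rw [pow_one] at this
    exact this.symm
  have hnotfr : ¬ Fr P 3 := by
    intro h
    have := hC.card_eq 3 h
    omega
  -- the central involution
  have hz : ρ (-1) = 1 ∨ ρ (-1) = -1 := by
    obtain ⟨c, hc⟩ := hC.absIrred.2 (ρ (-1) : Matrix Ix Ix F) (by
      rintro _ ⟨x, hx, rfl⟩
      rw [← hρ] at hx
      obtain ⟨g, rfl⟩ := hx
      rw [← Units.val_mul, ← Units.val_mul, ← map_mul, ← map_mul, neg_one_mul, mul_neg_one])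
    have h1 : ρ (-1) * ρ (-1) = 1 := by
      rw [← map_mul]
      simp
    have h2 : c * c = 1 := by
      have h4 := congrArg Units.val h1
      rw [Units.val_mul, hc, Units.val_one, Matrix.smul_mul, Matrix.one_mul, smul_smul] at h4
      have h5 := congrFun (congrFun h4 (Sum.inl 0)) (Sum.inl 0)
      simpa only [_root_.Fin.isValue, _root_.Matrix.smul_apply, _root_.Matrix.one_apply_eq, _root_.smul_eq_mul, _root_.mul_one] using h5
    rcases mul_self_eq_one_iff.1 h2 with h | h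
    · left
      apply Units.ext
      rw [hc, h, one_smul, Units.val_one]
    · right
      apply Units.ext
      rw [hc, h, Units.val_neg, Units.val_one, neg_smul, one_smul]
  rcases hz with hz | hz
  · exfalso
    apply hnotfr
    intro x hx
    rw [← hρ] at hx
    obtain ⟨g, rfl⟩ := hx
    have hneg : ∀ g, tr (ρ (-g)) = tr (ρ g) := by
      intro g
      rw [← neg_one_mul, map_mul, hz, one_mul]
    have h2 : ∀ g : SL7, t7 g = 2 → tr (ρ g) ^ 3 = tr (ρ g) := by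
      intro g hg
      by_cases h : g = 1
      · rw [h, map_one, tr_one h3]
        ring
      · rw [tr_unip hinv hg h, huni]
        ring
    rcases t7_cases (t7 g) with h | h | h | h | h | h | h
    · exact h2 g h
    · rw [← hneg]
      exact h2 (-g) (by rw [t7_neg, h]; decide)
    · rw [hcube, cube_of_three (Or.inl h), hneg, hinv]
    · rw [hcube, cube_of_three (Or.inr h), hneg, hinv]
    · have h5 : g ^ 3 = -g := by
        rw [pow_succ, pow_two, sq_of_zero h, neg_one_mul]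
      rw [hcube, h5, hneg]
    · have h4 := hcube g
      rw [cube_of_one h, hneg, map_one, tr_one h3] at h4
      rw [h4, pow_eq_zero_iff three_ne_zero |>.1 h4]
    · have h4 := hcube g
      rw [cube_of_neg_one h, map_one, tr_one h3] at h4
      rw [h4, pow_eq_zero_iff three_ne_zero |>.1 h4]
  · -- the trace of an element of order eight
    have hneg : ∀ g, tr (ρ (-g)) = -tr (ρ g) := by
      intro g
      rw [← neg_one_mul, map_mul, hz, neg_one_mul, tr_neg]
    set η := tr (ρ (u 3 * w 1)) with hη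
    have hG : Good ρ η := ⟨hz, hinv, huni, rfl⟩
    have ht : t7 (u 3 * w 1) = 3 := by decide
    have h5 : η ^ 3 = -η := by
      rw [hη, hcube, cube_of_three (Or.inl ht), hneg, hinv]
    have h6 : η ≠ 0 := by
      intro h0
      apply hnotfr
      intro x hx
      rw [← hρ] at hx
      obtain ⟨g, rfl⟩ := hx
      rw [hG.val h3 g, h0]
      split_ifs <;> ring
    have h7 : η * η = -1 := by
      apply mul_left_cancel₀ h6
      linear_combination h5
    exact ⟨ρ, ⟨η, h7, h3⟩, hρ, hker, hG⟩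

end Cfsg.Agent.H156.SNT
end

-- part: H156/SN/Outer
section
/-!
# No outer automorphism of `SL₂(7)` is induced in `Sp₆(9)` (helper156)
-/

set_option autoImplicit false
set_option linter.unusedSectionVars false

namespace Cfsg.Agent.H156.SNT

open Matrix Cfsg Cfsg.Geo Cfsg.Agent.H915.LD Cfsg.Agent.Lib.SL2Mat
open Cfsg.Agent.H156.SN (Ix fact7 two_eq Env)

universe u

attribute [local instance] fact7

/-- `2 × 2` matrices modulo `7` -/
abbrev M7 : Type := Matrix (Fin 2) (Fin 2) (ZMod 7)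

theorem anti : ∀ a b c : ZMod 7, a * a + b * c = 1 → ∃ p q r : ZMod 7, p * p + q * r = -1 ∧ 2 * a * p + b * r + c * q = 0 := by
  decide +kernel

theorem sqf (A B t : ZMod 7) (m : M7) (h : m * m = t • m + 1) :
    (A • m + B • (1 : M7)) * (A • m + B • 1) = (A ^ 2 * t + 2 * A * B) • m + (A ^ 2 + B ^ 2) • (1 : M7) := by
  simp only [Matrix.mul_add, Matrix.add_mul, Matrix.smul_mul, Matrix.mul_smul, h, Matrix.one_mul, Matrix.mul_one]
  module

/-- Cayley–Hamilton in determinant `-1` -/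
theorem ch_neg {m : M7} (h : m.det = -1) : m * m = m.trace • m + 1 := by
  rw [Matrix.det_fin_two] at h
  ext i j
  rw [Matrix.trace_fin_two]
  fin_cases i <;> fin_cases j <;> simp only [Matrix.mul_apply, Fin.sum_univ_two, _root_.Fin.zero_eta, _root_.Fin.isValue, _root_.Matrix.add_apply, _root_.Matrix.smul_apply, _root_.smul_eq_mul, _root_.Matrix.one_apply_eq, _root_.Fin.mk_one, _root_.Nat.reduceAdd, _root_.ne_eq, _root_.zero_ne_one, _root_.not_false_eq_true, _root_.Matrix.one_apply_ne, _root_.add_zero, _root_.one_ne_zero] <;>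
    first | ring1 | linear_combination -h | linear_combination h

theorem pow_eight {m : M7} (h : m.det = -1) (ht : m.trace = 1 ∨ m.trace = -1 ∨ m.trace = 3 ∨ m.trace = -3) :
    m ^ 8 = -1 := by
  have h1 := ch_neg h
  set t := m.trace with htd
  have h2 : m ^ 2 = t • m + (1 : ZMod 7) • (1 : M7) := by rw [pow_two, h1, one_smul]
  have h4 : m ^ 4 = (t ^ 2 * t + 2 * t * 1) • m + (t ^ 2 + 1 ^ 2) • (1 : M7) := by
    rw [show m ^ 4 = m ^ 2 * m ^ 2 by rw [← pow_add], h2]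
    exact sqf t 1 t m h1
  have h8 : m ^ 8 = ((t ^ 2 * t + 2 * t * 1) ^ 2 * t + 2 * (t ^ 2 * t + 2 * t * 1) * (t ^ 2 + 1 ^ 2)) • m +
      ((t ^ 2 * t + 2 * t * 1) ^ 2 + (t ^ 2 + 1 ^ 2) ^ 2) • (1 : M7) := by
    rw [show m ^ 8 = m ^ 4 * m ^ 4 by rw [← pow_add], h4]
    exact sqf _ _ t m h1
  have key : ∀ t : ZMod 7, (t = 1 ∨ t = -1 ∨ t = 3 ∨ t = -3) →
      (t ^ 2 * t + 2 * t * 1) ^ 2 * t + 2 * (t ^ 2 * t + 2 * t * 1) * (t ^ 2 + 1 ^ 2) = 0 ∧
      (t ^ 2 * t + 2 * t * 1) ^ 2 + (t ^ 2 + 1 ^ 2) ^ 2 = -1 := by decide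
  obtain ⟨k1, k2⟩ := key t ht
  rw [h8, k1, k2, zero_smul, zero_add, neg_smul, one_smul]

theorem trace_cube {m : M7} (h : m.det = -1) (ht : m.trace = 2 ∨ m.trace = -2) : (m ^ 3).trace = 0 := by
  have h1 := ch_neg h
  have h2 : m ^ 3 = (m.trace ^ 2 + 1) • m + m.trace • 1 := by
    rw [pow_succ, pow_two, h1, Matrix.add_mul, Matrix.smul_mul, h1, Matrix.one_mul]
    module
  rw [h2, Matrix.trace_add, Matrix.trace_smul, Matrix.trace_smul, Matrix.trace_one, Fintype.card_fin, smul_eq_mul,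
    smul_eq_mul]
  rcases ht with ht | ht <;> rw [ht] <;> decide

/-- an element of determinant `1` inverting the sign of an element of trace zero -/
theorem exists_anti {m : M7} (h : m.det = -1) (ht : m.trace = 0) : ∃ z : SL7, z.1 * m = -(m * z.1) := by
  rw [Matrix.det_fin_two] at h
  rw [Matrix.trace_fin_two] at ht
  obtain ⟨p, q, r, h1, h2⟩ := anti (m 0 0) (m 0 1) (m 1 0) (by linear_combination m 0 0 * ht - h)
  refine ⟨⟨!![p, q; r, -p], by rw [Matrix.det_fin_two]; simp; linear_combination -h1⟩, ?_⟩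
  change !![p, q; r, -p] * m = -(m * !![p, q; r, -p])
  ext i j
  (revert i j; simp only [Matrix.mul_apply, Fin.sum_univ_two, _root_.Fin.forall_fin_succ, _root_.Matrix.of_apply, _root_.Matrix.cons_val', _root_.Matrix.cons_val_fin_one, Fin.isValue, _root_.Matrix.cons_val_zero, _root_.Matrix.cons_val_one, _root_.Matrix.neg_apply, _root_.neg_add_rev, _root_.Matrix.cons_val_succ, _root_.mul_neg, _root_.neg_neg, _root_.Fin.succ_zero_eq_one, _root_.IsEmpty.forall_iff, _root_.neg_mul, _root_.and_true, _root_.true_and]) <;> (repeat' with_reducible apply And.intro)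
  · linear_combination h2
  · linear_combination q * ht
  · linear_combination r * ht
  · linear_combination h2 - 2 * p * ht

/-- an element of `GL₂(7)` of determinant `-1` whose square is `s` -/
def g1 : GL (Fin 2) (ZMod 7) := ⟨!![2, -1; 1, -1], !![1, -1; 1, -2], by decide, by decide⟩

theorem g1_det : g1.1.det = -1 := by (simp only [detL_eq_12f40]; decide +kernel)

/-- its square -/
def s1 : SL7 := ⟨!![3, -1; 1, 0], by decide⟩

theorem g1_sq : g1 * g1 = SpecialLinearGroup.toGL s1 := by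
  apply Units.ext
  change !![2, -1; 1, -1] * !![2, -1; 1, -1] = !![3, -1; 1, (0 : ZMod 7)]
  decide

theorem toGL_conj (x : SL7) : SpecialLinearGroup.toGL (conjGL g1 x) = g1 * SpecialLinearGroup.toGL x * g1⁻¹ := by
  apply Units.ext
  rfl

theorem t_cases : ∀ t : ZMod 7, t = 0 ∨ (t = 2 ∨ t = -2) ∨ (t = 1 ∨ t = -1 ∨ t = 3 ∨ t = -3) := by decide

variable {F : Type u} [Field F] [Fintype F] {ρ : SL7 →* GL Ix F}

/-- **no outer automorphism** -/
theorem outer_false (h3 : (3 : F) = 0) (hF : Fintype.card F = 9) (hneg : ρ (-1) = -1)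
    (hspan : Submodule.span F (Set.range fun g => (ρ g : Matrix Ix Ix F)) = ⊤) {h : GL Ix F}
    (hβ : ∀ x, h * ρ x = ρ (conjGL g1 x) * h) (hsq : h * h = ρ s1 ∨ h * h = -ρ s1) : False := by
  have hch := charP_three h3
  have : Fact (Nat.Prime 3) := ⟨by norm_num⟩
  set Ψ : SL7 → F := fun g => tr (h * ρ g) with hΨ
  set c3 : SL7 → SL7 := fun g => g * conjGL g1 g * s1 * g with hc3
  have hn : ∀ g, ρ (-g) = -ρ g := by
    intro g
    rw [← neg_one_mul, map_mul, hneg, neg_one_mul]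
  have hΨn : ∀ g, Ψ (-g) = -Ψ g := by
    intro g
    simp only [hΨ]
    rw [hn, mul_neg, tr_neg]
  -- conjugation
  have hΨc : ∀ z g, Ψ (z * g * (conjGL g1 z)⁻¹) = Ψ g := by
    intro z g
    simp only [hΨ]
    have e1 : h * ρ (z * g * (conjGL g1 z)⁻¹) = ρ (conjGL g1 z) * (h * ρ g) * (ρ (conjGL g1 z))⁻¹ := by
      rw [map_mul, map_mul, map_inv, ← mul_assoc, ← mul_assoc, hβ]
      simp only [mul_assoc]
    rw [e1, H915.LD.tr_conj]
  -- cubes
  obtain ⟨ε, hε, hcu⟩ : ∃ ε : F, (ε = 1 ∨ ε = -1) ∧ ∀ g, Ψ g ^ 3 = ε * Ψ (c3 g) := by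
    have e0 : ∀ g, (h * ρ g) ^ 3 = h * ρ g * (ρ (conjGL g1 g) * (h * h) * ρ g) := by
      intro g
      rw [pow_succ', pow_two]
      congr 1
      rw [← mul_assoc (h * ρ g) h, hβ g, mul_assoc (ρ _) h h]
    have e1 : ∀ g, Ψ g ^ 3 = tr ((h * ρ g) ^ 3) := by
      intro g
      have := tr_pow_char 3 (h * ρ g) 1
      rw [pow_one] at this
      exact this.symm
    rcases hsq with hsq | hsq
    · refine ⟨1, Or.inl rfl, fun g => ?_⟩
      rw [e1, e0, hsq, one_mul]
      simp only [hΨ, hc3]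
      congr 1
      simp only [map_mul, mul_assoc]
    · refine ⟨-1, Or.inr rfl, fun g => ?_⟩
      rw [e1, e0, hsq, neg_one_mul]
      simp only [hΨ, hc3]
      rw [← tr_neg]
      congr 1
      simp only [map_mul, mul_assoc, mul_neg, neg_mul]
  -- the corresponding elements of `GL₂(7)`
  set m : SL7 → GL (Fin 2) (ZMod 7) := fun g => g1 * SpecialLinearGroup.toGL g with hm
  have hmc : ∀ g, m (c3 g) = m g ^ 3 := by
    intro g
    simp only [hm, hc3]
    rw [map_mul, map_mul, map_mul, toGL_conj, ← g1_sq, pow_succ, pow_two]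
    group
  have hmdet : ∀ g, (m g).1.det = -1 := by
    intro g
    change (g1.1 * g.1).det = -1
    rw [Matrix.det_mul, g1_det, g.2, mul_one]
  have hminj : ∀ g g', (m g).1 = -(m g').1 → g = -g' := by
    intro g g' hgg
    apply Subtype.ext
    change g.1 = -g'.1
    have h4 : g1.1 * g.1 = g1.1 * (-g'.1) := by
      rw [Matrix.mul_neg]
      exact hgg
    have h5 := congrArg (fun x => g1⁻¹.1 * x) h4
    simp only [← Matrix.mul_assoc] at h5
    rw [← Units.val_mul, inv_mul_cancel, Units.val_one, Matrix.one_mul, Matrix.one_mul] at h5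
    exact h5
  -- trace zero
  have hz : ∀ x : F, x = -x → x = 0 := by
    intro x hx
    have h6 : (2 : F) * x = 0 := by linear_combination hx
    rw [two_eq h3] at h6
    linear_combination -h6
  have h0 : ∀ g, (m g).1.trace = 0 → Ψ g = 0 := by
    intro g hg
    obtain ⟨z, hz1⟩ := exists_anti (hmdet g) hg
    have h5 : (conjGL g1).symm z * g * (conjGL g1 ((conjGL g1).symm z))⁻¹ = -g := by
      rw [MulEquiv.apply_symm_apply]
      apply hminj
      have h6 : m ((conjGL g1).symm z * g * z⁻¹) = SpecialLinearGroup.toGL z * m g * (SpecialLinearGroup.toGL z)⁻¹ := by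
        have h7 : g1 * SpecialLinearGroup.toGL ((conjGL g1).symm z) = SpecialLinearGroup.toGL z * g1 := by
          have h8 := toGL_conj ((conjGL g1).symm z)
          rw [MulEquiv.apply_symm_apply] at h8
          rw [h8, inv_mul_cancel_right]
        simp only [hm]
        rw [map_mul, map_mul, ← mul_assoc, ← mul_assoc, h7, map_inv]
        simp only [mul_assoc]
      rw [h6]
      change z.1 * (m g).1 * (SpecialLinearGroup.toGL z)⁻¹.1 = -(m g).1
      rw [hz1, Matrix.neg_mul, Matrix.mul_assoc]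
      have h9 : z.1 * (SpecialLinearGroup.toGL z)⁻¹.1 = 1 := by
        have h10 : (SpecialLinearGroup.toGL z).1 * (SpecialLinearGroup.toGL z)⁻¹.1 = 1 := by
          rw [← Units.val_mul, mul_inv_cancel, Units.val_one]
        exact h10
      rw [h9, Matrix.mul_one]
    have h6 := hΨc ((conjGL g1).symm z) g
    rw [h5, hΨn] at h6
    exact hz _ h6.symm
  have hall : ∀ g, Ψ g = 0 := by
    intro g
    rcases t_cases (m g).1.trace with ht | ht | ht
    · exact h0 g ht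
    · have h4 : Ψ (c3 g) = 0 := by
        apply h0
        rw [hmc, Units.val_pow_eq_pow_val]
        exact trace_cube (hmdet g) ht
      have h5 := hcu g
      rw [h4, mul_zero] at h5
      exact pow_eq_zero_iff three_ne_zero |>.1 h5
    · have h4 := pow_eight (hmdet g) ht
      have h5 : c3 (c3 g) = -g := by
        apply hminj
        rw [hmc, hmc, ← pow_mul, Units.val_pow_eq_pow_val, show 3 * 3 = 8 + 1 by norm_num, pow_succ, h4,
          Matrix.neg_mul, Matrix.one_mul]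
      have h6 : Ψ g ^ 9 = Ψ g := by
        have := FiniteField.pow_card (Ψ g)
        rwa [hF] at this
      have h7 : Ψ g ^ 9 = Ψ (c3 (c3 g)) := by
        rw [show 9 = 3 * 3 by norm_num, pow_mul, hcu, mul_pow, hcu, ← mul_assoc]
        have h8 : ε ^ 3 * ε = 1 := by
          rcases hε with h | h <;> rw [h] <;> ring
        rw [h8, one_mul]
      rw [h6, h5, hΨn] at h7
      exact hz _ h7
  have hzero := H906.eq_zero_of_trace_mul hspan (X := (h : Matrix Ix Ix F)) (by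
    rintro _ ⟨g, rfl⟩
    exact hall g)
  have h4 : (h : Matrix Ix Ix F) * ((h⁻¹ : GL Ix F) : Matrix Ix Ix F) = 1 := by
    rw [← Units.val_mul, mul_inv_cancel, Units.val_one]
  rw [hzero, Matrix.zero_mul] at h4
  have h5 := congrFun (congrFun h4 (Sum.inl 0)) (Sum.inl 0)
  rw [Matrix.zero_apply, Matrix.one_apply_eq] at h5
  exact zero_ne_one h5

end Cfsg.Agent.H156.SNT
end

-- part: H156/SN/Main
section
/-!
# `L₂(7)` is not the socle of a maximal residual subgroup of `Sp₆(9)` (helper156)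

`seven_nine` : `2.L₂(7) < 2.A₇ < Sp₆(9)`.
-/

set_option autoImplicit false
set_option linter.unusedSectionVars false

namespace Cfsg.Agent.H156.SNT

open Matrix Cfsg Cfsg.Geo Cfsg.Agent.H915.LD Cfsg.Agent.H914.S6
open Cfsg.Agent.H156.SN (Ix fact7 two_eq Env)

universe u

attribute [local instance] fact7

/-! ### the model -/

theorem good_model {F : Type u} [Field F] (E : Env F) : Good E.ρ E.η where
  neg := E.ρ_neg_one
  inv g := by
    rw [map_inv]
    exact H914.S6.tr_inv (E.L_le (E.ρ_mem g))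
  uni := by
    have h : E.ρ (Cfsg.Agent.H464.Sl2.u 1) = E.U := by
      have h1 : (Cfsg.Agent.H464.Sl2.u 1 : SL7) = Lib.SL2Hom.up 1 := rfl
      rw [h1, E.ρ_up]
      have h2 : (1 : ZMod 7).val = 1 := by decide
      rw [h2, pow_one]
    rw [h]
    exact E.tr_U
  s := by
    have h : E.ρ (Cfsg.Agent.H464.Sl2.u 3 * Cfsg.Agent.H464.Sl2.w 1) = E.U ^ 3 * (-1 * E.W) := by
      have h1 : (Cfsg.Agent.H464.Sl2.u 3 : SL7) = Lib.SL2Hom.up 3 := rfl
      have h2 : (3 : ZMod 7).val = 3 := by decide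
      have h3 : (Cfsg.Agent.H464.Sl2.w 1 : SL7) = -1 * Lib.SL2Hom.wl (ZMod 7) := by
        apply Subtype.ext
        change !![0, -((1⁻¹ : (ZMod 7)ˣ) : ZMod 7); ((1 : (ZMod 7)ˣ) : ZMod 7), 0] = -1 * !![0, 1; -1, 0]
        decide
      rw [map_mul, h1, h3, map_mul, E.ρ_up, E.ρ_wl, E.ρ_neg_one, h2]
    rw [h]
    exact E.tr_s

/-- equal traces and one absolutely irreducible: the other one spans too -/
theorem span_of_trace {G : Type} [Group G] [Fintype G] {F : Type u} [Field F] (ρ₁ ρ₂ : G →* Matrix Ix Ix F)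
    (h₂ : Submodule.span F (Set.range ρ₂) = ⊤) (htr : ∀ g, (ρ₁ g).trace = (ρ₂ g).trace) :
    Submodule.span F (Set.range ρ₁) = ⊤ := by
  classical
  set T₁ := Fintype.linearCombination F (ρ₁ : G → Matrix Ix Ix F) with hT₁
  set T₂ := Fintype.linearCombination F (ρ₂ : G → Matrix Ix Ix F) with hT₂
  have hker : LinearMap.ker T₁ ≤ LinearMap.ker T₂ := by
    intro c hc
    rw [LinearMap.mem_ker] at hc ⊢
    apply H906.eq_zero_of_trace_mul h₂
    rintro _ ⟨h, rfl⟩
    have e1 : (T₂ c * ρ₂ h).trace = ∑ g, c g * (ρ₂ (g * h)).trace := by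
      rw [hT₂, Fintype.linearCombination_apply, Finset.sum_mul, Matrix.trace_sum]
      refine Finset.sum_congr rfl fun g _ => ?_
      rw [smul_mul_assoc, Matrix.trace_smul, ← map_mul, smul_eq_mul]
    have e2 : (T₁ c * ρ₁ h).trace = ∑ g, c g * (ρ₁ (g * h)).trace := by
      rw [hT₁, Fintype.linearCombination_apply, Finset.sum_mul, Matrix.trace_sum]
      refine Finset.sum_congr rfl fun g _ => ?_
      rw [smul_mul_assoc, Matrix.trace_smul, ← map_mul, smul_eq_mul]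
    simp only [← htr] at e1
    rw [e1, ← e2, hc, zero_mul, Matrix.trace_zero]
  have h1 := LinearMap.finrank_range_add_finrank_ker T₁
  have h2 := LinearMap.finrank_range_add_finrank_ker T₂
  have h3 := Submodule.finrank_mono hker
  have h4 : LinearMap.range T₂ = ⊤ := by
    rw [hT₂, Fintype.range_linearCombination]
    exact h₂
  rw [h4, finrank_top] at h2
  have h5 := Submodule.finrank_le (LinearMap.range T₁)
  have h6 : LinearMap.range T₁ = ⊤ := Submodule.eq_top_of_finrank_eq (by omega)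
  rw [hT₁, Fintype.range_linearCombination] at h6
  exact h6

variable {F : Type u} [Field F] [Fintype F] {H P : Subgroup (GL (Fin 3 ⊕ Fin 3) F)}

theorem span_core {ρ : SL7 →* GL Ix F} (hC : Core P) (hρ : ρ.range = P) :
    Submodule.span F (Set.range fun g => (ρ g : Matrix Ix Ix F)) = ⊤ := by
  rw [← Cfsg.Agent.H920.span_eq_top hC.absIrred]
  congr 1
  ext X
  constructor
  · rintro ⟨g, rfl⟩
    exact ⟨ρ g, by rw [← hρ]; exact ⟨g, rfl⟩, rfl⟩
  · rintro ⟨x, hx, rfl⟩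
    rw [← hρ] at hx
    obtain ⟨g, rfl⟩ := hx
    exact ⟨g, rfl⟩

/-- conjugation by an element normalising `P` -/
def cjP {H P : Subgroup (GL Ix F)} (hn : ∀ h ∈ H, ∀ x ∈ P, h * x * h⁻¹ ∈ P) (h : GL Ix F) (hh : h ∈ H) : MulAut P where
  toFun x := ⟨h * x.1 * h⁻¹, hn h hh x.1 x.2⟩
  invFun x := ⟨h⁻¹ * x.1 * h, by
    have := hn h⁻¹ (inv_mem hh) x.1 x.2
    rwa [inv_inv] at this⟩
  left_inv x := Subtype.ext (by simp [mul_assoc])
  right_inv x := Subtype.ext (by simp [mul_assoc])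
  map_mul' x y := Subtype.ext (by simp only [mul_assoc, _root_.Subgroup.coe_mul, _root_.MulMemClass.mk_mul_mk, _root_.inv_mul_cancel_left])

theorem ringAut7 (σ : ZMod 7 ≃+* ZMod 7) (x : ZMod 7) : σ x = x := by
  have h : x = ((x.val : ℕ) : ZMod 7) := (ZMod.natCast_zmod_val x).symm
  rw [h, map_natCast]

theorem sq_or : ∀ d : ZMod 7, d ≠ 0 → ∃ e : ZMod 7, e ≠ 0 ∧ (d = e ^ 2 ∨ d = -e ^ 2) := by decide

/-- **`H ≤ P`** -/
theorem H_le_P (S : Hyp 3 H P) (hF : Fintype.card F = 9) {ρ : SL7 →* GL Ix F} {η : F} (hρ : ρ.range = P)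
    (hker : ρ.ker ≤ Subgroup.center SL7) (hG : Good ρ η) : H ≤ P := by
  have h3 := char_three hF
  have hmem : ∀ g, ρ g ∈ P := fun g => by rw [← hρ]; exact ⟨g, rfl⟩
  have hn : ∀ g, ρ (-g) = -ρ g := by
    intro g
    rw [← neg_one_mul, map_mul, hG.neg, neg_one_mul]
  -- an element acting as an inner automorphism
  have hinn : ∀ h ∈ H, ∀ y : SL7, (∀ x, h * ρ x * h⁻¹ = ρ (y * x * y⁻¹)) → h = ρ y ∨ h = -ρ y := by
    intro h hh y hy
    apply S.inner hh (hmem y)
    intro x hx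
    rw [← hρ] at hx
    obtain ⟨g, rfl⟩ := hx
    have e1 : ((ρ y)⁻¹ * h) * ρ g * ((ρ y)⁻¹ * h)⁻¹ * (ρ g)⁻¹ = (ρ y)⁻¹ * (h * ρ g * h⁻¹) * ρ y * (ρ g)⁻¹ := by group
    rw [e1, hy, map_mul, map_mul, map_inv]
    have e2 : (ρ y)⁻¹ * (ρ y * ρ g * (ρ y)⁻¹) * ρ y * (ρ g)⁻¹ = 1 := by group
    rw [e2]
    exact one_mem _
  -- the map onto `P`
  let π : SL7 →* P := ρ.codRestrict P hmem
  have hπ : Function.Surjective π := by
    rintro ⟨x, hx⟩
    rw [← hρ] at hx
    obtain ⟨g, rfl⟩ := hx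
    exact ⟨g, rfl⟩
  have hkπ : π.ker ≤ Subgroup.center SL7 := by
    intro g hg
    apply hker
    rw [MonoidHom.mem_ker] at hg ⊢
    exact congrArg Subtype.val hg
  intro h hh
  obtain ⟨g, σ, hgs⟩ := Lib.AutSL2.exists_gl_ringEquiv π hπ hkπ (cjP S.core.normal h hh)
  have hσ : ∀ x : SL7, Lib.SL2Mat.fieldAut σ x = x := by
    intro x
    apply Subtype.ext
    ext i j
    exact ringAut7 σ _
  have hact : ∀ x, h * ρ x * h⁻¹ = ρ (Lib.SL2Mat.conjGL g x) := by
    intro x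
    have h1 := congrArg Subtype.val (hgs x)
    rw [hσ] at h1
    exact h1
  have hd : g.1.det ≠ 0 := by
    have h1 : g.1.det * (g⁻¹).1.det = 1 := by
      rw [← Matrix.det_mul, ← Units.val_mul, mul_inv_cancel, Units.val_one, Matrix.det_one]
    intro h0
    rw [h0, zero_mul] at h1
    exact zero_ne_one h1
  obtain ⟨e, he, hde⟩ := sq_or _ hd
  rcases hde with hde | hde
  · obtain ⟨y, hy⟩ := Lib.AutSL2Out.conjGL_of_det_sq g e he hde
    rcases hinn h hh y (fun x => by rw [hact, hy]) with h1 | h1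
    · rw [h1]; exact hmem y
    · rw [h1, ← hn]; exact hmem _
  · exfalso
    obtain ⟨y, hy⟩ := Lib.AutSL2Out.conjGL_of_det_sq (g * g1⁻¹) e he (by
      have h1 : g1.1.det * (g1⁻¹).1.det = 1 := by
        rw [← Matrix.det_mul, ← Units.val_mul, mul_inv_cancel, Units.val_one, Matrix.det_one]
      rw [g1_det] at h1
      rw [Units.val_mul, Matrix.det_mul, hde]
      linear_combination e ^ 2 * h1)
    have hg : ∀ x, Lib.SL2Mat.conjGL g x = y * Lib.SL2Mat.conjGL g1 x * y⁻¹ := by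
      intro x
      rw [← hy]
      rw [← MulAut.mul_apply, ← map_mul, inv_mul_cancel_right]
    have hH : (ρ y)⁻¹ * h ∈ H := H.mul_mem (H.inv_mem (S.core.le (hmem y))) hh
    have hβ : ∀ x, ((ρ y)⁻¹ * h) * ρ x = ρ (Lib.SL2Mat.conjGL g1 x) * ((ρ y)⁻¹ * h) := by
      intro x
      have h1 := hact x
      rw [hg, map_mul, map_mul, map_inv] at h1
      have h2 : h * ρ x = ρ y * ρ (Lib.SL2Mat.conjGL g1 x) * (ρ y)⁻¹ * h := by
        rw [← h1, inv_mul_cancel_right]
      rw [mul_assoc, h2]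
      simp only [mul_assoc, inv_mul_cancel_left]
    refine outer_false h3 hF hG.neg (span_core S.toCore hρ) hβ ?_
    apply hinn _ (H.mul_mem hH hH)
    intro x
    have h1 : ∀ x, ((ρ y)⁻¹ * h) * ρ x * ((ρ y)⁻¹ * h)⁻¹ = ρ (Lib.SL2Mat.conjGL g1 x) := by
      intro x
      rw [hβ, mul_inv_cancel_right]
    have h2 : (ρ y)⁻¹ * h * ((ρ y)⁻¹ * h) * ρ x * ((ρ y)⁻¹ * h * ((ρ y)⁻¹ * h))⁻¹ =
        ((ρ y)⁻¹ * h) * (((ρ y)⁻¹ * h) * ρ x * ((ρ y)⁻¹ * h)⁻¹) * ((ρ y)⁻¹ * h)⁻¹ := by group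
    rw [h2, h1, h1, ← MulAut.mul_apply, ← map_mul, g1_sq, Lib.SL2Mat.conjGL_toGL]

/-- **`2.L₂(7) < 2.A₇ < Sp₆(9)`.** -/
theorem seven_nine (S : Cfsg.Agent.H914.S6.Hyp 3 H P)
    (e : Nonempty (Cfsg.Agent.H915.LD.Soc P ≃* Matrix.ProjectiveSpecialLinearGroup (Fin 2) (ZMod 7)))
    (hF : Fintype.card F = 9) : False := by
  obtain ⟨ρ, E, hρ, hker, hG⟩ := exists_good S e hF
  have h3 := char_three hF
  have hmem : ∀ g, ρ g ∈ P := fun g => by rw [← hρ]; exact ⟨g, rfl⟩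
  have hHP := H_le_P S hF hρ hker hG
  have htr : ∀ g, tr (E.ρ g) = tr (ρ g) := fun g => by rw [hG.val h3, (good_model E).val h3]
  have hsp := span_core S.toCore hρ
  have hsp' := span_of_trace ((Units.coeHom (Matrix Ix Ix F)).comp E.ρ) ((Units.coeHom (Matrix Ix Ix F)).comp ρ) hsp htr
  obtain ⟨B, hB⟩ := H906.exists_conj_of_trace ((Units.coeHom (Matrix Ix Ix F)).comp E.ρ)
    ((Units.coeHom (Matrix Ix Ix F)).comp ρ) hsp' hsp htr
  have hB' : ∀ g, ρ g = B * E.ρ g * B⁻¹ := fun g => Units.ext (hB g)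
  have hPL : P ≤ E.L.map (MulAut.conj B).toMonoidHom := by
    intro x hx
    rw [← hρ] at hx
    obtain ⟨g, rfl⟩ := hx
    exact ⟨E.ρ g, E.ρ_mem g, (hB' g).symm⟩
  have hLs : E.L.map (MulAut.conj B).toMonoidHom ≤ spGL 3 F := by
    apply H914.S6.le_spGL_of_real (by norm_num) S.core.absIrred S.P_le hPL
    rintro _ ⟨l, hl, rfl⟩
    have h1 : (MulAut.conj B).toMonoidHom l = B * l * B⁻¹ := rfl
    have h2 : (B * l * B⁻¹)⁻¹ = B * l⁻¹ * B⁻¹ := by group
    rw [h1, h2, H915.LD.tr_conj, H915.LD.tr_conj]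
    exact H914.S6.tr_inv (E.L_le hl)
  refine S.false_of_lt (L := E.L.map (MulAut.conj B).toMonoidHom) (lt_of_le_of_ne (hHP.trans hPL) ?_)
    (lt_of_le_of_ne hLs (E.ne_spGL hF B))
  intro heq
  have h1 : B * E.Z * B⁻¹ ∈ H := by
    rw [heq]
    exact ⟨E.Z, E.Z_mem, rfl⟩
  have h2 := hHP h1
  rw [← hρ] at h2
  obtain ⟨g, hg⟩ := h2
  have h4 : (B * E.Z * B⁻¹) ^ 168 = 1 := by
    rw [← hg, ← map_pow, pow_168, map_one]
  rw [conj_pow, show 168 = 5 * 33 + 3 by norm_num, pow_add, pow_mul, E.Z5, one_pow, one_mul] at h4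
  have h5 : E.Z ^ 3 = 1 := by
    have : B⁻¹ * (B * E.Z ^ 3 * B⁻¹) * B = E.Z ^ 3 := by group
    rw [← this, h4]
    group
  apply E.Z_ne_one
  have h6 : E.Z = E.Z ^ 3 * E.Z ^ 3 * (E.Z ^ 5)⁻¹ := by group
  rw [h6, h5, E.Z5]
  group

end Cfsg.Agent.H156.SNT
end

-- part: H914/SixRB
section
/-!
# The rows `PSL₂(7)`, `PSL₂(11)`, `PSL₂(13)` of `Sp₆` (helper914)
-/

set_option autoImplicit false
set_option linter.unusedSectionVars false
set_option maxHeartbeats 400000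

namespace Cfsg.Agent.H914.S6

open Matrix Cfsg Cfsg.Geo Cfsg.Agent.H915.LD
open scoped MatrixGroups

universe u v

section l2

variable {F : Type u} [Field F] [Fintype F] {H P : Subgroup (GL (Fin 3 ⊕ Fin 3) F)}

theorem card_six : Fintype.card (Fin 3 ⊕ Fin 3) = 6 := rfl

/-- the row `PSL₂(7)` -/
theorem row_l27 (S : Hyp 3 H P) (p : ℕ) [hp : Fact p.Prime] [CharP F p] (hp7 : p ≠ 7) {K : Type v} [Field K]
    [Fintype K] (hK : Fintype.card K = 7) (e : Soc P ≃* Matrix.ProjectiveSpecialLinearGroup (Fin 2) K) :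
    (Fintype.card F = p ∧ p ≠ 7 ∧ (p % 16 = 1 ∨ p % 16 = 15 ∨ p % 16 = 7 ∨ p % 16 = 9)) ∨
      (Fintype.card F = p ^ 2 ∧ p ≠ 3 ∧ (p % 16 = 3 ∨ p % 16 = 13 ∨ p % 16 = 5 ∨ p % 16 = 11)) := by
  obtain ⟨h2, h | ⟨-, h, h'⟩ | ⟨-, h, h'⟩⟩ := H464.Sl2.l2_7_6 p S.toCore hK hp7 e card_six
  · exfalso
    have hpK : ¬ p ∣ Fintype.card K := by
      rw [hK]
      intro h3
      exact hp7 ((Nat.prime_dvd_prime_iff_eq hp.out (by norm_num)).1 h3)
    exact S.noQ (H830.Sl2Form.l2_fixQ p h2 S.toCore (by omega) (by omega) hpK e h.1 S.sd).1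
  · exact Or.inl ⟨h, hp7, by omega⟩
  · right
    refine ⟨h, ?_, by omega⟩
    rintro rfl
    have : Fact (Nat.Prime 7) := ⟨by norm_num⟩
    obtain ⟨f⟩ := psl_zmod hK 2
    exact H156.SNT.seven_nine S ⟨e.trans f⟩ (by rw [h]; norm_num)

theorem Row6.l27 (S : Hyp 3 H P) (p : ℕ) [hp : Fact p.Prime] [CharP F p] (hp7 : p ≠ 7) {K : Type v} [Field K]
    [Fintype K] (hK : Fintype.card K = 7) (e : Nonempty (Soc P ≃* Matrix.ProjectiveSpecialLinearGroup (Fin 2) K)) :
    Row6 p F (Soc P) := by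
  obtain ⟨e⟩ := e
  have : Fact (Nat.Prime 7) := ⟨by norm_num⟩
  obtain ⟨f⟩ := psl_zmod hK 2
  exact Or.inr (Or.inl ⟨⟨e.trans f⟩, row_l27 S p hp7 hK e⟩)

/-- no row `PSL₂(11)` -/
theorem row_l211 (S : Hyp 3 H P) (p : ℕ) [hp : Fact p.Prime] [CharP F p] (hp11 : p ≠ 11) {K : Type v} [Field K]
    [Fintype K] (hK : Fintype.card K = 11) (e : Nonempty (Soc P ≃* Matrix.ProjectiveSpecialLinearGroup (Fin 2) K)) :
    False := by
  obtain ⟨e⟩ := e
  exact (H464.Sl2.l2_11_6 p S.toCore hK hp11 e card_six).2.1 S.sd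

/-- the row `PSL₂(13)` -/
theorem Row6.l213 (S : Hyp 3 H P) (p : ℕ) [hp : Fact p.Prime] [CharP F p] (hp13 : p ≠ 13) {K : Type v} [Field K]
    [Fintype K] (hK : Fintype.card K = 13) (e : Nonempty (Soc P ≃* Matrix.ProjectiveSpecialLinearGroup (Fin 2) K)) :
    Row6 p F (Soc P) := by
  obtain ⟨e⟩ := e
  have : Fact (Nat.Prime 13) := ⟨by norm_num⟩
  obtain ⟨f⟩ := psl_zmod hK 2
  refine Or.inr (Or.inr (Or.inl ⟨⟨e.trans f⟩, ?_⟩))
  obtain ⟨-, -, h | h⟩ := H464.Sl2.l2_13_6 p S.toCore hK hp13 e card_six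
  · exact Or.inl ⟨h.1, by omega⟩
  · refine Or.inr ⟨h.1, ?_, by omega⟩
    rintro rfl
    have h2 : (2 : F) = 0 := by
      have := CharP.cast_eq_zero F 2
      exact_mod_cast this
    exact Spin.L.thirteen_two S h2 (e.trans f)

end l2

end Cfsg.Agent.H914.S6
end

private theorem dce_12f4079bfffc : _root_.True := by
  try have : _root_.True := by simp only [_root_.Cfsg.Agent.H156.SNT.t7.eq_1]
  try have : _root_.True := by simp only [_root_.Cfsg.Agent.H156.SN.lI.eq_1]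
  try have : _root_.True := by simp only [_root_.Cfsg.Agent.H914.S6.Spin.L.hm.eq_1]
  try have : _root_.True := by simp only [_root_.Cfsg.Agent.H156.SN.im.eq_1]
  try have : _root_.True := by simp only [_root_.Cfsg.Agent.H156.SN.re.eq_1]
  try have : _root_.True := by simp only [_root_.Cfsg.Agent.H156.SN.s6.eq_1]
  try have : _root_.True := by simp only [_root_.Cfsg.Agent.H156.SN.lN.eq_1]
  try have : _root_.True := by simp only [_root_.Cfsg.Agent.H156.SN.idx.eq_1]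
  try have : _root_.True := by simp only [_root_.Cfsg.Agent.H156.SN.ev.eq_1]
  try have : _root_.True := by simp only [_root_.Cfsg.Agent.H156.SN.lJ.eq_1]
  try have : _root_.True := by simp only [_root_.Cfsg.Agent.H914.S6.Spin.du.eq_1]
  try have : _root_.True := by simp only [_root_.Cfsg.Agent.H914.S6.Spin.L.pi.eq_1]
  try have : _root_.True := by simp only [_root_.Cfsg.Agent.H914.S6.Spin.L.mj.eq_1]
  try have : _root_.True := by simp only [_root_.Cfsg.Agent.H156.SN.toM.eq_1]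
  try have : _root_.True := by simp only [_root_.Cfsg.Agent.H156.SN.get.eq_1]
  exact _root_.True.intro
end

-- part: H914/SixRC
section
prune_inst 0x20044060000000000002000000000400009000000000000002400208406000020000300011000008080020000000000000200000000000000400000101000080000080080000000086000000000000000000000000000000000000000004000000000
set_option linter.all false
open scoped Cfsg.Agent.FastGrp

-- part: H476/JTwo/Outer
section
/-!
# The outer automorphism (helper476, for S5806)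
-/

set_option autoImplicit false
set_option linter.unusedSectionVars false

namespace Cfsg.Agent.H476.JTwo

open Cfsg Cfsg.Geo Matrix Module

universe u v

namespace Frm

variable {R : Type*} [Ring R] {st : R → R} {ε p1 p3 q1 q3 e8 e6 : R} (H : Frm st ε p1 p3 q1 q3 e8 e6)
include H

theorem colD {e3 e4 : R} (h3 : e3 = p3 * q3) (h4 : 2 * e4 = (ε + p3) * (ε + q3)) :
    (1 - 2 * e4) * (1 - 2 * e8) * (1 - 2 * e3) * (p1 * qX ε q1 e6 + ε + p3) =
      p1 * qX ε q1 e6 + qI ε p3 e8 + p3 * qI ε p3 e8 := by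
  have h8 := H.form8
  generalize qX ε q1 e6 = X at *
  have a1 : (1 - 2 * e3) * (p1 * X + ε + p3) = p1 * X + ε - p3 := by
    rw [h3]
    linear_combination (norm := noncomm_ring) -2 * p3 * (H.q31 * X + H.q3e + H.q33) - 2 * H.p3e
  have a2 : (1 - 2 * e8) * (p1 * X + ε - p3) = p1 * X - qI ε p3 e8 - p3 * qI ε p3 e8 := by
    rw [h8]
    linear_combination (norm := noncomm_ring) -(ε + p3 * qI ε p3 e8) * (H.ep1 * X + H.ee - H.ep3 -
      qI ε p3 e8 * H.q31 * X - qI ε p3 e8 * H.q3e + qI ε p3 e8 * H.q33 + H.Ie) - H.ee - H.eI - p3 * H.Ie -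
      p3 * H.II + H.p3e
  have a3 : (1 - 2 * e4) * (p1 * X - qI ε p3 e8 - p3 * qI ε p3 e8) =
      p1 * X + qI ε p3 e8 + p3 * qI ε p3 e8 := by
    rw [h4]
    linear_combination (norm := noncomm_ring) -(ε + p3) * (H.ep1 * X - H.eI - H.ep3 * qI ε p3 e8 + H.q31 * X -
      H.q3I - H.q33 * qI ε p3 e8 - H.eI) + 2 * H.eI
  rw [mul_assoc, mul_assoc, a1, a2, a3]

theorem rowD {e3 e4 : R} (s3 : st e3 = e3) (s4 : st e4 = e4) (h3 : e3 = p3 * q3) (h4 : 2 * e4 = (ε + p3) * (ε + q3)) :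
    ((ε - qX ε q1 e6) * q1 + ε + q3) * ((1 - 2 * e3) * (1 - 2 * e8) * (1 - 2 * e4)) =
      (ε - qX ε q1 e6) * q1 - qI ε p3 e8 - qI ε p3 e8 * q3 := by
  have h := congrArg st (H.colD h3 h4)
  simp only [H.ad.mul, H.ad.add, H.ad.sub, H.ad.one, H.ad.two, s3, s4, H.s8, H.stX, H.s1, H.s3, H.se, H.stI] at h
  linear_combination (norm := noncomm_ring) h

/-- `4 q1 (D e6 D⁻¹) ε = - X i` -/
theorem D6 {e3 e4 : R} (s3 : st e3 = e3) (s4 : st e4 = e4) (h3 : e3 = p3 * q3) (h4 : 2 * e4 = (ε + p3) * (ε + q3)) :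
    4 * (q1 * ((1 - 2 * e4) * (1 - 2 * e8) * (1 - 2 * e3) * e6 * ((1 - 2 * e3) * (1 - 2 * e8) * (1 - 2 * e4))) * ε) =
      -(qX ε q1 e6 * qI ε p3 e8) := by
  have hc := H.colD h3 h4
  have hr := H.rowD s3 s4 h3 h4
  have h6 := H.form6
  have h : 4 * (q1 * ((1 - 2 * e4) * (1 - 2 * e8) * (1 - 2 * e3) * e6 * ((1 - 2 * e3) * (1 - 2 * e8) * (1 - 2 * e4))) * ε) =
      q1 * (p1 * qX ε q1 e6 + qI ε p3 e8 + p3 * qI ε p3 e8) *
        (((ε - qX ε q1 e6) * q1 - qI ε p3 e8 - qI ε p3 e8 * q3) * ε) := by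
    rw [← hc, ← hr]
    generalize (1 - 2 * e4) * (1 - 2 * e8) * (1 - 2 * e3) = D at *
    generalize (1 - 2 * e3) * (1 - 2 * e8) * (1 - 2 * e4) = D' at *
    linear_combination (norm := noncomm_ring) q1 * D * h6 * D' * ε
  rw [h]
  have a1 : q1 * (p1 * qX ε q1 e6 + qI ε p3 e8 + p3 * qI ε p3 e8) = qX ε q1 e6 := by
    linear_combination (norm := noncomm_ring) H.q11 * qX ε q1 e6 + H.eX + H.q1I + H.q13 * qI ε p3 e8
  have a2 : ((ε - qX ε q1 e6) * q1 - qI ε p3 e8 - qI ε p3 e8 * q3) * ε = -qI ε p3 e8 := by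
    linear_combination (norm := noncomm_ring) (ε - qX ε q1 e6) * H.q1e - H.Ie - qI ε p3 e8 * H.q3e
  rw [a1, a2, mul_neg]

end Frm

variable {F : Type u} [Field F]

theorem three_ne (h3 : (3 : F) ≠ 0) {ε : M6 F} (he : ε ≠ 0) : 3 * ε ≠ 0 := by
  rw [three_mul_eq]
  exact smul_ne_zero h3 he

/-- an element of the quaternion algebra commuting with `i`, `j` is a scalar -/
theorem Fr.scalar_of_comm {ε p1 p3 q1 q3 I J : M6 F} (K : Fr sa ε p1 p3 q1 q3 I J) (he : Rf ε) (h2 : (2 : F) ≠ 0)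
    (h3 : (3 : F) ≠ 0) {m : M6 F} (hm : ε * m = m) (hm' : m * ε = m) (hI : m * I = I * m) (hJ : m * J = J * m) :
    ∃ c : F, m = c • ε := by
  have hS := adj_sa (F := F)
  have hsm : ε * sa m = sa m := by
    have h := congrArg sa hm'
    rwa [hS.mul, K.se] at h
  have hsm' : sa m * ε = sa m := by
    have h := congrArg sa hm
    rwa [hS.mul, K.se] at h
  obtain ⟨t, ht⟩ := he.scalar h2 (A := m + sa m) (by rw [hS.add, hS.st_st]; abel)
  have ht' : m + sa m = t • ε := by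
    rw [← ht, mul_add, add_mul, hm, hm', hsm, hsm']
  set m0 := m - (t / 2) • ε with hm0
  have s0 : sa m0 = -m0 := by
    rw [hm0, hS.sub, sa_smul, K.se]
    have h5 : sa m = t • ε - m := by rw [← ht']; abel
    rw [h5]
    have h6 : t • ε = (t / 2) • ε + (t / 2) • ε := by
      rw [← add_smul]
      congr 1
      field_simp
      ring
    rw [h6]
    abel
  have c0 : m0 * I = I * m0 := by
    rw [hm0, sub_mul, mul_sub, smul_mul_assoc, mul_smul_comm, hI, K.eI, K.Ie]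
  have c1 : m0 * J = J * m0 := by
    rw [hm0, sub_mul, mul_sub, smul_mul_assoc, mul_smul_comm, hJ, K.eJ, K.Je]
  have e0' : ε * m0 = m0 := by rw [hm0, mul_sub, hm, mul_smul_comm, K.ee]
  have sI : sa (m0 * I) = m0 * I := by
    rw [hS.mul, K.sI, s0, neg_mul_neg, c0]
  obtain ⟨l, hl⟩ := he.scalar h2 sI
  have hl' : m0 * I = l • ε := by
    rw [← hl, ← mul_assoc, e0', mul_assoc, K.Ie]
  have hm0' : m0 = -(l • I) := by
    have h5 : m0 * I * I = l • I := by rw [hl', smul_mul_assoc, K.eI]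
    rw [mul_assoc, K.II, mul_neg] at h5
    have h6 : m0 * ε = m0 := by rw [hm0, sub_mul, hm', smul_mul_assoc, K.ee]
    rw [h6] at h5
    rw [← h5, neg_neg]
  have hIJ : I * J ≠ 0 := by
    intro h0
    have h5 := K.IJIJ
    rw [h0, mul_zero] at h5
    exact three_ne h3 he.ne_zero (neg_eq_zero.1 h5.symm)
  have hl0 : l = 0 := by
    rw [hm0', neg_mul, mul_neg, smul_mul_assoc, mul_smul_comm, K.JI, smul_neg, neg_neg] at c1
    have h5 : (2 * l) • (I * J) = 0 := by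
      rw [mul_smul, two_smul]
      nth_rw 1 [← c1]
      abel
    rcases smul_eq_zero.1 h5 with h6 | h6
    · exact (mul_eq_zero.1 h6).resolve_left h2
    · exact absurd h6 hIJ
  rw [hl0, zero_smul, neg_zero] at hm0'
  exact ⟨t / 2, sub_eq_zero.1 (hm0.symm.trans hm0')⟩

variable {e1 e2 e3 e4 e5 e6 e8 : M6 F} (H : Rels sa e1 e2 e3 e4 e5 e6 e8)

include H

/-- **an element inducing the outer automorphism gives a square root of three** -/
theorem Rels.outer (he2 : Rf e2) (h2 : (2 : F) ≠ 0) (h3 : (3 : F) ≠ 0) {k k' : M6 F} (hk : k * k' = 1)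
    (hk' : k' * k = 1) (hs : sa k = k') (c1 : k * e1 = e1 * k) (c2 : k * e2 = e2 * k) (c3 : k * e3 = e3 * k)
    (c4 : k * e4 = e4 * k) (c5 : k * e5 = e5 * k) (c8 : k * e8 = rr e3 * e8 * rr e3 * k)
    (c6 : k * e6 = rr e4 * rr e8 * rr e3 * e6 * (rr e3 * rr e8 * rr e4) * k) : ∃ c : F, c * c = 3 := by
  have hS := adj_sa (F := F)
  have K := H.frm
  have L := H.fr
  have hD := K.D6 H.s3 H.s4 H.e3_eq H.e4_eq
  have kp3 : k * fp3 e2 e3 e4 = fp3 e2 e3 e4 * k := by
    unfold fp3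
    linear_combination (norm := noncomm_ring) 2 * c3 * e4 * e2 + 2 * e3 * c4 * e2 + 2 * e3 * e4 * c2
  have kq1 : k * fq1 e1 e2 e5 = fq1 e1 e2 e5 * k := by
    unfold fq1
    linear_combination (norm := noncomm_ring) 2 * c2 * e5 * e1 + 2 * e2 * c5 * e1 + 2 * e2 * e5 * c1
  have kI : k * rI e2 e3 e4 e8 = -(rI e2 e3 e4 e8 * k) := by
    have a1 : e2 * rr e3 = e2 := by
      unfold rr
      linear_combination (norm := noncomm_ring) -2 * H.z23
    have a2 : rr e3 * fp3 e2 e3 e4 = -fp3 e2 e3 e4 := by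
      unfold rr fp3
      linear_combination (norm := noncomm_ring) -4 * H.i3 * e4 * e2
    unfold rI qI
    linear_combination (norm := noncomm_ring) -2 * c2 * e8 * fp3 e2 e3 e4 - 2 * e2 * c8 * fp3 e2 e3 e4 -
      2 * a1 * e8 * rr e3 * k * fp3 e2 e3 e4 - 2 * e2 * e8 * rr e3 * kp3 - 2 * e2 * e8 * a2 * k
  have kX : k * qX e2 (fq1 e1 e2 e5) e6 = -(qX e2 (fq1 e1 e2 e5) e6 * rI e2 e3 e4 e8 * k) := by
    change _ = -(qX e2 (fq1 e1 e2 e5) e6 * qI e2 (fp3 e2 e3 e4) e8 * k)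
    have hD' : qX e2 (fq1 e1 e2 e5) e6 * qI e2 (fp3 e2 e3 e4) e8 =
        -(4 * (fq1 e1 e2 e5 * (rr e4 * rr e8 * rr e3 * e6 * (rr e3 * rr e8 * rr e4)) * e2)) := by
      unfold rr
      rw [hD, neg_neg]
    rw [hD']
    unfold qX
    generalize rr e4 * rr e8 * rr e3 = D at *
    generalize rr e3 * rr e8 * rr e4 = D' at *
    linear_combination (norm := noncomm_ring) 4 * kq1 * e6 * e2 + 4 * fq1 e1 e2 e5 * c6 * e2 +
      4 * fq1 e1 e2 e5 * D * e6 * D' * c2
  have hXI := K.XI H.h9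
  change qX e2 (fq1 e1 e2 e5) e6 * rI e2 e3 e4 e8 + rI e2 e3 e4 e8 * qX e2 (fq1 e1 e2 e5) e6 =
    rI e2 e3 e4 e8 - e2 at hXI
  have eX := K.eX
  have kJ : k * rJ e1 e2 e3 e4 e5 e6 e8 = -(rJ e1 e2 e3 e4 e5 e6 e8 * k) := by
    have hII := L.II
    have hIe := L.Ie
    have heI := L.eI
    unfold rJ qJ
    generalize rI e2 e3 e4 e8 = I at *
    generalize qX e2 (fq1 e1 e2 e5) e6 = X at *
    linear_combination (norm := noncomm_ring) c2 * X - kI * X + e2 * kX + I * kX - c2 - e2 * hXI * k - I * hXI * k +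
      heI * X * k + hII * X * k - hII * k + hIe * k + H.i2 * k - heI * k
  have k'I : k' * rI e2 e3 e4 e8 = -(rI e2 e3 e4 e8 * k') := by
    linear_combination (norm := noncomm_ring) k' * kI * k' - hk' * rI e2 e3 e4 e8 * k' - k' * rI e2 e3 e4 e8 * hk
  have k'J : k' * rJ e1 e2 e3 e4 e5 e6 e8 = -(rJ e1 e2 e3 e4 e5 e6 e8 * k') := by
    linear_combination (norm := noncomm_ring) k' * kJ * k' - hk' * rJ e1 e2 e3 e4 e5 e6 e8 * k' -
      k' * rJ e1 e2 e3 e4 e5 e6 e8 * hk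
  have k'e : k' * e2 = e2 * k' := by
    linear_combination (norm := noncomm_ring) -k' * c2 * k' + hk' * e2 * k' - k' * e2 * hk
  have hIJI := L.IJI
  have hIIJ := L.IIJ
  have hIJJ := L.IJJ
  have hJIJ := L.JIJ
  have hIJIJ := L.IJIJ
  have heI := L.eI
  have hJe := L.Je
  have hsI := L.sI
  have hsJ := L.sJ
  have hJI := L.JI
  generalize hIg : rI e2 e3 e4 e8 = I at *
  generalize hJg : rJ e1 e2 e3 e4 e5 e6 e8 = J at *
  obtain ⟨c, hc⟩ := L.scalar_of_comm he2 h2 h3 (m := k' * (I * J))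
    (by linear_combination (norm := noncomm_ring) -k'e * (I * J) + k' * heI * J)
    (by linear_combination (norm := noncomm_ring) k' * I * hJe)
    (by linear_combination (norm := noncomm_ring) k' * hIJI + k' * hIIJ - k'I * (I * J))
    (by linear_combination (norm := noncomm_ring) k' * hIJJ + k' * hJIJ - k'J * (I * J))
  refine ⟨c, ?_⟩
  have h5 : sa (k' * (I * J)) = -(I * J * k) := by
    rw [hS.mul, ← hs, hS.st_st, hS.mul, hsI, hsJ]
    linear_combination (norm := noncomm_ring) hJI * k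
  have h6 : k' * (I * J) * sa (k' * (I * J)) = 3 * e2 := by
    rw [h5]
    linear_combination (norm := noncomm_ring) -k' * hIJIJ * k + 3 * k'e * k + 3 * e2 * hk'
  rw [hc, sa_smul, H.s2, smul_mul_smul_comm, H.i2, three_mul_eq] at h6
  exact smul_left_injective F he2.ne_zero h6

end Cfsg.Agent.H476.JTwo
end

-- part: H476/JTwo/Plane
section
/-!
# The group of the root lines is proper (helper476, for S5806)
-/

set_option autoImplicit false
set_option linter.unusedSectionVars false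

namespace Cfsg.Agent.H476.JTwo

open Cfsg Cfsg.Geo Matrix Module

universe u v

variable {F : Type u} [Field F]

/-- the nilpotent map `x ↦ B(x, u) s + B(x, s) u` -/
def nil (u s : Fin 3 ⊕ Fin 3 → F) : M6 F :=
  vecMulVec s (Matrix.J (Fin 3) F *ᵥ u) + vecMulVec u (Matrix.J (Fin 3) F *ᵥ s)

theorem nil_mulVec (u s x : Fin 3 ⊕ Fin 3 → F) :
    nil u s *ᵥ x = sympForm 3 F x u • s + sympForm 3 F x s • u := by
  unfold nil sympForm
  rw [Matrix.add_mulVec, Matrix.vecMulVec_mulVec, Matrix.vecMulVec_mulVec, dotProduct_comm x, dotProduct_comm x]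
  simp

theorem eq_of_mulVec {A B : M6 F} (h : ∀ x, A *ᵥ x = B *ᵥ x) : A = B := by
  ext i j
  have := congrFun (h (Pi.single j 1)) i
  rw [Matrix.mulVec_single_one, Matrix.mulVec_single_one] at this
  exact this

theorem nil_nil {u s : Fin 3 ⊕ Fin 3 → F} (h : sympForm 3 F s u = 0) : nil u s * nil u s = 0 := by
  have hB := form_symp (F := F)
  have h' : sympForm 3 F u s = 0 := by rw [hB.skew, h, neg_zero]
  apply eq_of_mulVec
  intro x
  rw [← Matrix.mulVec_mulVec, nil_mulVec, nil_mulVec, Matrix.zero_mulVec]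
  simp only [hB.bilinear.add_left, hB.bilinear.smul_left, h, h', hB.alternating, mul_zero, add_zero, zero_smul]

/-- the symplectic transformation `1 + nil u s` -/
def mkN (u s : Fin 3 ⊕ Fin 3 → F) (h : sympForm 3 F s u = 0) : GL (Fin 3 ⊕ Fin 3) F :=
  ⟨1 + nil u s, 1 - nil u s, by linear_combination (norm := noncomm_ring) -nil_nil h,
    by linear_combination (norm := noncomm_ring) -nil_nil h⟩

theorem mkN_mulVec (u s x : Fin 3 ⊕ Fin 3 → F) (h : sympForm 3 F s u = 0) :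
    (mkN u s h : M6 F) *ᵥ x = x + (sympForm 3 F x u • s + sympForm 3 F x s • u) := by
  change (1 + nil u s) *ᵥ x = _
  rw [Matrix.add_mulVec, Matrix.one_mulVec, nil_mulVec]

theorem mkN_sp (u s : Fin 3 ⊕ Fin 3 → F) (h : sympForm 3 F s u = 0) : mkN u s h ∈ spGL 3 F := by
  have hB := form_symp (F := F)
  have h' : sympForm 3 F u s = 0 := by rw [hB.skew, h, neg_zero]
  rw [H931.mem_spGL_iff]
  intro x y
  rw [mkN_mulVec, mkN_mulVec]
  simp only [hB.bilinear.add_left, hB.bilinear.smul_left, hB.bilinear.add_right, hB.bilinear.smul_right, h, h',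
    hB.alternating, mul_zero, add_zero]
  rw [hB.skew s y, hB.skew u y]
  ring

theorem Rf.exists_pair {e : M6 F} (he : Rf e) : ∃ u w, e *ᵥ u = u ∧ e *ᵥ w = w ∧ sympForm 3 F w u = 1 := by
  obtain ⟨w, hw⟩ : ∃ x, e *ᵥ x ≠ 0 := by
    by_contra hcon
    push Not at hcon
    exact he.ne_zero (eq_of_mulVec fun x => by rw [hcon, Matrix.zero_mulVec])
  have hB := form_symp (F := F)
  obtain ⟨y, hy⟩ := form_ne hw
  have ew : e *ᵥ (e *ᵥ w) = e *ᵥ w := by rw [Matrix.mulVec_mulVec, he.idem]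
  rw [← ew, form_sa, he.adj] at hy
  refine ⟨(sympForm 3 F (e *ᵥ w) (e *ᵥ y))⁻¹ • (e *ᵥ y), e *ᵥ w, ?_, ew, ?_⟩
  · rw [Matrix.mulVec_smul, Matrix.mulVec_mulVec, he.idem]
  · rw [hB.bilinear.smul_right, inv_mul_cancel₀ hy]

variable {e1 e2 e3 e4 e5 e6 e8 : M6 F} (H : Rels sa e1 e2 e3 e4 e5 e6 e8) {τ : F}

include H

theorem Rels.plane_aux (he1 : Rf e1) {u w s : Fin 3 ⊕ Fin 3 → F} (hu : e1 *ᵥ u = u) (hw : e1 *ᵥ w = w)
    (hwu : sympForm 3 F w u = 1) (hs : e1 *ᵥ s = 0)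
    (hall : ∀ g ∈ spGL 3 F, TpR τ e1 e2 e3 e4 e5 e6 e8 (g : M6 F)) :
    ∃ v ∈ tree.toL, (u ∈ LinearMap.range (col τ e2 (fp1 e1 e2 e5) (fp3 e2 e3 e4) (rI e2 e3 e4 e8)
      (rJ e1 e2 e3 e4 e5 e6 e8) v).mulVecLin) ∧
      (w + s ∈ LinearMap.range (col τ e2 (fp1 e1 e2 e5) (fp3 e2 e3 e4) (rI e2 e3 e4 e8)
      (rJ e1 e2 e3 e4 e5 e6 e8) v).mulVecLin) := by
  have hB := form_symp (F := F)
  have key : ∀ x, e1 *ᵥ x = x → sympForm 3 F s x = 0 := by
    intro x hx
    rw [← hx, ← he1.adj, ← form_sa, hs]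
    unfold sympForm
    rw [zero_dotProduct]
  have hsu := key u hu
  have hsw := key w hw
  have hus : sympForm 3 F u s = 0 := by rw [hB.skew, hsu, neg_zero]
  have hws : sympForm 3 F w s = 0 := by rw [hB.skew, hsw, neg_zero]
  obtain ⟨v, hv, x, hx⟩ := hall _ (mkN_sp u s hsu) _ one_mem_tree
  refine ⟨v, hv, ?_⟩
  have h1 := H.fr.col_g1 τ
  change col τ e2 (fp1 e1 e2 e5) (fp3 e2 e3 e4) (rI e2 e3 e4 e8) (rJ e1 e2 e3 e4 e5 e6 e8)
    (⟨⟨1, 0, 0, 0, 0, 0, 0, 0⟩, ⟨0, 0, 0, 0, 0, 0, 0, 0⟩, ⟨0, 0, 0, 0, 0, 0, 0, 0⟩⟩ : V) = _ at h1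
  rw [h1] at hx
  have h2 : ∀ z, e1 *ᵥ z = z → (mkN u s hsu : M6 F) *ᵥ z ∈
      LinearMap.range (col τ e2 (fp1 e1 e2 e5) (fp3 e2 e3 e4) (rI e2 e3 e4 e8) (rJ e1 e2 e3 e4 e5 e6 e8) v).mulVecLin := by
    intro z hz
    have h3 : z = fp1 e1 e2 e5 *ᵥ (fq1 e1 e2 e5 *ᵥ z) := by
      rw [Matrix.mulVec_mulVec, ← H.e1_eq, hz]
    rw [h3, Matrix.mulVec_mulVec, hx, ← Matrix.mulVec_mulVec]
    exact ⟨_, rfl⟩
  constructor
  · have h3 := h2 u hu
    rw [mkN_mulVec, hB.alternating, hus, zero_smul, zero_smul, add_zero, add_zero] at h3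
    exact h3
  · have h3 := h2 w hw
    rw [mkN_mulVec, hwu, hws, one_smul, zero_smul, add_zero] at h3
    exact h3

theorem Rels.not_all [Fintype F] (hF : 5 ≤ Fintype.card F) (he1 : Rf e1) (he2 : Rf e2) :
    ¬ ∀ g ∈ spGL 3 F, TpR τ e1 e2 e3 e4 e5 e6 e8 (g : M6 F) := by
  classical
  intro hall
  have hB := form_symp (F := F)
  obtain ⟨u, w, hu, hw, hwu⟩ := he1.exists_pair
  have h1 : ∀ s : LinearMap.ker e1.mulVecLin, ∃ i : Fin tree.toL.length,
      (u ∈ LinearMap.range (col τ e2 (fp1 e1 e2 e5) (fp3 e2 e3 e4) (rI e2 e3 e4 e8)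
      (rJ e1 e2 e3 e4 e5 e6 e8) (tree.toL.get i)).mulVecLin) ∧
      (w + s ∈ LinearMap.range (col τ e2 (fp1 e1 e2 e5) (fp3 e2 e3 e4) (rI e2 e3 e4 e8)
      (rJ e1 e2 e3 e4 e5 e6 e8) (tree.toL.get i)).mulVecLin) := by
    intro s
    have hs : e1 *ᵥ (s : Fin 3 ⊕ Fin 3 → F) = 0 := s.2
    obtain ⟨v, hv, h⟩ := H.plane_aux he1 hu hw hwu hs hall
    obtain ⟨i, hi⟩ := List.mem_iff_get.1 hv
    exact ⟨i, by rw [hi]; exact h⟩
  choose f hf using h1
  have hk : finrank F (LinearMap.ker e1.mulVecLin) = 4 := by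
    have h3 := LinearMap.finrank_range_add_finrank_ker e1.mulVecLin
    rw [finrank_six] at h3
    have h4 := he1.rk
    unfold Matrix.rank at h4
    omega
  have hcard : Nat.card (LinearMap.ker e1.mulVecLin) = Fintype.card F ^ 4 := by
    rw [Module.natCard_eq_pow_finrank (K := F), hk, Nat.card_eq_fintype_card]
  have hlt : Fintype.card (Fin tree.toL.length) < Nat.card (LinearMap.ker e1.mulVecLin) := by
    rw [Fintype.card_fin, length_tree, hcard]
    calc 315 < 5 ^ 4 := by norm_num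
      _ ≤ Fintype.card F ^ 4 := Nat.pow_le_pow_left hF 4
  rw [Nat.card_eq_fintype_card] at hlt
  obtain ⟨s, s', hne, heq⟩ := Fintype.exists_ne_map_eq_of_card_lt f hlt
  obtain ⟨a1, a2⟩ := hf s
  obtain ⟨-, a3⟩ := hf s'
  rw [← heq] at a3
  generalize hv : tree.toL.get (f s) = v at *
  set W := LinearMap.range (col τ e2 (fp1 e1 e2 e5) (fp3 e2 e3 e4) (rI e2 e3 e4 e8)
      (rJ e1 e2 e3 e4 e5 e6 e8) v).mulVecLin with hW
  have hW2 : finrank F W ≤ 2 := by
    have h3 := Matrix.rank_mul_le_right (col τ e2 (fp1 e1 e2 e5) (fp3 e2 e3 e4) (rI e2 e3 e4 e8)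
      (rJ e1 e2 e3 e4 e5 e6 e8) v) e2
    rw [H.fr.col_e, he2.rk] at h3
    exact h3
  have a4 : (s : Fin 3 ⊕ Fin 3 → F) - s' ∈ W := by
    have := W.sub_mem a2 a3
    rwa [add_sub_add_left_eq_sub] at this
  have es : e1 *ᵥ (s : Fin 3 ⊕ Fin 3 → F) = 0 := s.2
  have es' : e1 *ᵥ (s' : Fin 3 ⊕ Fin 3 → F) = 0 := s'.2
  have hli : LinearIndependent F ![u, w + s, (s : Fin 3 ⊕ Fin 3 → F) - s'] := by
    rw [Fintype.linearIndependent_iff]
    intro g hg
    rw [Fin.sum_univ_three] at hg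
    simp only [Matrix.cons_val_zero, Matrix.cons_val_one, Matrix.cons_val_two, Matrix.head_cons, Matrix.tail_cons,
      Matrix.cons_val] at hg
    have h3 := congrArg (fun z => e1 *ᵥ z) hg
    simp only [Matrix.mulVec_add, Matrix.mulVec_smul, Matrix.mulVec_sub, hu, hw, es, es', sub_zero, smul_zero,
      add_zero, Matrix.mulVec_zero] at h3
    have h4 : g 1 = 0 := by
      have h5 := congrArg (fun z => sympForm 3 F z u) h3
      simp only [hB.bilinear.add_left, hB.bilinear.smul_left, hB.alternating, hwu, mul_zero, zero_add, mul_one] at h5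
      rw [h5]
      unfold sympForm
      rw [zero_dotProduct]
    have h6 : g 0 = 0 := by
      rw [h4, zero_smul, add_zero] at h3
      rcases smul_eq_zero.1 h3 with h7 | h7
      · exact h7
      · exfalso
        rw [h7] at hwu
        unfold sympForm at hwu
        rw [Matrix.mulVec_zero, dotProduct_zero] at hwu
        exact zero_ne_one hwu
    have h8 : g 2 = 0 := by
      rw [h4, h6, zero_smul, zero_smul, zero_add, zero_add] at hg
      rcases smul_eq_zero.1 hg with h7 | h7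
      · exact h7
      · exact absurd (Subtype.ext (sub_eq_zero.1 h7)) hne
    intro i
    fin_cases i
    · exact h6
    · exact h4
    · exact h8
  have hle : Submodule.span F (Set.range ![u, w + s, (s : Fin 3 ⊕ Fin 3 → F) - s']) ≤ W := by
    rw [Submodule.span_le]
    rintro _ ⟨i, rfl⟩
    fin_cases i
    · exact a1
    · exact a2
    · exact a4
  have h5 := Submodule.finrank_mono hle
  rw [finrank_span_eq_card hli, Fintype.card_fin] at h5
  omega

theorem Rels.LL_lt [Fintype F] (hF : 5 ≤ Fintype.card F) (he1 : Rf e1) (he2 : Rf e2) :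
    LL τ e1 e2 e3 e4 e5 e6 e8 < spGL 3 F := by
  refine lt_of_le_of_ne LL_le fun h => H.not_all (τ := τ) hF he1 he2 fun g hg => ?_
  rw [← h] at hg
  exact hg.2.1

end Cfsg.Agent.H476.JTwo
end

-- part: H476/JTwo/Close
section
/-!
# The contradiction, for an abstract group (helper476, for S5806)
-/

set_option autoImplicit false
set_option linter.unusedSectionVars false

namespace Cfsg.Agent.H476.JTwo

open Cfsg Cfsg.Geo Matrix Module
open Cfsg.Agent.H914.S6 Cfsg.Agent.H915.LD Cfsg.Agent.H910.Aut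

universe u v

/-- generation, automorphisms, order -/
structure GF {G : Type v} [Group G] (D : GD G) where
  φ : MulAut G
  f1 : φ D.g1 = D.g1
  f2 : φ D.g2 = D.g2
  f3 : φ D.g3 = D.g3
  f4 : φ D.g4 = D.g4
  f5 : φ D.g5 = D.g5
  f8 : φ D.g8 = D.g3 * D.g8 * D.g3
  f6 : φ D.g6 = D.g4 * D.g8 * D.g3 * D.g6 * (D.g3 * D.g8 * D.g4)
  aut : ∀ α : MulAut G, ∃ g : G, α = MulAut.conj g ∨ α = MulAut.conj g * φ
  gen : Subgroup.closure {D.g1, D.g2, D.g4, D.g5, D.g8, D.g6} = ⊤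
  cop : ∀ x : G, x ^ 5 = 1 → x = 1

variable {F : Type u} [Field F] {G : Type v} [Group G] {H P : Subgroup (GL (Fin 3 ⊕ Fin 3) F)}

section lifts

variable {θ : P →* G} (S : RH P θ) {D : GD G} (E : GF D) {e1 e2 e3 e4 e5 e6 e8 : M6 F}
  (R : Rels sa e1 e2 e3 e4 e5 e6 e8) {τ : F} (hτ : τ * τ = τ + 1)
  (r1 : IsR θ e1 D.g1) (r2 : IsR θ e2 D.g2) (r3 : IsR θ e3 D.g3) (r4 : IsR θ e4 D.g4) (r5 : IsR θ e5 D.g5)
  (r6 : IsR θ e6 D.g6) (r8 : IsR θ e8 D.g8)

include S

theorem lf_LL_of_isR {e : M6 F} {x : G} (r : IsR θ e x) (hx : x * x = 1) (h : TpR τ e1 e2 e3 e4 e5 e6 e8 (rr e))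
    {a : GL (Fin 3 ⊕ Fin 3) F} (ha : Lf θ a x) : a ∈ LL τ e1 e2 e3 e4 e5 e6 e8 := by
  obtain ⟨b, hb, hb1, hb2, hbs⟩ := RH.isR_inv r hx S
  have h1 : b ∈ LL τ e1 e2 e3 e4 e5 e6 e8 := mem_LL hb1 hb2 hbs h
  rcases S.lf_uniq hb ha with h2 | h2
  · rw [h2]; exact h1
  · rw [h2, ← neg_one_mul]; exact mul_mem neg_one_LL h1

include E R hτ r1 r2 r4 r5 r6 r8

/-- all lifts are in the group of the root lines -/
theorem lf_LL (x : G) : ∀ {a : GL (Fin 3 ⊕ Fin 3) F}, Lf θ a x → a ∈ LL τ e1 e2 e3 e4 e5 e6 e8 := by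
  have hx : x ∈ Subgroup.closure {D.g1, D.g2, D.g4, D.g5, D.g8, D.g6} := by rw [E.gen]; trivial
  induction hx using Subgroup.closure_induction with
  | mem y hy =>
    intro a ha
    simp only [Set.mem_insert_iff, Set.mem_singleton_iff] at hy
    rcases hy with rfl | rfl | rfl | rfl | rfl | rfl
    · exact lf_LL_of_isR S r1 D.sq1 (R.t1 hτ S.h2 S.h3) ha
    · exact lf_LL_of_isR S r2 D.sq2 (R.t2 hτ S.h2 S.h3) ha
    · exact lf_LL_of_isR S r4 D.sq4 (R.t4 hτ S.h2 S.h3) ha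
    · exact lf_LL_of_isR S r5 D.sq5 (R.t5 hτ S.h2 S.h3) ha
    · exact lf_LL_of_isR S r8 D.sq8 (R.t8 hτ S.h2 S.h3) ha
    · exact lf_LL_of_isR S r6 D.sq6 (R.t6 hτ S.h2 S.h3) ha
  | one =>
    intro a ha
    rcases S.lf_one ha with h | h
    · rw [h]; exact one_mem _
    · rw [h]; exact neg_one_LL
  | mul y z _ _ ihy ihz =>
    intro a ha
    obtain ⟨b, hb⟩ := S.exists_lf y
    obtain ⟨c, hc⟩ := S.exists_lf z
    have h1 := mul_mem (ihy hb) (ihz hc)
    rcases S.lf_uniq (hb.mul hc) ha with h2 | h2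
    · rw [h2]; exact h1
    · rw [h2, ← neg_one_mul]; exact mul_mem neg_one_LL h1
  | inv y _ ih =>
    intro a ha
    have h1 := ha.inv
    rw [inv_inv] at h1
    have h2 := inv_mem (ih h1)
    rwa [inv_inv] at h2

omit E R hτ r1 r2 r4 r5 r6 r8 in
theorem isR_of_ind {φ : MulAut G} {k : GL (Fin 3 ⊕ Fin 3) F} (hk : k ∈ spGL 3 F)
    (hind : ∀ {a : GL (Fin 3 ⊕ Fin 3) F} {x : G}, Lf θ a x → Lf θ (k * a * k⁻¹) (φ x)) {e : M6 F} {x : G}
    (h : IsR θ e x) : IsR θ ((k : M6 F) * e * ((k⁻¹ : GL (Fin 3 ⊕ Fin 3) F) : M6 F)) (φ x) := by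
  obtain ⟨he, a, ha, hae⟩ := h
  have h1 : ((k⁻¹ : GL (Fin 3 ⊕ Fin 3) F) : M6 F) * (k : M6 F) = 1 := by
    rw [← Units.val_mul, inv_mul_cancel, Units.val_one]
  have h2 : (k : M6 F) * ((k⁻¹ : GL (Fin 3 ⊕ Fin 3) F) : M6 F) = 1 := by
    rw [← Units.val_mul, mul_inv_cancel, Units.val_one]
  have h3 : sa (k : M6 F) = ((k⁻¹ : GL (Fin 3 ⊕ Fin 3) F) : M6 F) := by
    calc sa (k : M6 F) = sa (k : M6 F) * (k : M6 F) * ((k⁻¹ : GL (Fin 3 ⊕ Fin 3) F) : M6 F) := by
          rw [mul_assoc, h2, mul_one]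
      _ = _ := by rw [sa_mul_self hk, one_mul]
  refine ⟨he.conj h1 h3, k * a * k⁻¹, hind ha, ?_⟩
  rw [Units.val_mul, Units.val_mul, hae]
  unfold rr
  linear_combination (norm := noncomm_ring) h2

omit hτ in
include r3 in
/-- no element of `Sp` induces the outer automorphism -/
theorem no_outer (h3' : ¬ ∃ c : F, c * c = 3) {k : GL (Fin 3 ⊕ Fin 3) F} (hk : k ∈ spGL 3 F)
    (hind : ∀ {a : GL (Fin 3 ⊕ Fin 3) F} {x : G}, Lf θ a x → Lf θ (k * a * k⁻¹) (E.φ x)) : False := by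
  have h1 : ((k⁻¹ : GL (Fin 3 ⊕ Fin 3) F) : M6 F) * (k : M6 F) = 1 := by
    rw [← Units.val_mul, inv_mul_cancel, Units.val_one]
  have h2 : (k : M6 F) * ((k⁻¹ : GL (Fin 3 ⊕ Fin 3) F) : M6 F) = 1 := by
    rw [← Units.val_mul, mul_inv_cancel, Units.val_one]
  have h3 : sa (k : M6 F) = ((k⁻¹ : GL (Fin 3 ⊕ Fin 3) F) : M6 F) := by
    calc sa (k : M6 F) = sa (k : M6 F) * (k : M6 F) * ((k⁻¹ : GL (Fin 3 ⊕ Fin 3) F) : M6 F) := by
          rw [mul_assoc, h2, mul_one]
      _ = _ := by rw [sa_mul_self hk, one_mul]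
  have key : ∀ {e f : M6 F} {x y : G}, IsR θ e x → IsR θ f y → E.φ x = y → (k : M6 F) * e = f * k := by
    intro e f x y he hf hxy
    have h4 := isR_of_ind S hk hind he
    rw [hxy] at h4
    have h5 := S.isR_uniq h4 hf
    rw [← h5, mul_assoc _ _ (k : M6 F), h1, mul_one]
  obtain ⟨a3, l3, m3, n3, -⟩ := RH.isR_inv r3 D.sq3 S
  obtain ⟨a4, l4, m4, n4, -⟩ := RH.isR_inv r4 D.sq4 S
  obtain ⟨a8, l8, m8, n8, -⟩ := RH.isR_inv r8 D.sq8 S
  have i3 : D.g3⁻¹ = D.g3 := inv_eq_of_mul_eq_one_left D.sq3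
  have i4 : D.g4⁻¹ = D.g4 := inv_eq_of_mul_eq_one_left D.sq4
  have i8 : D.g8⁻¹ = D.g8 := inv_eq_of_mul_eq_one_left D.sq8
  have r383 := S.isR_conj r8 l3
  rw [m3, n3, i3] at r383
  have r6' := S.isR_conj (S.isR_conj (S.isR_conj r6 l3) l8) l4
  rw [m3, n3, m4, n4, m8, n8, i3, i4, i8] at r6'
  obtain ⟨c, hc⟩ := R.outer r2.1 S.h2 S.h3 h2 h1 h3 (key r1 r1 E.f1) (key r2 r2 E.f2) (key r3 r3 E.f3)
    (key r4 r4 E.f4) (key r5 r5 E.f5) (key r8 r383 E.f8) (by
      rw [key r6 r6' (by rw [E.f6]; group)]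
      noncomm_ring)
  exact h3' ⟨c, hc⟩

end lifts

/-- **the contradiction** -/
theorem close [Fintype F] (S : Hyp 3 H P) (e : Soc P ≃* G) {D : GD G} (E : GF D) (hF : 5 ≤ Fintype.card F)
    (h2 : (2 : F) ≠ 0) (h3 : (3 : F) ≠ 0) {τ : F} (hτ : τ * τ = τ + 1) (h3' : ¬ ∃ c : F, c * c = 3) : False := by
  set θ : P →* G := e.toMonoidHom.comp (toSoc P) with hθ
  have hker : ∀ b : P, θ b = 1 ↔ (b : GL (Fin 3 ⊕ Fin 3) F) ∈ scalars (Fin 3 ⊕ Fin 3) F := by
    intro b
    rw [← MonoidHom.mem_ker, hθ, ker_comp, Subgroup.mem_subgroupOf]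
  have T : RH P θ := by
    refine ⟨S.P_le, e.surjective.comp (toSoc_surjective P), ?_, ?_, h2, h3⟩
    · intro b hb
      exact scalar_cases (by norm_num) (S.P_le b.2) ((hker b).1 hb)
    · intro b hb
      rw [hker, hb, mem_scalars_iff]
      exact ⟨-1, by rw [Units.val_neg, Units.val_one, Units.val_neg, Units.val_one, neg_smul, one_smul]⟩
  obtain ⟨e1, e2, e3, e4, e5, e6, e8, ⟨r1, r2, r3⟩, ⟨r4, r5⟩, ⟨r6, r8⟩, R⟩ := T.exists_rels D
  -- elements of `H` are `± P`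
  have hHP : ∀ h ∈ H, ∃ x, Lf θ h x := by
    intro h hh
    have hn := Nrm.of_core S.core hh
    obtain ⟨α, hα⟩ := hn.exists_aut e
    have hlf : ∀ {a : GL (Fin 3 ⊕ Fin 3) F} {x : G}, Lf θ a x → Lf θ (h * a * h⁻¹) (α x) := by
      rintro a x ⟨b, hb, hab⟩
      refine ⟨hn.conj b, ?_, ?_⟩
      · change e (toSoc P (hn.conj b)) = α x
        rw [hα, ← hb]
        rfl
      · rw [Nrm.conj_coe]
        rcases hab with rfl | rfl
        · exact Or.inl rfl
        · exact Or.inr (by rw [mul_neg, neg_mul])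
    obtain ⟨g, hg⟩ := E.aut α
    obtain ⟨b, hb⟩ := T.surj g
    rcases hg with hg | hg
    · have hbn := Nrm.of_mem b.2
      obtain ⟨c, hc⟩ := scalar_of_eq S.toCore e hn hbn hα (fun x => by
        have h4 : e (toSoc P (hbn.conj x)) = θ (hbn.conj x) := rfl
        have h5 : hbn.conj x = b * x * b⁻¹ := Subtype.ext rfl
        rw [h4, h5, map_mul, map_mul, map_inv, hb, hg]
        rfl)
      have hsc : (b : GL (Fin 3 ⊕ Fin 3) F)⁻¹ * h ∈ scalars (Fin 3 ⊕ Fin 3) F := by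
        rw [mem_scalars_iff]
        have h6 : (((b : GL (Fin 3 ⊕ Fin 3) F)⁻¹ * h : GL (Fin 3 ⊕ Fin 3) F) : M6 F) = c • (1 : M6 F) := by
          rw [Units.val_mul, hc, Matrix.mul_smul, ← Units.val_mul, inv_mul_cancel, Units.val_one]
        have hc0 : c ≠ 0 := by
          rintro rfl
          rw [zero_smul] at h6
          have h7 := (((b : GL (Fin 3 ⊕ Fin 3) F)⁻¹ * h : GL (Fin 3 ⊕ Fin 3) F)).isUnit
          rw [h6] at h7
          exact not_isUnit_zero h7
        exact ⟨Units.mk0 c hc0, h6⟩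
      have h8 := scalar_cases (by norm_num) (mul_mem (inv_mem (S.P_le b.2)) (S.H_le hh)) hsc
      refine ⟨g, b, hb, ?_⟩
      rcases h8 with h8 | h8
      · exact Or.inl (inv_mul_eq_one.1 h8).symm
      · right
        rw [inv_mul_eq_iff_eq_mul] at h8
        rw [h8, mul_neg, mul_one]
    · exfalso
      have hbl : Lf θ (b : GL (Fin 3 ⊕ Fin 3) F) g := ⟨b, hb, Or.inl rfl⟩
      refine no_outer T E R r1 r2 r3 r4 r5 r6 r8 h3' (k := (b : GL (Fin 3 ⊕ Fin 3) F)⁻¹ * h)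
        (mul_mem (inv_mem (S.P_le b.2)) (S.H_le hh)) ?_
      intro a x hax
      have h4 := (hlf hax).conj hbl.inv
      have h5 : (b : GL (Fin 3 ⊕ Fin 3) F)⁻¹ * (h * a * h⁻¹) * (b : GL (Fin 3 ⊕ Fin 3) F)⁻¹⁻¹ =
          (b : GL (Fin 3 ⊕ Fin 3) F)⁻¹ * h * a * ((b : GL (Fin 3 ⊕ Fin 3) F)⁻¹ * h)⁻¹ := by group
      have h6 : g⁻¹ * α x * g⁻¹⁻¹ = E.φ x := by
        rw [hg, MulAut.mul_apply, MulAut.conj_apply]
        group
      rw [h5, h6] at h4
      exact h4
  -- `H` is in the group of the root lines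
  have hHL : H ≤ LL τ e1 e2 e3 e4 e5 e6 e8 := by
    intro h hh
    obtain ⟨x, hx⟩ := hHP h hh
    exact lf_LL T E R hτ r1 r2 r4 r5 r6 r8 x hx
  have hlt : H < LL τ e1 e2 e3 e4 e5 e6 e8 := by
    refine lt_of_le_of_ne hHL ?_
    intro heq
    have h0 := R.ex0_mem hτ h2 h3
    rw [← heq] at h0
    obtain ⟨y, hy⟩ := hHP _ h0
    obtain ⟨a2, l2, m2, -, -⟩ := RH.isR_inv r2 D.sq2 T
    have h5 : (mkR (ex0 τ e1 e2 e3 e4 e5 e6 e8) (R.ex0_sq hτ h2 h3) * a2) ^ 5 = 1 := by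
      apply Units.ext
      rw [Units.val_pow_eq_pow_val, Units.val_mul, m2, Units.val_one]
      exact R.ex0_five hτ h2 h3
    have h6 := (hy.mul l2).pow 5
    rw [h5] at h6
    have h7 := E.cop _ (T.lf_eq_one h6)
    have h8 := hy.mul l2
    rw [h7] at h8
    rcases T.lf_one h8 with h9 | h9
    · apply R.ex0_ne hτ h2 h3 r2.1.ne_zero
      have h10 : (mkR (ex0 τ e1 e2 e3 e4 e5 e6 e8) (R.ex0_sq hτ h2 h3) : M6 F) = rr e2 := by
        have h11 : a2 * a2 = 1 := Units.ext (by rw [Units.val_mul, m2, r2.1.rr_rr, Units.val_one])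
        have h12 : mkR (ex0 τ e1 e2 e3 e4 e5 e6 e8) (R.ex0_sq hτ h2 h3) = a2 := by
          calc mkR (ex0 τ e1 e2 e3 e4 e5 e6 e8) (R.ex0_sq hτ h2 h3) =
              mkR (ex0 τ e1 e2 e3 e4 e5 e6 e8) (R.ex0_sq hτ h2 h3) * a2 * a2 := by rw [mul_assoc, h11, mul_one]
            _ = a2 := by rw [h9, one_mul]
        rw [h12, m2]
      change rr (ex0 τ e1 e2 e3 e4 e5 e6 e8) = rr e2 at h10
      apply smul_right_injective _ h2
      simp only
      rw [← two_mul_eq, ← two_mul_eq]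
      unfold rr at h10
      linear_combination (norm := noncomm_ring) -h10
    · rw [h9] at h5
      have h10 : (-1 : GL (Fin 3 ⊕ Fin 3) F) ^ 5 = -1 := by
        rw [Odd.neg_pow (by decide), one_pow]
      rw [h10] at h5
      exact T.one_ne h5.symm
  exact S.false_of_lt hlt (R.LL_lt hF r1.1 r2.1)

end Cfsg.Agent.H476.JTwo
end

-- part: H476/JTwo/Grp
section
/-!
# Reflections in `SU₃(3)` (helper476, for S5806)
-/

set_option autoImplicit false
set_option linter.unusedSimpArgs false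

namespace Cfsg.Agent.H476.JTwo.Grp

open Matrix Subgroup Cfsg
open Cfsg.Agent.Classification.RTwo.UThreeThree (K9 card_k9 card_k9' IsGood psuEquiv center_SU)
open Cfsg.Agent.OddHalf.Small.U33
open Cfsg.Agent.OddHalf.D4.Small.KU33

def m2 : Matrix (Fin 3) (Fin 3) K9 := !![-1, 0, 0; 0, 1, 0; 0, 0, -1]
def m3 : Matrix (Fin 3) (Fin 3) K9 := !![-1, 0, 0; 0, -1, 0; 0, 0, 1]
def m4 : Matrix (Fin 3) (Fin 3) K9 := !![-1, 0, 0; 0, 0, 1; 0, 1, 0]
def m5 : Matrix (Fin 3) (Fin 3) K9 := !![0, 1, 0; 1, 0, 0; 0, 0, -1]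
def m8 : Matrix (Fin 3) (Fin 3) K9 := !![-1, 0, 0; 0, 0, ⟨0, 2⟩; 0, ⟨0, 1⟩, 0]
def m6 : Matrix (Fin 3) (Fin 3) K9 := !![0, ⟨1, 1⟩, ⟨1, 1⟩; ⟨1, 2⟩, 1, -1; ⟨1, 2⟩, -1, 1]
def mA : Matrix (Fin 3) (Fin 3) K9 := !![-1, 0, 0; 0, ⟨0, 1⟩, 0; 0, 0, ⟨0, 1⟩]
def mB : Matrix (Fin 3) (Fin 3) K9 := !![⟨0, 1⟩, 0, 0; 0, -1, 0; 0, 0, ⟨0, 1⟩]

theorem h2 : IsGood m2 := by decide +kernel
theorem h3 : IsGood m3 := by decide +kernel
theorem h4 : IsGood m4 := by decide +kernel
theorem h5 : IsGood m5 := by decide +kernel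
theorem h8 : IsGood m8 := by decide +kernel
theorem h6 : IsGood m6 := by decide +kernel
theorem hA : IsGood mA := by decide +kernel
theorem hB : IsGood mB := by decide +kernel

def g1 : SU33 := t0
def g2 : SU33 := h2.su
def g3 : SU33 := h3.su
def g4 : SU33 := h4.su
def g5 : SU33 := h5.su
def g6 : SU33 := h6.su
def g8 : SU33 := h8.su
def gA : SU33 := hA.su
def gB : SU33 := hB.su

theorem mt1 : _root_.Cfsg.Agent.OddHalf.Small.U33.mt g1 = dg := rfl
theorem mt2 : _root_.Cfsg.Agent.OddHalf.Small.U33.mt g2 = m2 := rfl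
theorem mt3 : _root_.Cfsg.Agent.OddHalf.Small.U33.mt g3 = m3 := rfl
theorem mt4 : _root_.Cfsg.Agent.OddHalf.Small.U33.mt g4 = m4 := rfl
theorem mt5 : _root_.Cfsg.Agent.OddHalf.Small.U33.mt g5 = m5 := rfl
theorem mt6 : _root_.Cfsg.Agent.OddHalf.Small.U33.mt g6 = m6 := rfl
theorem mt8 : _root_.Cfsg.Agent.OddHalf.Small.U33.mt g8 = m8 := rfl
theorem mtA : _root_.Cfsg.Agent.OddHalf.Small.U33.mt gA = mA := rfl
theorem mtB : _root_.Cfsg.Agent.OddHalf.Small.U33.mt gB = mB := rfl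

theorem sq1 : g1 * g1 = 1 := by
  apply mt_ext; simp only [mt_mul, mt_one, mt1, mt2, mt3, mt4, mt5, mt6, mt8, mtA, mtB]; decide +kernel
theorem sq2 : g2 * g2 = 1 := by
  apply mt_ext; simp only [mt_mul, mt_one, mt1, mt2, mt3, mt4, mt5, mt6, mt8, mtA, mtB]; decide +kernel
theorem sq3 : g3 * g3 = 1 := by
  apply mt_ext; simp only [mt_mul, mt_one, mt1, mt2, mt3, mt4, mt5, mt6, mt8, mtA, mtB]; decide +kernel
theorem sq4 : g4 * g4 = 1 := by
  apply mt_ext; simp only [mt_mul, mt_one, mt1, mt2, mt3, mt4, mt5, mt6, mt8, mtA, mtB]; decide +kernel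
theorem sq5 : g5 * g5 = 1 := by
  apply mt_ext; simp only [mt_mul, mt_one, mt1, mt2, mt3, mt4, mt5, mt6, mt8, mtA, mtB]; decide +kernel
theorem sq6 : g6 * g6 = 1 := by
  apply mt_ext; simp only [mt_mul, mt_one, mt1, mt2, mt3, mt4, mt5, mt6, mt8, mtA, mtB]; decide +kernel
theorem sq8 : g8 * g8 = 1 := by
  apply mt_ext; simp only [mt_mul, mt_one, mt1, mt2, mt3, mt4, mt5, mt6, mt8, mtA, mtB]; decide +kernel
theorem sqA : gA * gA = g1 := by
  apply mt_ext; simp only [mt_mul, mt_one, mt1, mt2, mt3, mt4, mt5, mt6, mt8, mtA, mtB]; decide +kernel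
theorem sqB : gB * gB = g2 := by
  apply mt_ext; simp only [mt_mul, mt_one, mt1, mt2, mt3, mt4, mt5, mt6, mt8, mtA, mtB]; decide +kernel
theorem cAB : gA * gB = gB * gA := by
  apply mt_ext; simp only [mt_mul, mt_one, mt1, mt2, mt3, mt4, mt5, mt6, mt8, mtA, mtB]; decide +kernel
theorem c12 : g1 * g2 = g2 * g1 := by
  apply mt_ext; simp only [mt_mul, mt_one, mt1, mt2, mt3, mt4, mt5, mt6, mt8, mtA, mtB]; decide +kernel
theorem p12 : g1 * g2 = g3 := by
  apply mt_ext; simp only [mt_mul, mt_one, mt1, mt2, mt3, mt4, mt5, mt6, mt8, mtA, mtB]; decide +kernel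
theorem c14 : g1 * g4 = g4 * g1 := by
  apply mt_ext; simp only [mt_mul, mt_one, mt1, mt2, mt3, mt4, mt5, mt6, mt8, mtA, mtB]; decide +kernel
theorem c35 : g3 * g5 = g5 * g3 := by
  apply mt_ext; simp only [mt_mul, mt_one, mt1, mt2, mt3, mt4, mt5, mt6, mt8, mtA, mtB]; decide +kernel
theorem c18 : g1 * g8 = g8 * g1 := by
  apply mt_ext; simp only [mt_mul, mt_one, mt1, mt2, mt3, mt4, mt5, mt6, mt8, mtA, mtB]; decide +kernel
private noncomputable def _root_.Cfsg.Agent.LsF.f7504ed_0 : {f // @Cfsg.Agent.H476.JTwo.Grp.m3 = f} := ⟨_, by first | (delta Cfsg.Agent.H476.JTwo.Grp.m3; rewrite [Cfsg.Agent.LsF.mof_pat, Cfsg.Agent.LsF.vecCons_eq]; exact rfl) | exact rfl⟩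
private noncomputable def _root_.Cfsg.Agent.LsF.f7504ed_1 : {f // @Cfsg.Agent.H476.JTwo.Grp.m4 = f} := ⟨_, by first | (delta Cfsg.Agent.H476.JTwo.Grp.m4; rewrite [Cfsg.Agent.LsF.mof_pat, Cfsg.Agent.LsF.vecCons_eq]; exact rfl) | exact rfl⟩
private noncomputable def _root_.Cfsg.Agent.LsF.f7504ed_2 : {f // @Cfsg.Agent.H476.JTwo.Grp.m6 = f} := ⟨_, by first | (delta Cfsg.Agent.H476.JTwo.Grp.m6; rewrite [Cfsg.Agent.LsF.mof_pat, Cfsg.Agent.LsF.vecCons_eq]; exact rfl) | exact rfl⟩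
theorem c3436 : g3 * g4 * g3 * g6 = g6 * g3 * g4 * g3 := by
  apply mt_ext; simp only [mt_mul, mt_one, mt1, mt2, mt3, mt4, mt5, mt6, mt8, mtA, mtB]; (refine of_decide_eq_true ?_; (try (rewrite [Cfsg.Agent.LsF.mmulF_pat, Cfsg.Agent.LsF.f7504ed_0.2, Cfsg.Agent.LsF.f7504ed_1.2, Cfsg.Agent.LsF.f7504ed_2.2, Cfsg.Agent.LsF.zdecEq_eq, Cfsg.Agent.LsF.finFintype_eq, Cfsg.Agent.LsF.dMat_eq, Cfsg.Agent.LsF.instZAdd_pat, Cfsg.Agent.LsF.instZMul_pat, Cfsg.Agent.LsF.zACM_pat, Cfsg.Agent.LsF.decide_eq])); decide +kernel)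
theorem k12 : g5 * g1 * g5 = g2 := by
  apply mt_ext; simp only [mt_mul, mt_one, mt1, mt2, mt3, mt4, mt5, mt6, mt8, mtA, mtB]; decide +kernel
theorem k23 : g4 * g2 * g4 = g3 := by
  apply mt_ext; simp only [mt_mul, mt_one, mt1, mt2, mt3, mt4, mt5, mt6, mt8, mtA, mtB]; decide +kernel
private noncomputable def _root_.Cfsg.Agent.LsF.f7504ed_3 : {f // @Cfsg.Agent.H476.JTwo.Grp.m2 = f} := ⟨_, by first | (delta Cfsg.Agent.H476.JTwo.Grp.m2; rewrite [Cfsg.Agent.LsF.mof_pat, Cfsg.Agent.LsF.vecCons_eq]; exact rfl) | exact rfl⟩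
theorem o24 : g2 * g4 * g2 * g4 * g2 * g4 * g2 * g4 = 1 := by
  apply mt_ext; simp only [mt_mul, mt_one, mt1, mt2, mt3, mt4, mt5, mt6, mt8, mtA, mtB]; (refine of_decide_eq_true ?_; (try (rewrite [Cfsg.Agent.LsF.mmulF_pat, Cfsg.Agent.LsF.f7504ed_3.2, Cfsg.Agent.LsF.f7504ed_1.2, Cfsg.Agent.LsF.zdecEq_eq, Cfsg.Agent.LsF.finFintype_eq, Cfsg.Agent.LsF.dMat_eq, Cfsg.Agent.LsF.instMOne_eq, Cfsg.Agent.LsF.instZAdd_pat, Cfsg.Agent.LsF.instZMul_pat, Cfsg.Agent.LsF.zACM_pat, Cfsg.Agent.LsF.dFinEq_eq, Cfsg.Agent.LsF.decide_eq])); decide +kernel)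
theorem o34 : g3 * g4 * g3 * g4 * g3 * g4 * g3 * g4 = 1 := by
  apply mt_ext; simp only [mt_mul, mt_one, mt1, mt2, mt3, mt4, mt5, mt6, mt8, mtA, mtB]; decide +kernel
private noncomputable def _root_.Cfsg.Agent.LsF.f7504ed_4 : {f // @Cfsg.Agent.H476.JTwo.Grp.m5 = f} := ⟨_, by first | (delta Cfsg.Agent.H476.JTwo.Grp.m5; rewrite [Cfsg.Agent.LsF.mof_pat, Cfsg.Agent.LsF.vecCons_eq]; exact rfl) | exact rfl⟩
theorem o25 : g2 * g5 * g2 * g5 * g2 * g5 * g2 * g5 = 1 := by
  apply mt_ext; simp only [mt_mul, mt_one, mt1, mt2, mt3, mt4, mt5, mt6, mt8, mtA, mtB]; (refine of_decide_eq_true ?_; (try (rewrite [Cfsg.Agent.LsF.mmulF_pat, Cfsg.Agent.LsF.f7504ed_3.2, Cfsg.Agent.LsF.f7504ed_4.2, Cfsg.Agent.LsF.zdecEq_eq, Cfsg.Agent.LsF.finFintype_eq, Cfsg.Agent.LsF.dMat_eq, Cfsg.Agent.LsF.instMOne_eq, Cfsg.Agent.LsF.instZAdd_pat, Cfsg.Agent.LsF.instZMul_pat, Cfsg.Agent.LsF.zACM_pat, Cfsg.Agent.LsF.dFinEq_eq, Cfsg.Agent.LsF.decide_eq])); decide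 +kernel)
private noncomputable def _root_.Cfsg.Agent.LsF.f7504ed_5 : {f // @Cfsg.Agent.OddHalf.Small.U33.dg = f} := ⟨_, by first | (delta Cfsg.Agent.OddHalf.Small.U33.dg; rewrite [Cfsg.Agent.LsF.mof_pat, Cfsg.Agent.LsF.vecCons_eq]; exact rfl) | exact rfl⟩
theorem o15 : g1 * g5 * g1 * g5 * g1 * g5 * g1 * g5 = 1 := by
  apply mt_ext; simp only [mt_mul, mt_one, mt1, mt2, mt3, mt4, mt5, mt6, mt8, mtA, mtB]; (refine of_decide_eq_true ?_; (try (rewrite [Cfsg.Agent.LsF.mmulF_pat, Cfsg.Agent.LsF.f7504ed_5.2, Cfsg.Agent.LsF.f7504ed_4.2, Cfsg.Agent.LsF.zdecEq_eq, Cfsg.Agent.LsF.finFintype_eq, Cfsg.Agent.LsF.dMat_eq, Cfsg.Agent.LsF.instMOne_eq, Cfsg.Agent.LsF.instZAdd_pat, Cfsg.Agent.LsF.instZMul_pat, Cfsg.Agent.LsF.zACM_pat, Cfsg.Agent.LsF.dFinEq_eq, Cfsg.Agent.LsF.decide_eq])); decide +kernel)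
private noncomputable def _root_.Cfsg.Agent.LsF.f7504ed_6 : {f // @Cfsg.Agent.H476.JTwo.Grp.m8 = f} := ⟨_, by first | (delta Cfsg.Agent.H476.JTwo.Grp.m8; rewrite [Cfsg.Agent.LsF.mof_pat, Cfsg.Agent.LsF.vecCons_eq]; exact rfl) | exact rfl⟩
theorem o28 : g2 * g8 * g2 * g8 * g2 * g8 * g2 * g8 = 1 := by
  apply mt_ext; simp only [mt_mul, mt_one, mt1, mt2, mt3, mt4, mt5, mt6, mt8, mtA, mtB]; (refine of_decide_eq_true ?_; (try (rewrite [Cfsg.Agent.LsF.mmulF_pat, Cfsg.Agent.LsF.f7504ed_3.2, Cfsg.Agent.LsF.f7504ed_6.2, Cfsg.Agent.LsF.zdecEq_eq, Cfsg.Agent.LsF.finFintype_eq, Cfsg.Agent.LsF.dMat_eq, Cfsg.Agent.LsF.instMOne_eq, Cfsg.Agent.LsF.instZAdd_pat, Cfsg.Agent.LsF.instZMul_pat, Cfsg.Agent.LsF.zACM_pat, Cfsg.Agent.LsF.dFinEq_eq, Cfsg.Agent.LsF.decide_eq])); decide +kernel)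
theorem o38 : g3 * g8 * g3 * g8 * g3 * g8 * g3 * g8 = 1 := by
  apply mt_ext; simp only [mt_mul, mt_one, mt1, mt2, mt3, mt4, mt5, mt6, mt8, mtA, mtB]; (refine of_decide_eq_true ?_; (try (rewrite [Cfsg.Agent.LsF.mmulF_pat, Cfsg.Agent.LsF.f7504ed_0.2, Cfsg.Agent.LsF.f7504ed_6.2, Cfsg.Agent.LsF.zdecEq_eq, Cfsg.Agent.LsF.finFintype_eq, Cfsg.Agent.LsF.dMat_eq, Cfsg.Agent.LsF.instMOne_eq, Cfsg.Agent.LsF.instZAdd_pat, Cfsg.Agent.LsF.instZMul_pat, Cfsg.Agent.LsF.zACM_pat, Cfsg.Agent.LsF.dFinEq_eq, Cfsg.Agent.LsF.decide_eq])); decide +kernel)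
theorem o48 : g4 * g8 * g4 * g8 * g4 * g8 * g4 * g8 = 1 := by
  apply mt_ext; simp only [mt_mul, mt_one, mt1, mt2, mt3, mt4, mt5, mt6, mt8, mtA, mtB]; (refine of_decide_eq_true ?_; (try (rewrite [Cfsg.Agent.LsF.mmulF_pat, Cfsg.Agent.LsF.f7504ed_1.2, Cfsg.Agent.LsF.f7504ed_6.2, Cfsg.Agent.LsF.zdecEq_eq, Cfsg.Agent.LsF.finFintype_eq, Cfsg.Agent.LsF.dMat_eq, Cfsg.Agent.LsF.instMOne_eq, Cfsg.Agent.LsF.instZAdd_pat, Cfsg.Agent.LsF.instZMul_pat, Cfsg.Agent.LsF.zACM_pat, Cfsg.Agent.LsF.dFinEq_eq, Cfsg.Agent.LsF.decide_eq])); decide +kernel)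
theorem o16 : g1 * g6 * g1 * g6 * g1 * g6 * g1 * g6 = 1 := by
  apply mt_ext; simp only [mt_mul, mt_one, mt1, mt2, mt3, mt4, mt5, mt6, mt8, mtA, mtB]; (refine of_decide_eq_true ?_; (try (rewrite [Cfsg.Agent.LsF.mmulF_pat, Cfsg.Agent.LsF.f7504ed_5.2, Cfsg.Agent.LsF.f7504ed_2.2, Cfsg.Agent.LsF.zdecEq_eq, Cfsg.Agent.LsF.finFintype_eq, Cfsg.Agent.LsF.dMat_eq, Cfsg.Agent.LsF.instMOne_eq, Cfsg.Agent.LsF.instZAdd_pat, Cfsg.Agent.LsF.instZMul_pat, Cfsg.Agent.LsF.zACM_pat, Cfsg.Agent.LsF.dFinEq_eq, Cfsg.Agent.LsF.decide_eq])); decide +kernel)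
theorem o56 : g5 * g6 * g5 * g6 * g5 * g6 * g5 * g6 = 1 := by
  apply mt_ext; simp only [mt_mul, mt_one, mt1, mt2, mt3, mt4, mt5, mt6, mt8, mtA, mtB]; (refine of_decide_eq_true ?_; (try (rewrite [Cfsg.Agent.LsF.mmulF_pat, Cfsg.Agent.LsF.f7504ed_4.2, Cfsg.Agent.LsF.f7504ed_2.2, Cfsg.Agent.LsF.zdecEq_eq, Cfsg.Agent.LsF.finFintype_eq, Cfsg.Agent.LsF.dMat_eq, Cfsg.Agent.LsF.instMOne_eq, Cfsg.Agent.LsF.instZAdd_pat, Cfsg.Agent.LsF.instZMul_pat, Cfsg.Agent.LsF.zACM_pat, Cfsg.Agent.LsF.dFinEq_eq, Cfsg.Agent.LsF.decide_eq])); decide +kernel)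
theorem o26 : g2 * g6 * g2 * g6 * g2 * g6 = 1 := by
  apply mt_ext; simp only [mt_mul, mt_one, mt1, mt2, mt3, mt4, mt5, mt6, mt8, mtA, mtB]; (refine of_decide_eq_true ?_; (try (rewrite [Cfsg.Agent.LsF.mmulF_pat, Cfsg.Agent.LsF.f7504ed_3.2, Cfsg.Agent.LsF.f7504ed_2.2, Cfsg.Agent.LsF.zdecEq_eq, Cfsg.Agent.LsF.finFintype_eq, Cfsg.Agent.LsF.dMat_eq, Cfsg.Agent.LsF.instMOne_eq, Cfsg.Agent.LsF.instZAdd_pat, Cfsg.Agent.LsF.instZMul_pat, Cfsg.Agent.LsF.zACM_pat, Cfsg.Agent.LsF.dFinEq_eq, Cfsg.Agent.LsF.decide_eq])); decide +kernel)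
theorem o68 : g6 * g8 * g6 * g8 * g6 * g8 = 1 := by
  apply mt_ext; simp only [mt_mul, mt_one, mt1, mt2, mt3, mt4, mt5, mt6, mt8, mtA, mtB]; decide +kernel
theorem o85 : g8 * g5 * g8 * g5 * g8 * g5 = 1 := by
  apply mt_ext; simp only [mt_mul, mt_one, mt1, mt2, mt3, mt4, mt5, mt6, mt8, mtA, mtB]; decide +kernel
theorem o54 : g5 * g4 * g5 * g4 * g5 * g4 = 1 := by
  apply mt_ext; simp only [mt_mul, mt_one, mt1, mt2, mt3, mt4, mt5, mt6, mt8, mtA, mtB]; decide +kernel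
theorem o96 : g8 * g3 * g4 * g5 * g4 * g3 * g8 * g6 * g8 * g3 * g4 * g5 * g4 * g3 * g8 * g6 * g8 * g3 * g4 * g5 * g4 * g3 * g8 * g6 = 1 := by
  apply mt_ext; simp only [mt_mul, mt_one, mt1, mt2, mt3, mt4, mt5, mt6, mt8, mtA, mtB]; (refine of_decide_eq_true ?_; (try (rewrite [Cfsg.Agent.LsF.mmulF_pat, Cfsg.Agent.LsF.f7504ed_6.2, Cfsg.Agent.LsF.f7504ed_0.2, Cfsg.Agent.LsF.f7504ed_1.2, Cfsg.Agent.LsF.f7504ed_4.2, Cfsg.Agent.LsF.f7504ed_2.2, Cfsg.Agent.LsF.zdecEq_eq, Cfsg.Agent.LsF.finFintype_eq, Cfsg.Agent.LsF.dMat_eq, Cfsg.Agent.LsF.instMOne_eq, Cfsg.Agent.LsF.instZAdd_pat, Cfsg.Agent.LsF.instZMul_pat, Cfsg.Agent.LsF.zACM_pat, Cfsg.Agent.LsF.dFinEq_eq, Cfsg.Agent.LsF.decide_eq])); decide +kernel)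
theorem n12 : g1 ≠ g2 := by
  intro h; have h' := congrArg Cfsg.Agent.OddHalf.Small.U33.mt h; revert h'; simp only [mt_mul, mt_one, mt1, mt2, mt3, mt4, mt5, mt6, mt8, mtA, mtB]; decide +kernel
theorem n14 : g1 ≠ g4 := by
  intro h; have h' := congrArg Cfsg.Agent.OddHalf.Small.U33.mt h; revert h'; simp only [mt_mul, mt_one, mt1, mt2, mt3, mt4, mt5, mt6, mt8, mtA, mtB]; decide +kernel
theorem n35 : g3 ≠ g5 := by
  intro h; have h' := congrArg Cfsg.Agent.OddHalf.Small.U33.mt h; revert h'; simp only [mt_mul, mt_one, mt1, mt2, mt3, mt4, mt5, mt6, mt8, mtA, mtB]; decide +kernel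
theorem n18 : g1 ≠ g8 := by
  intro h; have h' := congrArg Cfsg.Agent.OddHalf.Small.U33.mt h; revert h'; simp only [mt_mul, mt_one, mt1, mt2, mt3, mt4, mt5, mt6, mt8, mtA, mtB]; decide +kernel
theorem n3436 : g3 * g4 * g3 ≠ g6 := by
  intro h; have h' := congrArg Cfsg.Agent.OddHalf.Small.U33.mt h; revert h'; simp only [mt_mul, mt_one, mt1, mt2, mt3, mt4, mt5, mt6, mt8, mtA, mtB]; decide +kernel
theorem n26 : g2 ≠ g6 := by
  intro h; have h' := congrArg Cfsg.Agent.OddHalf.Small.U33.mt h; revert h'; simp only [mt_mul, mt_one, mt1, mt2, mt3, mt4, mt5, mt6, mt8, mtA, mtB]; decide +kernel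
theorem n96 : g8 * g3 * g4 * g5 * g4 * g3 * g8 ≠ g6 := by
  intro h; have h' := congrArg Cfsg.Agent.OddHalf.Small.U33.mt h; revert h'; simp only [mt_mul, mt_one, mt1, mt2, mt3, mt4, mt5, mt6, mt8, mtA, mtB]; decide +kernel
theorem m24 : g2 * g4 * g2 * g4 ≠ 1 := by
  intro h; have h' := congrArg Cfsg.Agent.OddHalf.Small.U33.mt h; revert h'; simp only [mt_mul, mt_one, mt1, mt2, mt3, mt4, mt5, mt6, mt8, mtA, mtB]; decide +kernel
theorem m34 : g3 * g4 * g3 * g4 ≠ 1 := by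
  intro h; have h' := congrArg Cfsg.Agent.OddHalf.Small.U33.mt h; revert h'; simp only [mt_mul, mt_one, mt1, mt2, mt3, mt4, mt5, mt6, mt8, mtA, mtB]; decide +kernel
theorem m25 : g2 * g5 * g2 * g5 ≠ 1 := by
  intro h; have h' := congrArg Cfsg.Agent.OddHalf.Small.U33.mt h; revert h'; simp only [mt_mul, mt_one, mt1, mt2, mt3, mt4, mt5, mt6, mt8, mtA, mtB]; decide +kernel
theorem m15 : g1 * g5 * g1 * g5 ≠ 1 := by
  intro h; have h' := congrArg Cfsg.Agent.OddHalf.Small.U33.mt h; revert h'; simp only [mt_mul, mt_one, mt1, mt2, mt3, mt4, mt5, mt6, mt8, mtA, mtB]; decide +kernel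
theorem m28 : g2 * g8 * g2 * g8 ≠ 1 := by
  intro h; have h' := congrArg Cfsg.Agent.OddHalf.Small.U33.mt h; revert h'; simp only [mt_mul, mt_one, mt1, mt2, mt3, mt4, mt5, mt6, mt8, mtA, mtB]; decide +kernel
theorem m38 : g3 * g8 * g3 * g8 ≠ 1 := by
  intro h; have h' := congrArg Cfsg.Agent.OddHalf.Small.U33.mt h; revert h'; simp only [mt_mul, mt_one, mt1, mt2, mt3, mt4, mt5, mt6, mt8, mtA, mtB]; decide +kernel
theorem m48 : g4 * g8 * g4 * g8 ≠ 1 := by
  intro h; have h' := congrArg Cfsg.Agent.OddHalf.Small.U33.mt h; revert h'; simp only [mt_mul, mt_one, mt1, mt2, mt3, mt4, mt5, mt6, mt8, mtA, mtB]; decide +kernel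
theorem m16 : g1 * g6 * g1 * g6 ≠ 1 := by
  intro h; have h' := congrArg Cfsg.Agent.OddHalf.Small.U33.mt h; revert h'; simp only [mt_mul, mt_one, mt1, mt2, mt3, mt4, mt5, mt6, mt8, mtA, mtB]; decide +kernel
theorem m56 : g5 * g6 * g5 * g6 ≠ 1 := by
  intro h; have h' := congrArg Cfsg.Agent.OddHalf.Small.U33.mt h; revert h'; simp only [mt_mul, mt_one, mt1, mt2, mt3, mt4, mt5, mt6, mt8, mtA, mtB]; decide +kernel
theorem ne1 : g1 ≠ 1 := by
  intro h; have h' := congrArg Cfsg.Agent.OddHalf.Small.U33.mt h; revert h'; simp only [mt_mul, mt_one, mt1, mt2, mt3, mt4, mt5, mt6, mt8, mtA, mtB]; decide +kernel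
theorem ne2 : g2 ≠ 1 := by
  intro h; have h' := congrArg Cfsg.Agent.OddHalf.Small.U33.mt h; revert h'; simp only [mt_mul, mt_one, mt1, mt2, mt3, mt4, mt5, mt6, mt8, mtA, mtB]; decide +kernel
theorem ne3 : g3 ≠ 1 := by
  intro h; have h' := congrArg Cfsg.Agent.OddHalf.Small.U33.mt h; revert h'; simp only [mt_mul, mt_one, mt1, mt2, mt3, mt4, mt5, mt6, mt8, mtA, mtB]; decide +kernel
theorem ne4 : g4 ≠ 1 := by
  intro h; have h' := congrArg Cfsg.Agent.OddHalf.Small.U33.mt h; revert h'; simp only [mt_mul, mt_one, mt1, mt2, mt3, mt4, mt5, mt6, mt8, mtA, mtB]; decide +kernel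
theorem ne5 : g5 ≠ 1 := by
  intro h; have h' := congrArg Cfsg.Agent.OddHalf.Small.U33.mt h; revert h'; simp only [mt_mul, mt_one, mt1, mt2, mt3, mt4, mt5, mt6, mt8, mtA, mtB]; decide +kernel
theorem ne6 : g6 ≠ 1 := by
  intro h; have h' := congrArg Cfsg.Agent.OddHalf.Small.U33.mt h; revert h'; simp only [mt_mul, mt_one, mt1, mt2, mt3, mt4, mt5, mt6, mt8, mtA, mtB]; decide +kernel
theorem ne8 : g8 ≠ 1 := by
  intro h; have h' := congrArg Cfsg.Agent.OddHalf.Small.U33.mt h; revert h'; simp only [mt_mul, mt_one, mt1, mt2, mt3, mt4, mt5, mt6, mt8, mtA, mtB]; decide +kernel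

/-! ### the outer automorphism -/

open Cfsg.Agent.OddHalf.D6.RThree.U33 (φ mt_φ f aut_cases)

theorem f1 : φ g1 = g1 := by apply mt_ext; rw [mt_φ, mt1]; decide +kernel
theorem f2 : φ g2 = g2 := by apply mt_ext; rw [mt_φ, mt2]; decide +kernel
theorem f3 : φ g3 = g3 := by apply mt_ext; rw [mt_φ, mt3]; decide +kernel
theorem f4 : φ g4 = g4 := by apply mt_ext; rw [mt_φ, mt4]; decide +kernel
theorem f5 : φ g5 = g5 := by apply mt_ext; rw [mt_φ, mt5]; decide +kernel
theorem f8 : φ g8 = g3 * g8 * g3 := by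
  apply mt_ext; rw [mt_φ, mt8]; simp only [mt_mul, mt3, mt8]; decide +kernel
theorem f6 : φ g6 = g4 * g8 * g3 * g6 * (g3 * g8 * g4) := by
  apply mt_ext; rw [mt_φ, mt6]; simp only [mt_mul, mt3, mt8, mt4, mt6]; decide +kernel

theorem aut (α : MulAut SU33) : ∃ g : SU33, α = MulAut.conj g ∨ α = MulAut.conj g * φ := by
  obtain ⟨g, h | h⟩ := aut_cases α
  · exact ⟨g, Or.inl h⟩
  · refine ⟨g * gi, Or.inr ?_⟩
    rw [h, f, map_mul, mul_assoc]

/-! ### generation -/

theorem mul_dvd_card {G : Type*} [Group G] [Finite G] {K : Subgroup G} {x y : G} (hx : x ∈ K) (hy : y ∈ K)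
    (hc : x * y = y * x) {m n : ℕ} (hm : orderOf x = m) (hn : orderOf y = n)
    (hd : ∀ i : Fin m, ∀ j : Fin n, x ^ (i : ℕ) = y ^ (j : ℕ) → (i : ℕ) = 0) : m * n ∣ Nat.card K := by
  have hcomm : ∀ (a : zpowers x) (b : zpowers y), Commute ((zpowers x).subtype a) ((zpowers y).subtype b) := by
    rintro ⟨_, i, rfl⟩ ⟨_, j, rfl⟩
    exact ((show Commute x y from hc).zpow_zpow i j)
  let φ' : zpowers x × zpowers y →* G := MonoidHom.noncommCoprod (zpowers x).subtype (zpowers y).subtype hcomm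
  have hm0 : 0 < m := hm ▸ orderOf_pos x
  have hn0 : 0 < n := hn ▸ orderOf_pos y
  have hinj : Function.Injective φ' := by
    rw [MonoidHom.noncommCoprod_injective]
    refine ⟨Subtype.val_injective, Subtype.val_injective, ?_⟩
    rw [Subgroup.range_subtype, Subgroup.range_subtype, Subgroup.disjoint_def]
    intro z hz hz'
    obtain ⟨i, hi⟩ := mem_powers_iff_mem_zpowers.2 hz
    obtain ⟨j, hj⟩ := mem_powers_iff_mem_zpowers.2 hz'
    dsimp only at hi hj
    rw [← pow_mod_orderOf, hm] at hi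
    rw [← pow_mod_orderOf, hn] at hj
    have h1 := hd ⟨i % m, Nat.mod_lt _ hm0⟩ ⟨j % n, Nat.mod_lt _ hn0⟩ (hi.trans hj.symm)
    simp only at h1
    rw [← hi, h1, pow_zero]
  have hr : φ'.range ≤ K := by
    rintro _ ⟨⟨a, b⟩, rfl⟩
    exact K.mul_mem ((zpowers_le.2 hx) a.2) ((zpowers_le.2 hy) b.2)
  have h1 : Nat.card φ'.range = m * n := by
    rw [← Nat.card_congr (MonoidHom.ofInjective hinj).toEquiv, Nat.card_prod, Nat.card_zpowers, Nat.card_zpowers, hm, hn]
  rw [← h1]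
  exact Subgroup.card_dvd_of_le hr

theorem mt_pow (x : SU33) (n : ℕ) : Cfsg.Agent.OddHalf.Small.U33.mt (x ^ n) =
    Cfsg.Agent.OddHalf.Small.U33.mt x ^ n := by
  induction n with
  | zero => rw [pow_zero, pow_zero, mt_one]
  | succ n ih => rw [pow_succ, pow_succ, mt_mul, ih]

/-- the generators -/
def gens : Set SU33 := {g1, g2, g4, g5, g8, g6}

theorem ord_of {x : SU33} {M : Matrix (Fin 3) (Fin 3) K9} (hM : Cfsg.Agent.OddHalf.Small.U33.mt x = M) {n : ℕ} (hn : 0 < n)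
    (h1 : M ^ n = 1) (h2 : ∀ k : Fin n, M ^ (k : ℕ) = 1 → (k : ℕ) = 0) : orderOf x = n := by
  rw [orderOf_eq_iff hn]
  refine ⟨mt_ext (by rw [mt_pow, hM, h1, mt_one]), fun k hk hk0 h => ?_⟩
  have h3 := h2 ⟨k, hk⟩ (by rw [← hM, ← mt_pow, h, mt_one])
  simp only at h3
  omega

theorem closure_gens [IsSimpleGroup SU33] : _root_.Subgroup.closure gens = ⊤ := by
  have hfin : Finite SU33 := finite_SU33
  have k1 : g1 ∈ _root_.Subgroup.closure gens := _root_.Subgroup.subset_closure (by unfold gens; simp)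
  have k2 : g2 ∈ _root_.Subgroup.closure gens := _root_.Subgroup.subset_closure (by unfold gens; simp)
  have k4 : g4 ∈ closure gens := _root_.Subgroup.subset_closure (by unfold gens; simp)
  have k5 : g5 ∈ closure gens := _root_.Subgroup.subset_closure (by unfold gens; simp)
  have k8 : g8 ∈ closure gens := _root_.Subgroup.subset_closure (by unfold gens; simp)
  have k6 : g6 ∈ closure gens := _root_.Subgroup.subset_closure (by unfold gens; simp)
  have h16 : 4 * 4 ∣ Nat.card (closure gens) := by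
    refine mul_dvd_card (x := g8 * g4) (y := g5 * (g8 * g4) * g5) (mul_mem k8 k4) (mul_mem (mul_mem k5 (mul_mem k8 k4)) k5) ?_ ?_ ?_ ?_
    · apply mt_ext; simp only [mt_mul, mt4, mt5, mt8]; decide +kernel
    · refine ord_of (M := m8 * m4) ?_ (by norm_num) (by decide +kernel) (by decide +kernel)
      simp only [mt_mul, mt4, mt8]
    · refine ord_of (M := m5 * (m8 * m4) * m5) ?_ (by norm_num) (by decide +kernel) (by decide +kernel)
      simp only [mt_mul, mt4, mt8, mt5]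
    · intro i j h
      have h' := congrArg Cfsg.Agent.OddHalf.Small.U33.mt h
      simp only [mt_pow, mt_mul, mt4, mt8, mt5] at h'
      revert i j
      decide +kernel
  have h9 : 3 * 3 ∣ Nat.card (closure gens) := by
    refine mul_dvd_card (x := g2 * g8 * g5) (y := g6 * (g2 * g8 * g5) * g6) (mul_mem (mul_mem k2 k8) k5)
      (mul_mem (mul_mem k6 (mul_mem (mul_mem k2 k8) k5)) k6) ?_ ?_ ?_ ?_
    · apply mt_ext; simp only [mt_mul, mt2, mt5, mt8, mt6]; decide +kernel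
    · refine ord_of (M := m2 * m8 * m5) ?_ (by norm_num) (by decide +kernel) (by decide +kernel)
      simp only [mt_mul, mt2, mt5, mt8]
    · refine ord_of (M := m6 * (m2 * m8 * m5) * m6) ?_ (by norm_num) (by decide +kernel) (by decide +kernel)
      simp only [mt_mul, mt2, mt5, mt8, mt6]
    · intro i j h
      have h' := congrArg Cfsg.Agent.OddHalf.Small.U33.mt h
      simp only [mt_pow, mt_mul, mt2, mt5, mt8, mt6] at h'
      revert i j
      decide +kernel
  have h7 : 7 ∣ Nat.card (closure gens) := by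
    have ho : orderOf (g1 * g5 * g6) = 7 := by
      refine ord_of (M := dg * m5 * m6) ?_ (by norm_num) (by decide +kernel) (by decide +kernel)
      simp only [mt_mul, mt1, mt5, mt6]
    rw [← ho, ← Nat.card_zpowers]
    exact Subgroup.card_dvd_of_le (zpowers_le.2 (mul_mem (mul_mem k1 k5) k6))
  by_contra hne
  have hf := SmallSimple.SylowCount.card_dvd_factorial_index (_root_.Subgroup.closure gens) hne
  have hc := (closure gens).card_mul_index
  rw [card_SU] at hc hf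
  have h1008 : 1008 ∣ Nat.card (closure gens) := by
    have ha : (16 * 9 : ℕ) ∣ Nat.card (closure gens) := Nat.Coprime.mul_dvd_of_dvd_of_dvd (by norm_num) h16 h9
    exact Nat.Coprime.mul_dvd_of_dvd_of_dvd (m := 16 * 9) (n := 7) (by norm_num) ha h7
  obtain ⟨k, hk⟩ := h1008
  have hi : (closure gens).index ≤ 6 := by
    rw [hk] at hc
    have hk0 : 0 < k := by
      rcases Nat.eq_zero_or_pos k with h | h
      · rw [h] at hc; simp at hc
      · exact h
    have h6 : k * (_root_.Subgroup.closure gens).index = 6 := by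
      have : 1008 * (k * (closure gens).index) = 1008 * 6 := by rw [← mul_assoc, hc]
      exact Nat.eq_of_mul_eq_mul_left (by norm_num) this
    calc (closure gens).index ≤ k * (closure gens).index := Nat.le_mul_of_pos_left _ hk0
      _ = 6 := h6
  have := Nat.le_of_dvd (Nat.factorial_pos _) hf
  have h720 := Nat.factorial_le hi
  have : (Nat.factorial 6) = 720 := rfl
  omega

end Cfsg.Agent.H476.JTwo.Grp
end

-- part: H476/JTwo/Main
section
/-!
# `U₃(3)` in `Sp₆(p)`, `p ≡ ±5 (mod 12)`, `5` a square (helper476, task 1009, for S5806)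

`u33_hall` : `U₃(3)` is not the socle of a residual maximal subgroup, since it is contained in `2.J₂`.
-/

set_option autoImplicit false
set_option linter.unusedSectionVars false

namespace Cfsg.Agent.H476.JTwo

open Cfsg Cfsg.Geo Matrix Module
open Cfsg.Agent.H914.S6 Cfsg.Agent.H915.LD
open Cfsg.Agent.OddHalf.Small.U33 (SU33 finite_SU33)
open Cfsg.Agent.Classification.RTwo.UThreeThree (K9 card_k9 psuEquiv)

universe u v

/-- the data of `SU₃(3)` -/
def gd : GD SU33 where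
  g1 := Grp.g1
  g2 := Grp.g2
  g3 := Grp.g3
  g4 := Grp.g4
  g5 := Grp.g5
  g6 := Grp.g6
  g8 := Grp.g8
  gA := Grp.gA
  gB := Grp.gB
  sq1 := Grp.sq1
  sq2 := Grp.sq2
  sq3 := Grp.sq3
  sq4 := Grp.sq4
  sq5 := Grp.sq5
  sq6 := Grp.sq6
  sq8 := Grp.sq8
  ne1 := Grp.ne1
  ne2 := Grp.ne2
  ne3 := Grp.ne3
  ne4 := Grp.ne4
  ne5 := Grp.ne5
  ne6 := Grp.ne6
  ne8 := Grp.ne8
  sqA := Grp.sqA
  sqB := Grp.sqB
  cAB := Grp.cAB
  p12 := Grp.p12
  c12 := Grp.c12
  c14 := Grp.c14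
  c35 := Grp.c35
  c18 := Grp.c18
  c3436 := by
    have h := Grp.c3436
    rw [h, mul_assoc, mul_assoc, mul_assoc]
  k12 := Grp.k12
  k23 := Grp.k23
  o24 := by have h := Grp.o24; simpa only [pow_succ, pow_zero, one_mul, ← mul_assoc] using h
  o34 := by have h := Grp.o34; simpa only [pow_succ, pow_zero, one_mul, ← mul_assoc] using h
  o25 := by have h := Grp.o25; simpa only [pow_succ, pow_zero, one_mul, ← mul_assoc] using h
  o15 := by have h := Grp.o15; simpa only [pow_succ, pow_zero, one_mul, ← mul_assoc] using h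
  o28 := by have h := Grp.o28; simpa only [pow_succ, pow_zero, one_mul, ← mul_assoc] using h
  o38 := by have h := Grp.o38; simpa only [pow_succ, pow_zero, one_mul, ← mul_assoc] using h
  o48 := by have h := Grp.o48; simpa only [pow_succ, pow_zero, one_mul, ← mul_assoc] using h
  o16 := by have h := Grp.o16; simpa only [pow_succ, pow_zero, one_mul, ← mul_assoc] using h
  o56 := by have h := Grp.o56; simpa only [pow_succ, pow_zero, one_mul, ← mul_assoc] using h
  m24 := by have h := Grp.m24; simpa only [pow_succ, pow_zero, one_mul, ← mul_assoc] using h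
  m34 := by have h := Grp.m34; simpa only [pow_succ, pow_zero, one_mul, ← mul_assoc] using h
  m25 := by have h := Grp.m25; simpa only [pow_succ, pow_zero, one_mul, ← mul_assoc] using h
  m15 := by have h := Grp.m15; simpa only [pow_succ, pow_zero, one_mul, ← mul_assoc] using h
  m28 := by have h := Grp.m28; simpa only [pow_succ, pow_zero, one_mul, ← mul_assoc] using h
  m38 := by have h := Grp.m38; simpa only [pow_succ, pow_zero, one_mul, ← mul_assoc] using h
  m48 := by have h := Grp.m48; simpa only [pow_succ, pow_zero, one_mul, ← mul_assoc] using h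
  m16 := by have h := Grp.m16; simpa only [pow_succ, pow_zero, one_mul, ← mul_assoc] using h
  m56 := by have h := Grp.m56; simpa only [pow_succ, pow_zero, one_mul, ← mul_assoc] using h
  o26 := by have h := Grp.o26; simpa only [pow_succ, pow_zero, one_mul, ← mul_assoc] using h
  o68 := by have h := Grp.o68; simpa only [pow_succ, pow_zero, one_mul, ← mul_assoc] using h
  o85 := by have h := Grp.o85; simpa only [pow_succ, pow_zero, one_mul, ← mul_assoc] using h
  o54 := by have h := Grp.o54; simpa only [pow_succ, pow_zero, one_mul, ← mul_assoc] using h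
  o96 := by have h := Grp.o96; simpa only [pow_succ, pow_zero, one_mul, ← mul_assoc] using h
  n12 := Grp.n12
  n14 := Grp.n14
  n35 := Grp.n35
  n18 := Grp.n18
  n3436 := Grp.n3436
  n26 := Grp.n26
  n96 := Grp.n96

/-- automorphisms and generation of `SU₃(3)` -/
def gf [IsSimpleGroup SU33] : GF gd where
  φ := Cfsg.Agent.OddHalf.D6.RThree.U33.φ
  f1 := Grp.f1
  f2 := Grp.f2
  f3 := Grp.f3
  f4 := Grp.f4
  f5 := Grp.f5
  f8 := Grp.f8
  f6 := Grp.f6
  aut := Grp.aut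
  gen := Grp.closure_gens
  cop := by
    intro x hx
    have hfin : Finite SU33 := finite_SU33
    have h1 := orderOf_dvd_of_pow_eq_one hx
    have h2 : orderOf x ∣ 6048 := by
      rw [← Cfsg.Agent.OddHalf.D4.Small.KU33.card_SU]
      exact orderOf_dvd_natCard x
    have h3 := Nat.dvd_gcd h1 h2
    rw [show Nat.gcd 5 6048 = 1 by norm_num, Nat.dvd_one, orderOf_eq_one_iff] at h3
    exact h3

/-! ### squares -/

theorem five_one : IsSquare ((1 : ℕ) : ZMod 5) := ⟨1, by decide⟩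
theorem five_four : IsSquare ((4 : ℕ) : ZMod 5) := ⟨2, by decide⟩
theorem three_one : IsSquare ((1 : ℕ) : ZMod 3) := ⟨1, by decide⟩
theorem three_two : ¬ IsSquare ((2 : ℕ) : ZMod 3) := by decide

theorem exists_tau {F : Type u} [Field F] [Fintype F] {p : ℕ} (hp : p.Prime) (hF : Fintype.card F = p)
    (h2 : (2 : F) ≠ 0) (h5 : p % 5 = 0 ∨ p % 5 = 1 ∨ p % 5 = 4) : ∃ τ : F, τ * τ = τ + 1 := by
  have : Fact p.Prime := ⟨hp⟩
  have : Fact (Nat.Prime 5) := ⟨by norm_num⟩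
  let e : ZMod p ≃+* F := ZMod.ringEquivOfPrime F hp hF
  have hsq : ∃ s : F, s * s = 5 := by
    rcases h5 with h5 | h5
    · have hp5 : p = 5 := ((Nat.prime_dvd_prime_iff_eq (by norm_num) hp).1 (Nat.dvd_of_mod_eq_zero h5)).symm
      refine ⟨0, ?_⟩
      have h : (5 : ZMod p) = 0 := by
        have : ((5 : ℕ) : ZMod p) = 0 := by rw [← hp5]; exact ZMod.natCast_self _
        exact_mod_cast this
      have h' := congrArg e h
      rw [map_ofNat, map_zero] at h'
      rw [h', mul_zero]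
    · have hp2 : p ≠ 2 := by
        rintro rfl
        apply h2
        have h : (2 : ZMod 2) = 0 := rfl
        have h' := congrArg e h
        rwa [map_ofNat, map_zero] at h'
      have h := (ZMod.exists_sq_eq_prime_iff_of_mod_four_eq_one (p := 5) (q := p) (by norm_num) hp2).1 (by
        have h6 : ((p : ℕ) : ZMod 5) = ((p % 5 : ℕ) : ZMod 5) := by rw [ZMod.natCast_mod]
        rw [h6]
        rcases h5 with h5 | h5
        · rw [h5]; exact five_one
        · rw [h5]; exact five_four)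
      obtain ⟨s, hs⟩ := h
      refine ⟨e s, ?_⟩
      rw [← map_mul, ← hs, map_natCast]
      norm_num
  obtain ⟨s, hs⟩ := hsq
  refine ⟨(1 + s) / 2, ?_⟩
  field_simp
  linear_combination hs

theorem not_three {F : Type u} [Field F] [Fintype F] {p : ℕ} (hp : p.Prime) (hF : Fintype.card F = p)
    (h12 : p % 12 = 5 ∨ p % 12 = 7) : ¬ ∃ c : F, c * c = 3 := by
  have : Fact p.Prime := ⟨hp⟩
  have : Fact (Nat.Prime 3) := ⟨by norm_num⟩
  let e : ZMod p ≃+* F := ZMod.ringEquivOfPrime F hp hF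
  rintro ⟨c, hc⟩
  have h1 : IsSquare ((3 : ℕ) : ZMod p) := by
    refine ⟨e.symm c, ?_⟩
    rw [← map_mul, hc, map_ofNat]
    norm_num
  have h6 : ((p : ℕ) : ZMod 3) = ((p % 3 : ℕ) : ZMod 3) := by rw [ZMod.natCast_mod]
  rcases h12 with h12 | h12
  · have h4 : p % 4 = 1 := by omega
    have h := (ZMod.exists_sq_eq_prime_iff_of_mod_four_eq_one (p := p) (q := 3) h4 (by norm_num)).1 h1
    rw [h6, show p % 3 = 2 by omega] at h
    exact three_two h
  · have h4 : p % 4 = 3 := by omega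
    have h := (ZMod.exists_sq_eq_prime_iff_of_mod_four_eq_three (p := p) (q := 3) h4 (by norm_num) (by
      rintro rfl
      omega)).1 h1
    apply h
    rw [h6, show p % 3 = 1 by omega]
    exact three_one

variable {F : Type u} [Field F] [Fintype F] {H P : Subgroup (GL (Fin 3 ⊕ Fin 3) F)}

/-- **`U₃(3)` in `Sp₆(p)` is not maximal when it is contained in `2.J₂`.** -/
theorem u33_hall (S : Cfsg.Agent.H914.S6.Hyp 3 H P) (p : ℕ) [Fact p.Prime] [CharP F p] (hF : Fintype.card F = p)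
    {K : Type} [Field K] [Fintype K] (hK : Fintype.card K = 9)
    (e : Nonempty (Cfsg.Agent.H915.LD.Soc P ≃* Cfsg.PSU 3 K 3)) (h12 : p % 12 = 5 ∨ p % 12 = 7)
    (h5 : p % 5 = 0 ∨ p % 5 = 1 ∨ p % 5 = 4) : False := by
  obtain ⟨e⟩ := e
  have hp : p.Prime := Fact.out
  let k : K ≃+* K9 := FiniteField.ringEquivOfCardEq (by rw [hK, card_k9])
  let e' : Soc P ≃* SU33 := (e.trans (LieClassical.FieldTransfer.psuCongr 3 3 k)).trans (psuEquiv card_k9)
  have hs : IsSimpleGroup (Soc P) := S.core.simple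
  have hsu : IsSimpleGroup SU33 := by
    have := e'.symm.isSimpleGroup
    exact this
  have hp5 : 5 ≤ p := by
    have := hp.two_le
    omega
  have hch : ∀ n : ℕ, 0 < n → n < 5 → ((n : ℕ) : F) ≠ 0 := by
    intro n hn hn5 h0
    have h1 := (CharP.cast_eq_zero_iff F p n).1 h0
    have := Nat.le_of_dvd hn h1
    omega
  have h2 : (2 : F) ≠ 0 := by
    have := hch 2 (by norm_num) (by norm_num)
    exact_mod_cast this
  have h3 : (3 : F) ≠ 0 := by
    have := hch 3 (by norm_num) (by norm_num)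
    exact_mod_cast this
  obtain ⟨τ, hτ⟩ := exists_tau hp hF h2 h5
  exact close S e' gf (by rw [hF]; exact hp5) h2 h3 hτ (not_three hp hF h12)

end Cfsg.Agent.H476.JTwo
end

-- part: H914/SixRC
section
/-!
# The row `PSU₃(3)` of `Sp₆` (helper914)
-/

set_option autoImplicit false
set_option linter.unusedSectionVars false
set_option maxHeartbeats 400000

namespace Cfsg.Agent.H914.S6

open Matrix Cfsg Cfsg.Geo Cfsg.Agent.H915.LD
open scoped MatrixGroups

universe u v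

section u33

variable {F : Type u} [Field F] [Fintype F] {H P : Subgroup (GL (Fin 3 ⊕ Fin 3) F)}

/-- the row `PSU₃(3)` -/
theorem Row6.u33 (S : Hyp 3 H P) (p : ℕ) [hp : Fact p.Prime] [CharP F p] (hp3 : p ≠ 3) {K : Type} [Field K]
    [Fintype K] (hK : Fintype.card K = 9) (e : Nonempty (Soc P ≃* Cfsg.PSU 3 K 3)) :
    Row6 p F (Soc P) := by
  have hc6 : Fintype.card (Fin 3 ⊕ Fin 3) = 6 := rfl
  refine Or.inr (Or.inr (Or.inr (Or.inr (Or.inl ⟨⟨K, inferInstance, inferInstance, hK, e⟩, ?_⟩))))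
  by_cases hp2 : p = 2
  · subst hp2
    obtain ⟨-, -, hfr⟩ := H936.U33Two.u33_two S.toCore hK e (by omega)
    exact Or.inl (S.toCore.card_eq 2 hfr)
  · right
    obtain ⟨e'⟩ := e
    obtain ⟨-, h | h⟩ := H659.U3.u33_stage S.toCore p hp2 hp3 (by omega) hK e'
    · have hF := S.toCore.card_eq p h.2.2
      refine ⟨hF, ?_⟩
      have hp2' : p % 2 = 1 := hp.out.eq_two_or_odd.resolve_left hp2
      have hp3' : p % 3 ≠ 0 := fun h =>
        hp3 ((Nat.prime_dvd_prime_iff_eq Nat.prime_three hp.out).1 (Nat.dvd_of_mod_eq_zero h)).symm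
      by_contra hcon
      have key : ∀ r < 60, r % 2 = 1 → r % 3 ≠ 0 →
          ¬ (r = 7 ∨ r = 53 ∨ r = 17 ∨ r = 43 ∨ r % 12 = 1 ∨ r % 12 = 11) →
          (r % 12 = 5 ∨ r % 12 = 7) ∧ (r % 5 = 0 ∨ r % 5 = 1 ∨ r % 5 = 4) := by
        intro r hr h1 h2 h3
        clear hcon
        interval_cases r <;> (clear * - h1 h3 h2; omega)
      have h := key (p % 60) (Nat.mod_lt _ (by norm_num))
      rw [Nat.mod_mod_of_dvd p (by norm_num : 2 ∣ 60), Nat.mod_mod_of_dvd p (by norm_num : 3 ∣ 60),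
        Nat.mod_mod_of_dvd p (by norm_num : 12 ∣ 60), Nat.mod_mod_of_dvd p (by norm_num : 5 ∣ 60)] at h
      obtain ⟨h1, h2⟩ := h hp2' hp3' hcon
      exact H476.JTwo.u33_hall S p hF hK ⟨e'⟩ h1 h2
    · omega

end u33

end Cfsg.Agent.H914.S6
end

private theorem dce_412760c770df : _root_.True := by
  try have : _root_.True := by simp only [_root_.Cfsg.Agent.OddHalf.D6.RThree.U33.f.eq_1]
  exact _root_.True.intro
end
end

-- part: H914/SixCross
section
set_option linter.all false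
open scoped Cfsg.Agent.FastGrp

-- part: H914/SixA5c
section
/-!
# `SL₂(5)` in `Sp₆(F)` (helper914): `H = P` if `2` is no square
-/

set_option autoImplicit false
set_option linter.unusedSectionVars false
set_option maxHeartbeats 400000

namespace Cfsg.Agent.H914.S6

open Cfsg Cfsg.Geo Matrix Cfsg.Agent.H915.LD Module
open Cfsg.Agent.H464.Sl2 (u w t u_add u_zero)

universe u' v

local instance fact5'' : Fact (Nat.Prime 5) := ⟨Nat.prime_five⟩

variable {F : Type u'} [Field F] [Fintype F] {H P : Subgroup (GL (Fin 3 ⊕ Fin 3) F)}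
  {ρ : Matrix.SpecialLinearGroup (Fin 2) (ZMod 5) →* GL (Fin 3 ⊕ Fin 3) F}

/-! ### the projection on the fixed space of `u` -/

/-- the projection -/
noncomputable def pr5 (ρ : Matrix.SpecialLinearGroup (Fin 2) (ZMod 5) →* GL (Fin 3 ⊕ Fin 3) F) :
    Matrix (Fin 3 ⊕ Fin 3) (Fin 3 ⊕ Fin 3) F :=
  (5 : F)⁻¹ • ∑ x : ZMod 5, (ρ (u x) : Matrix (Fin 3 ⊕ Fin 3) (Fin 3 ⊕ Fin 3) F)

theorem u_mul_pr (y : ZMod 5) : (ρ (u y) : Matrix (Fin 3 ⊕ Fin 3) (Fin 3 ⊕ Fin 3) F) * pr5 ρ = pr5 ρ := by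
  unfold pr5
  rw [Matrix.mul_smul, Finset.mul_sum]
  congr 1
  refine Fintype.sum_equiv (Equiv.addLeft y) _ _ fun x => ?_
  rw [← Units.val_mul, ← map_mul, ← u_add]
  rfl

theorem pr_mul_pr (h5 : (5 : F) ≠ 0) : pr5 ρ * pr5 ρ = pr5 ρ := by
  conv_lhs => enter [1]; unfold pr5
  rw [Matrix.smul_mul, Finset.sum_mul, Finset.sum_congr rfl fun x _ => u_mul_pr x, Finset.sum_const, Finset.card_univ,
    ZMod.card, ← Nat.cast_smul_eq_nsmul F, smul_smul]
  rw [Nat.cast_ofNat, inv_mul_cancel₀ h5, one_smul]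

theorem trace_pr (D : A5Data ρ) (h5 : (5 : F) ≠ 0) : (pr5 ρ).trace = 2 := by
  have h1 : ∀ x ∈ Finset.univ.erase (0 : ZMod 5), (ρ (u x) : Matrix (Fin 3 ⊕ Fin 3) (Fin 3 ⊕ Fin 3) F).trace = 1 :=
    fun x hx => D.tru x (Finset.ne_of_mem_erase hx)
  unfold pr5
  rw [Matrix.trace_smul, Matrix.trace_sum, ← Finset.add_sum_erase _ _ (Finset.mem_univ (0 : ZMod 5)),
    Finset.sum_congr rfl h1, Finset.sum_const,
    Finset.card_erase_of_mem (Finset.mem_univ _), Finset.card_univ, ZMod.card, u_zero, map_one, Units.val_one,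
    Matrix.trace_one]
  simp only [_root_.Fintype.card_sum, _root_.Fintype.card_fin, _root_.Nat.reduceAdd, _root_.Nat.cast_ofNat, _root_.Nat.add_one_sub_one, _root_.nsmul_eq_mul, _root_.mul_one, _root_.smul_eq_mul]
  field_simp
  norm_num

theorem finrank_pr (D : A5Data ρ) (h5 : (5 : F) ≠ 0) (hbig : ∀ k : ℕ, k ≤ 6 → (k : F) = 2 → k = 2) :
    finrank F (LinearMap.range (Matrix.toLin' (pr5 ρ))) = 2 := by
  apply hbig
  · refine (Submodule.finrank_le _).trans ?_
    rw [Module.finrank_fintype_fun_eq_card]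
    simp
  · have h : LinearMap.IsProj (LinearMap.range (Matrix.toLin' (pr5 ρ))) (Matrix.toLin' (pr5 ρ)) := by
      refine ⟨fun x => LinearMap.mem_range_self _ _, ?_⟩
      rintro _ ⟨x, rfl⟩
      rw [← LinearMap.comp_apply, ← Matrix.toLin'_mul, pr_mul_pr h5]
    rw [← h.trace, Matrix.trace_toLin'_eq, trace_pr D h5]

/-- the form -/
local notation "B" => sympForm 3 F

theorem form_gl {g : GL (Fin 3 ⊕ Fin 3) F} (hg : g ∈ spGL 3 F) (v w : Fin 3 ⊕ Fin 3 → F) :
    B ((g : Matrix (Fin 3 ⊕ Fin 3) (Fin 3 ⊕ Fin 3) F) *ᵥ v) w =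
      B v (((g⁻¹ : GL (Fin 3 ⊕ Fin 3) F) : Matrix (Fin 3 ⊕ Fin 3) (Fin 3 ⊕ Fin 3) F) *ᵥ w) := by
  have h := H931.mem_spGL_iff.1 hg v (((g⁻¹ : GL (Fin 3 ⊕ Fin 3) F) : Matrix (Fin 3 ⊕ Fin 3) (Fin 3 ⊕ Fin 3) F) *ᵥ w)
  rw [← h, Matrix.mulVec_mulVec, ← Units.val_mul, mul_inv_cancel, Units.val_one, Matrix.one_mulVec]

theorem form_pr (hS : ρ.range ≤ spGL 3 F) (v w : Fin 3 ⊕ Fin 3 → F) :
    B (pr5 ρ *ᵥ v) w = B v (pr5 ρ *ᵥ w) := by
  have hb := (H924.isSymplecticForm_sympForm (m := 3) (F := F)).bilinear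
  have hl : ∀ (c : F) (M : Matrix (Fin 3 ⊕ Fin 3) (Fin 3 ⊕ Fin 3) F), B ((c • M) *ᵥ v) w = c * B (M *ᵥ v) w := by
    intro c M; rw [Matrix.smul_mulVec, hb.smul_left]
  have hr : ∀ (c : F) (M : Matrix (Fin 3 ⊕ Fin 3) (Fin 3 ⊕ Fin 3) F), B v ((c • M) *ᵥ w) = c * B v (M *ᵥ w) := by
    intro c M; rw [Matrix.smul_mulVec, hb.smul_right]
  have hsl : ∀ (s : Finset (ZMod 5)) (f : ZMod 5 → Matrix (Fin 3 ⊕ Fin 3) (Fin 3 ⊕ Fin 3) F),
      B ((∑ x ∈ s, f x) *ᵥ v) w = ∑ x ∈ s, B (f x *ᵥ v) w := by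
    intro s f
    induction s using Finset.induction_on with
    | empty =>
      rw [Finset.sum_empty, Finset.sum_empty, Matrix.zero_mulVec]
      have := hb.smul_left 0 0 w
      rwa [zero_smul, zero_mul] at this
    | insert a s ha ih => rw [Finset.sum_insert ha, Finset.sum_insert ha, Matrix.add_mulVec, hb.add_left, ih]
  have hsr : ∀ (s : Finset (ZMod 5)) (f : ZMod 5 → Matrix (Fin 3 ⊕ Fin 3) (Fin 3 ⊕ Fin 3) F),
      B v ((∑ x ∈ s, f x) *ᵥ w) = ∑ x ∈ s, B v (f x *ᵥ w) := by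
    intro s f
    induction s using Finset.induction_on with
    | empty =>
      rw [Finset.sum_empty, Finset.sum_empty, Matrix.zero_mulVec]
      have := hb.smul_right 0 v 0
      rwa [zero_smul, zero_mul] at this
    | insert a s ha ih => rw [Finset.sum_insert ha, Finset.sum_insert ha, Matrix.add_mulVec, hb.add_right, ih]
  unfold pr5
  rw [hl, hr, hsl, hsr]
  congr 1
  refine Fintype.sum_equiv (Equiv.neg (ZMod 5)) _ _ fun x => ?_
  rw [form_gl (hS ⟨_, rfl⟩), ← map_inv]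
  have : (u x)⁻¹ = u (-x) := by
    rw [inv_eq_iff_mul_eq_one, ← u_add, add_neg_cancel, u_zero]
  rw [this]
  rfl

/-- an isometry `h` with `h⁴ = -1` normalising `⟨ρ(u)⟩`: `2` is a square -/
theorem two_square (hS : ρ.range ≤ spGL 3 F) (D : A5Data ρ) (h2 : (2 : F) ≠ 0) (h5 : (5 : F) ≠ 0)
    (hbig : ∀ k : ℕ, k ≤ 6 → (k : F) = 2 → k = 2) {h : GL (Fin 3 ⊕ Fin 3) F} (hh : h ∈ spGL 3 F)
    (h4 : h ^ 4 = -1) (hu : h * ρ (u 1) * h⁻¹ = ρ (u 2)) : IsSquare (2 : F) := by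
  classical
  have hsf := H924.isSymplecticForm_sympForm (m := 3) (F := F)
  have hb := hsf.bilinear
  -- `h` commutes with the projection
  have hux : ∀ x : ZMod 5, h * ρ (u x) * h⁻¹ = ρ (u (2 * x)) := by
    intro x
    have e1 : u x = u 1 ^ x.val := by rw [← u_eq_pow, ZMod.natCast_zmod_val]
    have e2 : u (2 * x) = u 2 ^ x.val := by
      have : ∀ n : ℕ, u (2 * (n : ZMod 5)) = u 2 ^ n := by
        intro n
        induction n with
        | zero => rw [Nat.cast_zero, mul_zero, u_zero, pow_zero]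
        | succ n ih => rw [Nat.cast_succ, mul_add, mul_one, u_add, ih, pow_succ]
      rw [← this, ZMod.natCast_zmod_val]
    rw [e1, e2, map_pow, map_pow, ← hu, conj_pow]
  let hM : Matrix (Fin 3 ⊕ Fin 3) (Fin 3 ⊕ Fin 3) F := (h : Matrix (Fin 3 ⊕ Fin 3) (Fin 3 ⊕ Fin 3) F)
  let hI : Matrix (Fin 3 ⊕ Fin 3) (Fin 3 ⊕ Fin 3) F := ((h⁻¹ : GL (Fin 3 ⊕ Fin 3) F) : Matrix (Fin 3 ⊕ Fin 3) (Fin 3 ⊕ Fin 3) F)
  have hcom : hM * pr5 ρ = pr5 ρ * hM := by
    unfold pr5
    rw [Matrix.mul_smul, Matrix.smul_mul, Finset.mul_sum, Finset.sum_mul]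
    congr 1
    refine Fintype.sum_equiv (Equiv.mulLeft₀ (2 : ZMod 5) (by decide)) _ _ fun x => ?_
    have := hux x
    rw [mul_inv_eq_iff_eq_mul] at this
    have h3 := congrArg (fun g : GL (Fin 3 ⊕ Fin 3) F => (g : Matrix (Fin 3 ⊕ Fin 3) (Fin 3 ⊕ Fin 3) F)) this
    exact h3
  have hMI : hM * hI = 1 := by
    change (h : Matrix (Fin 3 ⊕ Fin 3) (Fin 3 ⊕ Fin 3) F) * ((h⁻¹ : GL (Fin 3 ⊕ Fin 3) F) : Matrix (Fin 3 ⊕ Fin 3) (Fin 3 ⊕ Fin 3) F) = 1
    rw [← Units.val_mul, mul_inv_cancel, Units.val_one]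
  have hIM : hI * hM = 1 := by
    change ((h⁻¹ : GL (Fin 3 ⊕ Fin 3) F) : Matrix (Fin 3 ⊕ Fin 3) (Fin 3 ⊕ Fin 3) F) * (h : Matrix (Fin 3 ⊕ Fin 3) (Fin 3 ⊕ Fin 3) F) = 1
    rw [← Units.val_mul, inv_mul_cancel, Units.val_one]
  have hcomI : hI * pr5 ρ = pr5 ρ * hI := by
    calc hI * pr5 ρ = hI * (pr5 ρ * (hM * hI)) := by rw [hMI, Matrix.mul_one]
      _ = hI * (pr5 ρ * hM) * hI := by simp only [Matrix.mul_assoc]
      _ = hI * (hM * pr5 ρ) * hI := by rw [hcom]
      _ = (hI * hM) * pr5 ρ * hI := by simp only [Matrix.mul_assoc]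
      _ = _ := by rw [hIM, Matrix.one_mul]
  let A : Matrix (Fin 3 ⊕ Fin 3) (Fin 3 ⊕ Fin 3) F := hM + hI
  have hAcom : A * pr5 ρ = pr5 ρ * A := by
    simp only [A]
    rw [Matrix.add_mul, Matrix.mul_add, hcom, hcomI]
  have hM4 : hM * hM * (hM * hM) = -1 := by
    have e : h ^ 4 = h * h * (h * h) := by
      rw [show (4 : ℕ) = 2 + 2 from rfl, pow_add, pow_two]
    have e3 := congrArg Units.val (e.symm.trans h4)
    rw [Units.val_neg, Units.val_one, Units.val_mul, Units.val_mul] at e3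
    exact e3
  have hAA : A * A = (2 : F) • (1 : Matrix (Fin 3 ⊕ Fin 3) (Fin 3 ⊕ Fin 3) F) := by
    simp only [A]
    rw [Matrix.add_mul, Matrix.mul_add, Matrix.mul_add, hMI, hIM]
    have e1 : hM * hM + hI * hI = 0 := by
      have e2 : hM * hM = -(hI * hI) := by
        calc hM * hM = (hM * hM) * (hM * (hM * hI) * hI) := by rw [hMI, Matrix.mul_one, hMI, Matrix.mul_one]
          _ = (hM * hM * (hM * hM)) * (hI * hI) := by simp only [Matrix.mul_assoc]
          _ = _ := by rw [hM4, Matrix.neg_mul, Matrix.one_mul]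
      rw [e2, neg_add_cancel]
    have e3 : hM * hM + 1 + (1 + hI * hI) = (hM * hM + hI * hI) + (1 + 1) := by abel
    rw [e3, e1, zero_add, two_smul]
  -- self-adjoint
  have hA : ∀ v w, B (A *ᵥ v) w = B v (A *ᵥ w) := by
    intro v w
    simp only [A]
    rw [Matrix.add_mulVec, Matrix.add_mulVec, hb.add_left, hb.add_right]
    have h3 := form_gl hh v w
    have h4 := form_gl ((spGL 3 F).inv_mem hh) v w
    rw [inv_inv] at h4
    change B (hM *ᵥ v) w = B v (hI *ᵥ w) at h3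
    change B (hI *ᵥ v) w = B v (hM *ᵥ w) at h4
    rw [h3, h4, add_comm]
  have hA0 : ∀ v, B (A *ᵥ v) v = 0 := by
    intro v
    have h3 := hA v v
    rw [hsf.skew v] at h3
    have h4 : (2 : F) * B (A *ᵥ v) v = 0 := by linear_combination h3
    exact (mul_eq_zero.1 h4).resolve_left h2
  -- a vector in the range of the projection
  have hfr := finrank_pr D h5 hbig
  obtain ⟨x, hxW, hx0⟩ : ∃ x ∈ LinearMap.range (Matrix.toLin' (pr5 ρ)), x ≠ 0 := by
    have : LinearMap.range (Matrix.toLin' (pr5 ρ)) ≠ ⊥ := by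
      intro h0
      rw [h0, finrank_bot] at hfr
      exact absurd hfr (by norm_num)
    exact (Submodule.ne_bot_iff _).1 this
  have hex : pr5 ρ *ᵥ x = x := by
    obtain ⟨y, rfl⟩ := hxW
    rw [Matrix.toLin'_apply, Matrix.mulVec_mulVec, pr_mul_pr h5]
  have hAx : A *ᵥ x ∈ LinearMap.range (Matrix.toLin' (pr5 ρ)) := by
    refine ⟨A *ᵥ x, ?_⟩
    rw [Matrix.toLin'_apply, Matrix.mulVec_mulVec, ← hAcom, ← Matrix.mulVec_mulVec, hex]
  by_cases hs : ∃ s : F, A *ᵥ x = s • x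
  · obtain ⟨s, hs⟩ := hs
    refine ⟨s, ?_⟩
    have h3 : A *ᵥ (A *ᵥ x) = (2 : F) • x := by
      rw [Matrix.mulVec_mulVec, hAA, Matrix.smul_mulVec, Matrix.one_mulVec]
    rw [hs, Matrix.mulVec_smul, hs, smul_smul] at h3
    obtain ⟨i, hi⟩ := Function.ne_iff.1 hx0
    have h4 := congrFun h3 i
    simp only [Pi.smul_apply, smul_eq_mul] at h4
    exact (mul_right_cancel₀ hi h4).symm
  · exfalso
    have hli : LinearIndependent F ![x, A *ᵥ x] := by
      rw [LinearIndependent.pair_iff' hx0]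
      intro a ha
      exact hs ⟨a, ha.symm⟩
    -- the span is the whole range
    have hspan : Submodule.span F (Set.range ![x, A *ᵥ x]) = LinearMap.range (Matrix.toLin' (pr5 ρ)) := by
      apply Submodule.eq_of_le_of_finrank_eq
      · rw [Submodule.span_le]
        rintro _ ⟨i, rfl⟩
        fin_cases i
        · exact hxW
        · exact hAx
      · rw [finrank_span_eq_card hli, hfr]
        simp
    have hzero : ∀ y ∈ LinearMap.range (Matrix.toLin' (pr5 ρ)), B y x = 0 := by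
      intro y hy
      rw [← hspan] at hy
      induction hy using Submodule.span_induction with
      | mem z hz =>
        obtain ⟨i, rfl⟩ := hz
        fin_cases i
        · exact hsf.alternating x
        · exact hA0 x
      | zero =>
        have := hb.smul_left 0 0 x
        rwa [zero_smul, zero_mul] at this
      | add a b _ _ ha hb' => rw [hb.add_left, ha, hb', add_zero]
      | smul c a _ ha => rw [hb.smul_left, ha, mul_zero]
    obtain ⟨⟨y, hy⟩, -⟩ := hsf.nondegenerate x hx0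
    apply hy
    rw [← hex, ← form_pr hS]
    exact hzero _ ⟨y, Matrix.toLin'_apply _ _⟩

end Cfsg.Agent.H914.S6
end

-- part: H914/SixA5d
section
/-!
# `SL₂(5)` in `Sp₆(F)` (helper914): the exclusion of the non-maximal case

* `a5_false` : `F` of order `p`, `p ≡ ±1 mod 5`, `p ≡ ±3 mod 8`, `-1 ∈ P`, `P / ⟨-1⟩ ≅ A₅`: not maximal
-/

set_option autoImplicit false
set_option linter.unusedSectionVars false
set_option maxHeartbeats 400000

namespace Cfsg.Agent.H914.S6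

open Cfsg Cfsg.Geo Matrix Cfsg.Agent.H915.LD Module
open Cfsg.Agent.H464.Sl2 (u w t u_add u_zero t_mul_u reGL trace_reGL)

universe u' v

local instance fact5''' : Fact (Nat.Prime 5) := ⟨Nat.prime_five⟩

variable {F : Type u'} [Field F] [Fintype F] {H P : Subgroup (GL (Fin 3 ⊕ Fin 3) F)}
  {ρ : Matrix.SpecialLinearGroup (Fin 2) (ZMod 5) →* GL (Fin 3 ⊕ Fin 3) F}

/-- the units `2` of `ZMod 5` -/
def two5 : (ZMod 5)ˣ := ⟨2, 3, by decide, by decide⟩

theorem t_two_mul_u (x : ZMod 5) : t two5 * u x * (t two5)⁻¹ = u (4 * x) := by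
  rw [mul_inv_eq_iff_eq_mul, t_mul_u]
  congr 2

theorem z5a : ∀ x : ZMod 5, x ≠ 0 → x = 1 ∨ x = 2 ∨ x = 3 ∨ x = 4 := by decide

theorem z5b : ∀ a : ZMod 5, 4 * (4 * a) = a := by decide

theorem z5c : ∀ a : ZMod 5, 4 * a + a = 0 := by decide

theorem t_two_sq : t two5 * t two5 = -1 := by
  apply mt_inj
  rw [← Cfsg.Agent.H464.Sl2.t_mul, mt_neg, mt_one]
  change !![((two5 * two5 : (ZMod 5)ˣ) : ZMod 5), 0; 0, (((two5 * two5)⁻¹ : (ZMod 5)ˣ) : ZMod 5)] = _
  decide

/-- an element of `P` which is the image of `u 1` -/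
theorem exists_conj_u (S : Hyp 3 H P) (hρ : ρ.range = P) (D : A5Data ρ) {h : GL (Fin 3 ⊕ Fin 3) F} (hh : h ∈ H) :
    ∃ (g : Matrix.SpecialLinearGroup (Fin 2) (ZMod 5)),
      (ρ g * h) * ρ (u 1) * (ρ g * h)⁻¹ = ρ (u 1) ∨ (ρ g * h) * ρ (u 1) * (ρ g * h)⁻¹ = ρ (u 2) := by
  have h1 : h * ρ (u 1) * h⁻¹ ∈ P := S.core.normal h hh _ (hρ ▸ ⟨_, rfl⟩)
  rw [← hρ] at h1
  obtain ⟨v, hv⟩ := h1
  have hv5 : v ^ 5 = 1 := by
    apply D.inj
    rw [map_pow, hv, conj_pow, ← map_pow, u_pow_five, map_one, mul_one, mul_inv_cancel]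
  have hv1 : v ≠ 1 := by
    rintro rfl
    rw [map_one] at hv
    have h2 : ρ (u 1) = 1 := by
      have := hv.symm
      rw [mul_inv_eq_one] at this
      exact mul_eq_left.1 this
    have h3 := D.inj (h2.trans (map_one ρ).symm)
    have h4 := congrFun (congrFun (congrArg mt h3) 0) 1
    revert h4
    decide
  have hvc : ∃ g x, x ≠ 0 ∧ v = g * u x * g⁻¹ := by
    rcases cases5 v with (h0 | h0) | h0 | ⟨g, x, hx, h0⟩ | ⟨-, h0 | h0 | h0⟩
    · exact absurd h0 hv1
    · exfalso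
      rw [h0, Odd.neg_one_pow (by decide)] at hv5
      exact neg_one_ne hv5
    · exact h0
    · exfalso
      rw [h0, Odd.neg_pow (by decide), conj_pow, u_pow_five, mul_one, mul_inv_cancel] at hv5
      exact neg_one_ne hv5
    · exfalso
      apply hv1
      have h3 : v ^ 4 = 1 := by rw [show (4 : ℕ) = 2 * 2 from rfl, pow_mul, h0]; simp only [_root_.even_two, _root_.Even.neg_pow, _root_.one_pow]
      rw [pow_succ, h3, one_mul] at hv5
      exact hv5
    · exfalso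
      apply hv1
      have h3 : v ^ 5 * v = v ^ 3 * v ^ 3 := by rw [← pow_succ, ← pow_add]
      rw [hv5, h0, one_mul, one_mul] at h3
      exact h3
    · exfalso
      apply hv1
      have h3 : v ^ 5 * v = v ^ 3 * v ^ 3 := by rw [← pow_succ, ← pow_add]
      rw [hv5, h0, one_mul] at h3
      rw [h3]; simp
  obtain ⟨g, x, hx, rfl⟩ := hvc
  have key : ∀ a : Matrix.SpecialLinearGroup (Fin 2) (ZMod 5),
      (ρ (a * g⁻¹) * h) * ρ (u 1) * (ρ (a * g⁻¹) * h)⁻¹ = ρ (a * u x * a⁻¹) := by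
    intro a
    have e1 : (ρ (a * g⁻¹) * h) * ρ (u 1) * (ρ (a * g⁻¹) * h)⁻¹ = ρ (a * g⁻¹) * (h * ρ (u 1) * h⁻¹) * (ρ (a * g⁻¹))⁻¹ := by
      group
    rw [e1, ← hv, ← map_inv, ← map_mul, ← map_mul]
    have e2 : a * g⁻¹ * (g * u x * g⁻¹) * (a * g⁻¹)⁻¹ = a * u x * a⁻¹ := by group
    rw [e2]
  have hx4 := z5a x hx
  rcases hx4 with rfl | rfl | rfl | rfl
  · exact ⟨1 * g⁻¹, Or.inl (by rw [key]; simp)⟩
  · exact ⟨1 * g⁻¹, Or.inr (by rw [key]; simp)⟩
  · refine ⟨t two5 * g⁻¹, Or.inr ?_⟩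
    rw [key, t_two_mul_u]
    rfl
  · refine ⟨t two5 * g⁻¹, Or.inl ?_⟩
    rw [key, t_two_mul_u]
    rfl

theorem H_le_P (S : Hyp 3 H P) (hρ : ρ.range = P) (D : A5Data ρ) (h2 : (2 : F) ≠ 0) (h5 : (5 : F) ≠ 0)
    (hbig : ∀ k : ℕ, k ≤ 6 → (k : F) = 2 → k = 2) (hsq : ¬ IsSquare (2 : F)) : H ≤ P := by
  have hP : ∀ g, ρ g ∈ P := fun g => hρ ▸ ⟨g, rfl⟩
  intro h hh
  obtain ⟨g, hg⟩ := exists_conj_u S hρ D hh
  have hgh : ρ g * h ∈ H := H.mul_mem (S.core.le (hP g)) hh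
  suffices ρ g * h ∈ P by
    have h3 := P.mul_mem (P.inv_mem (hP g)) this
    rwa [inv_mul_cancel_left] at h3
  rcases hg with hg | hg
  · obtain ⟨a, ha | ha⟩ := centralizer_u S hρ D hgh hg
    · rw [ha]; exact hP _
    · rw [ha, ← D.map_neg]; exact hP _
  · exfalso
    apply hsq
    generalize ρ g * h = k at hgh hg
    -- `k⁴ = -1`
    have hk2 : k ^ 2 * ρ (u 1) * (k ^ 2)⁻¹ = ρ (u 4) := by
      have e1 : u (2 : ZMod 5) = u 1 * u 1 := by rw [← u_add]; rfl
      have e2 : u (4 : ZMod 5) = u 2 * u 2 := by rw [← u_add]; rfl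
      have e3 : k ^ 2 * ρ (u 1) * (k ^ 2)⁻¹ = k * (k * ρ (u 1) * k⁻¹) * k⁻¹ := by rw [pow_two]; group
      rw [e3, hg, e1, e2, map_mul, map_mul, ← hg]; group
    have hk3 : (ρ (t two5) * k ^ 2) * ρ (u 1) * (ρ (t two5) * k ^ 2)⁻¹ = ρ (u 1) := by
      have e1 : (ρ (t two5) * k ^ 2) * ρ (u 1) * (ρ (t two5) * k ^ 2)⁻¹ =
          ρ (t two5) * (k ^ 2 * ρ (u 1) * (k ^ 2)⁻¹) * (ρ (t two5))⁻¹ := by group
      rw [e1, hk2, ← map_inv, ← map_mul, ← map_mul, t_two_mul_u]
      rfl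
    have hk4 : k ^ 4 = -1 := by
      obtain ⟨a, ha⟩ := centralizer_u S hρ D (H.mul_mem (S.core.le (hP _)) (H.pow_mem hgh 2)) hk3
      have hk2' : k ^ 2 = (ρ (t two5))⁻¹ * ρ (u a) ∨ k ^ 2 = -((ρ (t two5))⁻¹ * ρ (u a)) := by
        rcases ha with ha | ha
        · left; rw [← ha, inv_mul_cancel_left]
        · right; rw [← mul_neg, ← ha, inv_mul_cancel_left]
      have e4 : k ^ 4 = k ^ 2 * k ^ 2 := by rw [← pow_add]
      have e5 : k ^ 4 = ((ρ (t two5))⁻¹ * ρ (u a)) * ((ρ (t two5))⁻¹ * ρ (u a)) := by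
        rcases hk2' with h | h
        · rw [e4, h]
        · rw [e4, h, neg_mul_neg]
      rw [e5, ← map_inv, ← map_mul, ← map_mul]
      have e6 : (t two5)⁻¹ * u a * ((t two5)⁻¹ * u a) = -1 := by
        have e7 : u (4 * (4 * a)) = u a := by rw [z5b]
        have e8 : (t two5)⁻¹ * u a = u (4 * a) * (t two5)⁻¹ := by
          have := t_two_mul_u (4 * a)
          rw [e7] at this
          rw [← this]; group
        have e9 : (t two5)⁻¹ * (t two5)⁻¹ = (-1 : Matrix.SpecialLinearGroup (Fin 2) (ZMod 5)) := by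
          rw [← _root_.mul_inv_rev, t_two_sq, inv_eq_iff_mul_eq_one]
          simp
        calc (t two5)⁻¹ * u a * ((t two5)⁻¹ * u a) = u (4 * a) * (t two5)⁻¹ * ((t two5)⁻¹ * u a) := by rw [e8]
          _ = u (4 * a) * ((t two5)⁻¹ * (t two5)⁻¹) * u a := by group
          _ = -(u (4 * a) * u a) := by rw [e9]; simp
          _ = -1 := by
            rw [← u_add, z5c, u_zero]
      rw [e6, D.neg]
    exact two_square (hρ ▸ S.P_le) D h2 h5 hbig (S.H_le hgh) hk4 hg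

/-! ### the overgroup -/

/-- the reindexing -/
def e6 : Fin 6 ≃ Fin 3 ⊕ Fin 3 := (finSumFinEquiv (m := 3) (n := 3)).symm

theorem exists_over (D : A5Data ρ) (h2 : (2 : F) ≠ 0) (h3 : (3 : F) ≠ 0) (h5 : (5 : F) ≠ 0) {τ : F}
    (hτ : τ * τ = τ + 1) :
    ∃ l : Matrix.SpecialLinearGroup (Fin 2) F →* GL (Fin 3 ⊕ Fin 3) F, ρ.range ≤ l.range ∧
      (∀ g, tr (l g) = sg (t2 g)) ∧ l (u 1) ≠ 1 := by
  obtain ⟨κ, hκ⟩ := exists_kappa h2 h3 h5 hτ
  let l₀ : Matrix.SpecialLinearGroup (Fin 2) F →* GL (Fin 3 ⊕ Fin 3) F :=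
    (reGL (F := F) e6).toMonoidHom.comp sym5
  have htr : ∀ g, tr (l₀ g) = sg (t2 g) := by
    intro g
    have h := trace_reGL e6 (sym5 g)
    have h' := trace_sym5 g
    exact h.trans h'
  have h120 : (120 : F) ≠ 0 := by
    have : (120 : F) = 2 * 2 * 2 * 3 * 5 := by norm_num
    rw [this]
    exact mul_ne_zero (mul_ne_zero (mul_ne_zero (mul_ne_zero h2 h2) h2) h3) h5
  obtain ⟨B, hB⟩ := exists_conj ρ (l₀.comp κ) D.irr.1 (by
    have e : ∑ g : Matrix.SpecialLinearGroup (Fin 2) (ZMod 5),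
        ((l₀.comp κ) g⁻¹ : Matrix (Fin 3 ⊕ Fin 3) (Fin 3 ⊕ Fin 3) F).trace *
          (ρ g : Matrix (Fin 3 ⊕ Fin 3) (Fin 3 ⊕ Fin 3) F).trace = 120 := by
      rw [← sum_product D h2 hκ]
      refine Finset.sum_congr rfl fun g _ => ?_
      rw [← htr]
      rfl
    rw [e]
    exact h120)
  refine ⟨(MulAut.conj B⁻¹).toMonoidHom.comp l₀, ?_, ?_, ?_⟩
  · rintro _ ⟨g, rfl⟩
    refine ⟨κ g, ?_⟩
    change B⁻¹ * l₀ (κ g) * (B⁻¹)⁻¹ = ρ g
    have := hB g
    change l₀ (κ g) = _ at this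
    rw [this]
    group
  · intro g
    change tr (B⁻¹ * l₀ g * (B⁻¹)⁻¹) = _
    rw [tr_conj, htr]
  · intro h
    change B⁻¹ * l₀ (u 1) * (B⁻¹)⁻¹ = 1 at h
    have h1 : l₀ (u 1) = 1 := by
      have : B * (B⁻¹ * l₀ (u 1) * (B⁻¹)⁻¹) * B⁻¹ = B * 1 * B⁻¹ := by rw [h]
      simpa only [mul_assoc, _root_.inv_inv, _root_.mul_inv_cancel_left, _root_.mul_inv_cancel, _root_.mul_one] using this
    have h2 : sym5 (u (1 : F)) = 1 := (reGL (F := F) e6).injective (h1.trans (map_one _).symm)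
    have h3 := congrArg (fun g : GL (Fin 6) F => (g : Matrix (Fin 6) (Fin 6) F) 1 0) h2
    simp [coe_sym5, s5] at h3

/-- `Sp` is big -/
theorem card_spGL_ge {m : ℕ} (hm : 1 ≤ m) : Nat.card F ^ (m + m) ≤ Nat.card (spGL m F) + 1 := by
  classical
  let x0 : Fin m ⊕ Fin m → F := Pi.single (Sum.inl ⟨0, hm⟩) 1
  have hx0 : x0 ≠ 0 := by
    intro h
    have := congrFun h (Sum.inl ⟨0, hm⟩)
    simp [x0] at this
  let φ : Option (spGL m F) → (Fin m ⊕ Fin m → F) := fun o =>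
    match o with
    | none => 0
    | some g => ((g : GL (Fin m ⊕ Fin m) F) : Matrix (Fin m ⊕ Fin m) (Fin m ⊕ Fin m) F) *ᵥ x0
  have hφ : Function.Surjective φ := by
    intro y
    by_cases hy : y = 0
    · exact ⟨none, hy.symm⟩
    · obtain ⟨g, hg, hgx⟩ := H931.exists_spGL_mulVec_eq hx0 hy
      exact ⟨some ⟨g, hg⟩, hgx⟩
  have h1 := Nat.card_le_card_of_surjective φ hφ
  rw [Nat.card_eq_fintype_card, Fintype.card_fun, Fintype.card_sum, Fintype.card_fin,
    Finite.card_option] at h1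
  rwa [Nat.card_eq_fintype_card]

theorem pow_sixty (g : Matrix.SpecialLinearGroup (Fin 2) (ZMod 5)) : g ^ 60 = 1 := by
  rcases cases5 g with (rfl | rfl) | ⟨h, x, -, rfl⟩ | ⟨h, x, -, rfl⟩ | ⟨-, h0 | h0 | h0⟩
  · rw [one_pow]
  · rw [Even.neg_one_pow (by decide)]
  · rw [show (60 : ℕ) = 5 * 12 from rfl, pow_mul, conj_pow, u_pow_five, mul_one, mul_inv_cancel, one_pow]
  · rw [Even.neg_pow (by decide), show (60 : ℕ) = 5 * 12 from rfl, pow_mul, conj_pow, u_pow_five, mul_one,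
      mul_inv_cancel, one_pow]
  · rw [show (60 : ℕ) = 2 * 30 from rfl, pow_mul, h0, Even.neg_one_pow (by decide)]
  · rw [show (60 : ℕ) = 3 * 20 from rfl, pow_mul, h0, one_pow]
  · rw [show (60 : ℕ) = 3 * 20 from rfl, pow_mul, h0, Even.neg_one_pow (by decide)]

theorem a5_false' (S : Hyp 3 H P) (p : ℕ) [hp : Fact p.Prime] [CharP F p] (h7 : 7 ≤ p)
    (hneg : (-1 : GL (Fin 3 ⊕ Fin 3) F) ∈ P)
    (e : Soc P ≃* Matrix.ProjectiveSpecialLinearGroup (Fin 2) (ZMod 5)) (hsq : ¬ IsSquare (2 : F))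
    {τ : F} (hτ : τ * τ = τ + 1) : False := by
  have hne : ∀ k : ℕ, 0 < k → k < p → (k : F) ≠ 0 := by
    intro k h0 hk h
    rw [CharP.cast_eq_zero_iff F p] at h
    exact absurd (Nat.le_of_dvd h0 h) (by omega)
  have h2 : (2 : F) ≠ 0 := by exact_mod_cast hne 2 (by norm_num) (by omega)
  have h3 : (3 : F) ≠ 0 := by exact_mod_cast hne 3 (by norm_num) (by omega)
  have h5 : (5 : F) ≠ 0 := by exact_mod_cast hne 5 (by norm_num) (by omega)
  have hbig : ∀ k : ℕ, k ≤ 6 → (k : F) = 2 → k = 2 := by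
    intro k hk h
    by_contra hk2
    rcases Nat.lt_or_gt_of_ne hk2 with h' | h'
    · have h3 : ((2 - k : ℕ) : F) = 0 := by
        rw [Nat.cast_sub (by omega), h, Nat.cast_ofNat, sub_self]
      exact hne (2 - k) (by omega) (by omega) h3
    · have h3 : ((k - 2 : ℕ) : F) = 0 := by
        rw [Nat.cast_sub (by omega), h, Nat.cast_ofNat, sub_self]
      exact hne (k - 2) (by omega) (by omega) h3
  obtain ⟨ρ, hρ, D⟩ := a5_data S hneg h2 h5 e
  have hHP := H_le_P S hρ D h2 h5 hbig hsq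
  obtain ⟨l, hl, htr, hlu⟩ := exists_over D h2 h3 h5 hτ
  have hLs : l.range ≤ spGL 3 F := by
    refine le_spGL_of_real (by norm_num) S.core.absIrred S.P_le (hρ ▸ hl) ?_
    rintro _ ⟨g, rfl⟩
    rw [← map_inv, htr, htr]
    congr 1
    unfold t2
    have h1 : mt g⁻¹ 0 0 = mt g 1 1 := by
      change (g⁻¹).1 0 0 = _
      rw [Matrix.SpecialLinearGroup.coe_inv, Matrix.adjugate_fin_two]; rfl
    have h2 : mt g⁻¹ 1 1 = mt g 0 0 := by
      change (g⁻¹).1 1 1 = _
      rw [Matrix.SpecialLinearGroup.coe_inv, Matrix.adjugate_fin_two]; rfl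
    rw [h1, h2, add_comm]
  have hHl : H ≤ l.range := hHP.trans (hρ ▸ hl)
  -- `l.range ≠ H`
  have hup : (u (1 : F)) ^ p = 1 := by
    have h : ∀ n : ℕ, u (1 : F) ^ n = u (n : F) := by
      intro n
      induction n with
      | zero => rw [pow_zero, Nat.cast_zero, u_zero]
      | succ n ih => rw [pow_succ, ih, ← u_add, Nat.cast_succ]
    rw [h, CharP.cast_eq_zero, u_zero]
  have hne1 : l.range ≠ H := by
    intro h
    have h1 : l (u 1) ∈ P := hHP (h ▸ ⟨_, rfl⟩)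
    rw [← hρ] at h1
    obtain ⟨g, hg⟩ := h1
    have h2 : l (u 1) ^ 60 = 1 := by rw [← hg, ← map_pow, pow_sixty, map_one]
    have h3 : l (u 1) ^ p = 1 := by rw [← map_pow, hup, map_one]
    have h4 : Nat.Coprime 60 p := by
      rw [Nat.coprime_comm, Nat.Prime.coprime_iff_not_dvd hp.out]
      intro h6
      have h7 : p ∣ 2 ^ 2 * 3 * 5 := by simpa using h6
      rcases (Nat.Prime.dvd_mul hp.out).1 h7 with h | h
      · rcases (Nat.Prime.dvd_mul hp.out).1 h with h | h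
        · have := Nat.le_of_dvd (by norm_num) (hp.out.dvd_of_dvd_pow h)
          omega
        · have := Nat.le_of_dvd (by norm_num) h
          omega
      · have := Nat.le_of_dvd (by norm_num) h
        omega
    have h5 := Nat.dvd_gcd (orderOf_dvd_of_pow_eq_one h2) (orderOf_dvd_of_pow_eq_one h3)
    rw [h4, Nat.dvd_one, orderOf_eq_one_iff] at h5
    exact hlu h5
  -- `l.range ≠ Sp`
  have hne2 : l.range ≠ spGL 3 F := by
    intro h
    have hc1 : Nat.card l.range ≤ Nat.card F ^ 4 := by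
      have h1 : Nat.card l.range ≤ Nat.card (Matrix.SpecialLinearGroup (Fin 2) F) :=
        Nat.card_le_card_of_surjective l.rangeRestrict l.rangeRestrict_surjective
      refine h1.trans ?_
      have h2 : Nat.card (Matrix.SpecialLinearGroup (Fin 2) F) ≤ Nat.card (Matrix (Fin 2) (Fin 2) F) :=
        Nat.card_le_card_of_injective (fun g => mt g) (fun _ _ h => mt_inj h)
      refine h2.trans (le_of_eq ?_)
      rw [Nat.card_eq_fintype_card, Nat.card_eq_fintype_card]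
      change Fintype.card (Fin 2 → Fin 2 → F) = _
      rw [Fintype.card_fun, Fintype.card_fun, Fintype.card_fin, ← pow_mul]
    have h2 := card_spGL_ge (F := F) (m := 3) (by norm_num)
    rw [← h] at h2
    have hq : 7 ≤ Nat.card F := by
      rw [Nat.card_eq_fintype_card]
      obtain ⟨n, -, hn⟩ := FiniteField.card F p
      rw [hn]
      exact h7.trans (Nat.le_self_pow n.pos.ne' p)
    have h3 : Nat.card F ^ 4 * 49 ≤ Nat.card F ^ 6 := by
      have : Nat.card F ^ 6 = Nat.card F ^ 4 * (Nat.card F * Nat.card F) := by ring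
      rw [this]
      exact Nat.mul_le_mul_left _ (Nat.mul_le_mul hq hq)
    have h4 : 1 ≤ Nat.card F ^ 4 := Nat.one_le_pow _ _ (by omega)
    have h5 : Nat.card F ^ (3 + 3) = Nat.card F ^ 6 := rfl
    omega
  exact hne1 (S.eq_of_le hHl hLs hne2)

end Cfsg.Agent.H914.S6
end

-- part: H914/SixRA
section
/-!
# The row `A₅` of `Sp₆` (helper914)
-/

set_option autoImplicit false
set_option linter.unusedSectionVars false
set_option maxHeartbeats 400000

namespace Cfsg.Agent.H914.S6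

open Matrix Cfsg Cfsg.Geo Cfsg.Agent.H915.LD
open scoped MatrixGroups

universe u v

section a5

variable {F : Type u} [Field F] [Fintype F] {H P : Subgroup (GL (Fin 3 ⊕ Fin 3) F)}

/-- the row `A₅` -/
theorem row_a5 (S : Hyp 3 H P) (p : ℕ) [hp : Fact p.Prime] [CharP F p] (e : Soc P ≃* alternatingGroup (Fin 5)) :
    Fintype.card F = p ∧ (p % 40 = 3 ∨ p % 40 = 37 ∨ p % 40 = 13 ∨ p % 40 = 27 ∨ p % 8 = 1 ∨ p % 8 = 7) := by
  obtain ⟨h2, h5, hF, hneg⟩ := H937.T2.sp_six_a5_neg p S.max S.core e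
  refine ⟨hF, ?_⟩
  obtain ⟨e5⟩ := S0253.result (F := ZMod 5) (ZMod.card 5)
  by_contra hcon
  have hodd : p % 2 = 1 := hp.out.eq_two_or_odd.resolve_left h2
  have h5' : p % 5 ≠ 0 := fun h =>
    h5 ((Nat.prime_dvd_prime_iff_eq Nat.prime_five hp.out).1 (Nat.dvd_of_mod_eq_zero h)).symm
  have h8 : p % 8 = 3 ∨ p % 8 = 5 := by (clear * - hcon hodd; omega)
  have h51 : p % 5 = 1 ∨ p % 5 = 4 := by (clear * - hcon h5' h8; omega)
  obtain ⟨τ, hτ⟩ := exists_tau (F := F) p h2 h51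
  have h7 : 7 ≤ p := by
    have := hp.out.two_le
    omega
  exact a5_false' S p h7 hneg (e.trans e5.symm) (not_sq_two p hF h8) hτ

theorem Row6.a5 (S : Hyp 3 H P) (p : ℕ) [hp : Fact p.Prime] [CharP F p]
    (e : Nonempty (Soc P ≃* alternatingGroup (Fin 5))) : Row6 p F (Soc P) := by
  obtain ⟨e⟩ := e
  exact Or.inl ⟨⟨e⟩, row_a5 S p e⟩

end a5

end Cfsg.Agent.H914.S6
end

-- part: H914/SixKA
section
/-!
# Socles excluded from `Sp₆` by parity (helper914)

Mathieu groups, `J₁` (`p = 11`), `PSL₃(4)`, alternating groups of degree at least 8 in odd characteristic.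
-/

set_option autoImplicit false
set_option linter.unusedSectionVars false
set_option maxHeartbeats 400000

namespace Cfsg.Agent.H914.S6

open Matrix Cfsg Cfsg.Geo Cfsg.Agent.H915.LD
open scoped MatrixGroups

universe u v

section kill

variable {F : Type u} [Field F] [Fintype F] {H P : Subgroup (GL (Fin 3 ⊕ Fin 3) F)}

theorem fixA_hyp (S : Hyp 3 H P) : FixA P := H937.T2.fixA_of_spGL S.max S.core

theorem kill_mathieu (S : Hyp 3 H P) {T : Type v} [Group T] (e : Soc P ≃* T) (h1 : H871.Par.Frob11 T)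
    (h2 : H871.Par.Quat9 T) : False := by
  have hne : Nonempty (Fin 3 ⊕ Fin 3) := ⟨Sum.inl 0⟩
  have h6 : Fintype.card (Fin 3 ⊕ Fin 3) = 6 := rfl
  by_cases h11 : (11 : F) = 0
  · have hnot : ∀ k : ℕ, 0 < k → k < 11 → (k : F) ≠ 0 := by
      intro k h0 hk h
      have h3 : CharP F 11 := by
        have h4 := CharP.exists F
        obtain ⟨q, hq⟩ := h4
        have h5 : q ∣ 11 := (CharP.cast_eq_zero_iff F q 11).1 (by exact_mod_cast h11)
        have h7 : q.Prime := CharP.char_is_prime F q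
        rw [Nat.prime_dvd_prime_iff_eq h7 (by norm_num)] at h5
        subst h5
        exact hq
      rw [CharP.cast_eq_zero_iff F 11] at h
      exact absurd (Nat.le_of_dvd h0 h) (by omega)
    have h2F : (2 : F) ≠ 0 := by exact_mod_cast hnot 2 (by norm_num) (by norm_num)
    have h3F : (3 : F) ≠ 0 := by exact_mod_cast hnot 3 (by norm_num) (by norm_num)
    have := (H871.Par.pa_of_fixA (fixA_hyp S) h2F e).of_quat9 h2F h3F h2
    omega
  · have := (H871.Par.pd_of_sd S.toCore S.sd e).of_frob11 h11 h1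
    omega

theorem kill_m11 (S : Hyp 3 H P) (h : Spor.IsoM11 (Soc P)) : False := by
  obtain ⟨e⟩ := h
  exact kill_mathieu S e H871.Par.frob11_M11 H871.Par.quat9_M11

theorem kill_m12 (S : Hyp 3 H P) (h : Spor.IsoM12 (Soc P)) : False := by
  obtain ⟨e⟩ := h
  exact kill_mathieu S e H871.Par.frob11_M12 H871.Par.quat9_M12

theorem kill_m22 (S : Hyp 3 H P) (h : Spor.IsoM22 (Soc P)) : False := by
  obtain ⟨e⟩ := h
  exact kill_mathieu S e H871.Par.frob11_M22 H871.Par.quat9_M22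

theorem kill_m23 (S : Hyp 3 H P) (h : Spor.IsoM23 (Soc P)) : False := by
  obtain ⟨e⟩ := h
  exact kill_mathieu S e H871.Par.frob11_M23 H871.Par.quat9_M23

theorem kill_m24 (S : Hyp 3 H P) (h : Spor.IsoM24 (Soc P)) : False := by
  obtain ⟨e⟩ := h
  exact kill_mathieu S e H871.Par.frob11_M24 H871.Par.quat9_M24

theorem kill_j1_odd (S : Hyp 3 H P) (h2 : (2 : F) ≠ 0) (h : Spor.IsoJ1 (Soc P)) : False := by
  have hne : Nonempty (Fin 3 ⊕ Fin 3) := ⟨Sum.inl 0⟩
  have h6 : Fintype.card (Fin 3 ⊕ Fin 3) = 6 := rfl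
  obtain ⟨e⟩ := h
  have := (H871.Par.pa_of_fixA (fixA_hyp S) h2 (by exact e)).of_frob8 h2 H871.Par.frob8_J1
  omega

theorem kill_l34 (S : Hyp 3 H P) (h2 : (2 : F) ≠ 0) {K : Type v} [Field K] [Fintype K] (hK : Fintype.card K = 4)
    (h : Nonempty (Soc P ≃* Matrix.ProjectiveSpecialLinearGroup (Fin 3) K)) : False := by
  have hne : Nonempty (Fin 3 ⊕ Fin 3) := ⟨Sum.inl 0⟩
  have h6 : Fintype.card (Fin 3 ⊕ Fin 3) = 6 := rfl
  obtain ⟨e⟩ := h
  have := (H871.Par.pa_of_fixA (fixA_hyp S) h2 e).psl34 h2 hK (MulEquiv.refl _)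
  omega

end kill

end Cfsg.Agent.H914.S6
end

-- part: H914/SixKB
section
/-!
# Socles excluded from `Sp₆`: `PSU₄(3)`, `J₃` (helper914)
-/

set_option autoImplicit false
set_option linter.unusedSectionVars false
set_option maxHeartbeats 400000

namespace Cfsg.Agent.H914.S6

open Matrix Cfsg Cfsg.Geo Cfsg.Agent.H915.LD
open scoped MatrixGroups

universe u v

section kill

variable {F : Type u} [Field F] [Fintype F] {H P : Subgroup (GL (Fin 3 ⊕ Fin 3) F)}

theorem not_three_dvd (S : Hyp 3 H P) : ¬ 3 ∣ Nat.card ((scalars (Fin 3 ⊕ Fin 3) F).subgroupOf P) := by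
  intro h
  have : Fact (Nat.Prime 3) := ⟨Nat.prime_three⟩
  obtain ⟨x, hx⟩ := exists_prime_orderOf_dvd_card' 3 h
  have h1 : (x : P) * (x : P) = 1 := by
    apply Subtype.ext
    have h2 : ((x : P) : GL (Fin 3 ⊕ Fin 3) F) ∈ scalars (Fin 3 ⊕ Fin 3) F := Subgroup.mem_subgroupOf.1 x.2
    rcases scalar_cases S.m_pos (S.P_le (x : P).2) h2 with h3 | h3
    · rw [Subgroup.coe_mul, h3, mul_one]; rfl
    · rw [Subgroup.coe_mul, h3, neg_mul_neg, mul_one]; rfl
  have h2 : x ^ 2 = 1 := by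
    rw [pow_two]
    exact Subtype.ext h1
  have h3 := orderOf_dvd_of_pow_eq_one h2
  rw [hx] at h3
  omega

theorem kill_u43 (S : Hyp 3 H P) (h3 : (3 : F) ≠ 0) {K : Type v} [Field K] [Fintype K] (hK : Fintype.card K = 9)
    (h : Nonempty (Soc P ≃* Cfsg.PSU 4 K 3)) : False := by
  have h6 : Fintype.card (Fin 3 ⊕ Fin 3) = 6 := rfl
  obtain ⟨e⟩ := h
  exact not_three_dvd S (H918.U43.three_dvd (by exact_mod_cast h3) hK e (by omega))

theorem kill_j3 (S : Hyp 3 H P) (p : ℕ) [hp : Fact p.Prime] [CharP F p] (h : Spor.IsoJ3 (Soc P)) : False := by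
  have h6 : Fintype.card (Fin 3 ⊕ Fin 3) = 6 := rfl
  have := (H95.JT.j3 p S.toCore h (by omega)).2.1
  omega

end kill

end Cfsg.Agent.H914.S6
end

-- part: H689/Six/U42
section
/-!
# S5806, task 2973 (helper689): no symplectic core of degree 6 of type `U₄(2)` in characteristic `≥ 5`

`five_elem` : `L` acts faithfully and fixes a non-degenerate alternating form, `a ∈ L` is an involution commuting with its
conjugates under `y`, `y ^ 5 = 1`, `a` and `y` do not commute ⟹ the degree is at least 10.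
`u42_six` : `Core P`, `FixA P`, degree 6, `Soc P ≃* PSU 4 K 2`, `|K| = 4`, `p ≥ 5` ⟹ `False`.
-/

set_option autoImplicit false
set_option linter.unusedSectionVars false

namespace Cfsg.Agent.H689.Six

open Module Cfsg Cfsg.Geo Matrix Cfsg.Agent.H912.Bd Cfsg.Agent.H871.Par Cfsg.Agent.H915.LD

universe u v

section gen

variable {L : Type*} [Group L]

/-- the conjugates of `a` under the powers of `y` -/
def orb (a y : L) : Set L := Set.range fun k : ℕ => y ^ k * a * (y ^ k)⁻¹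

theorem comm_orb {a y : L} (hy : y ^ 5 = 1) (h1 : Commute a (y * a * y⁻¹))
    (h2 : Commute a (y ^ 2 * a * (y ^ 2)⁻¹)) : ∀ x ∈ orb a y, ∀ z ∈ orb a y, x * z = z * x := by
  have key : ∀ k : ℕ, Commute a (y ^ k * a * (y ^ k)⁻¹) := by
    intro k
    have hk : y ^ k = y ^ (k % 5) := by
      conv_lhs => rw [← Nat.div_add_mod k 5, pow_add, pow_mul, hy, one_pow, one_mul]
    rw [hk]
    have hlt : k % 5 < 5 := Nat.mod_lt _ (by norm_num)
    have hconj : ∀ j : ℕ, Commute a (y ^ j * a * (y ^ j)⁻¹) → Commute a ((y ^ j)⁻¹ * a * y ^ j) := by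
      intro j hj
      have h3 := (hj.symm)
      show a * ((y ^ j)⁻¹ * a * y ^ j) = (y ^ j)⁻¹ * a * y ^ j * a
      have h4 : y ^ j * a * (y ^ j)⁻¹ * a = a * (y ^ j * a * (y ^ j)⁻¹) := h3
      calc a * ((y ^ j)⁻¹ * a * y ^ j) = (y ^ j)⁻¹ * (y ^ j * a * (y ^ j)⁻¹ * a) * y ^ j := by group
        _ = (y ^ j)⁻¹ * (a * (y ^ j * a * (y ^ j)⁻¹)) * y ^ j := by rw [h4]
        _ = _ := by group
    have e3 : y ^ 3 = (y ^ 2)⁻¹ := by rw [eq_inv_iff_mul_eq_one, ← pow_add]; exact hy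
    have e4 : y ^ 4 = (y ^ 1)⁻¹ := by rw [eq_inv_iff_mul_eq_one, ← pow_add]; exact hy
    interval_cases (k % 5)
    · simp
    · simpa only [_root_.pow_one] using h1
    · exact h2
    · rw [e3, inv_inv]; exact hconj 2 h2
    · rw [e4, inv_inv]; exact hconj 1 (by simpa only [_root_.pow_one] using h1)
  have key2 : ∀ i j : ℕ, i ≤ j → Commute (y ^ i * a * (y ^ i)⁻¹) (y ^ j * a * (y ^ j)⁻¹) := by
    intro i j hij
    obtain ⟨k, rfl⟩ := Nat.exists_eq_add_of_le hij
    have h3 := key k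
    have e : y ^ (i + k) * a * (y ^ (i + k))⁻¹ = y ^ i * (y ^ k * a * (y ^ k)⁻¹) * (y ^ i)⁻¹ := by
      rw [pow_add]; group
    rw [e]
    show _ * _ = _ * _
    calc y ^ i * a * (y ^ i)⁻¹ * (y ^ i * (y ^ k * a * (y ^ k)⁻¹) * (y ^ i)⁻¹)
        = y ^ i * (a * (y ^ k * a * (y ^ k)⁻¹)) * (y ^ i)⁻¹ := by group
      _ = y ^ i * ((y ^ k * a * (y ^ k)⁻¹) * a) * (y ^ i)⁻¹ := by rw [h3.eq]
      _ = _ := by group
  rintro _ ⟨i, rfl⟩ _ ⟨j, rfl⟩
  rcases le_total i j with h | h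
  · exact key2 i j h
  · exact (key2 j i h).symm

end gen

variable {K : Type*} [Field K] [IsAlgClosed K] {V : Type*} [AddCommGroup V] [Module K V] [FiniteDimensional K V]

theorem five_elem {L : Type*} [Group L] (ρ : L →* Module.End K V) (hρ : Function.Injective ρ) (h2 : (2 : K) ≠ 0)
    (B : LinearMap.BilinForm K V) (hnd : ∀ u, (∀ v, B u v = 0) → u = 0) (hinv : ∀ g u v, B (ρ g u) (ρ g v) = B u v)
    (halt : B.IsAlt) {a y : L} (ha : a * a = 1) (hy : y ^ 5 = 1) (h1 : Commute a (y * a * y⁻¹))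
    (hh : Commute a (y ^ 2 * a * (y ^ 2)⁻¹)) (hne : y * a * y⁻¹ ≠ a) : 10 ≤ finrank K V := by
  have hcomm := comm_orb hy h1 hh
  set A : Subgroup L := Subgroup.closure (orb a y) with hAdef
  have hcen : A ≤ Subgroup.centralizer (A : Set L) := by
    have h3 : orb a y ⊆ Subgroup.centralizer (A : Set L) := by
      intro x hx
      rw [SetLike.mem_coe, Subgroup.mem_centralizer_iff]
      have h4 : A ≤ Subgroup.centralizer {x} := by
        rw [hAdef, Subgroup.closure_le]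
        intro z hz
        rw [SetLike.mem_coe, Subgroup.mem_centralizer_iff]
        intro w hw
        rw [Set.mem_singleton_iff] at hw
        rw [hw]
        exact hcomm _ hx _ hz
      intro z hz
      have h5 := h4 hz
      rw [Subgroup.mem_centralizer_iff] at h5
      exact (h5 x rfl).symm
    rw [hAdef, Subgroup.closure_le]
    exact h3
  have hA : ∀ a ∈ A, ∀ b ∈ A, a * b = b * a := by
    intro x hx z hz
    have h3 := hcen hx
    rw [Subgroup.mem_centralizer_iff] at h3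
    exact (h3 z hz).symm
  have hA2 : ∀ x ∈ A, x * x = 1 := by
    intro x hx
    have hx' := hx
    rw [hAdef] at hx
    induction hx using Subgroup.closure_induction with
    | mem x hx =>
      obtain ⟨k, rfl⟩ := hx
      show y ^ k * a * (y ^ k)⁻¹ * (y ^ k * a * (y ^ k)⁻¹) = 1
      calc y ^ k * a * (y ^ k)⁻¹ * (y ^ k * a * (y ^ k)⁻¹) = y ^ k * (a * a) * (y ^ k)⁻¹ := by group
        _ = 1 := by rw [ha]; group
    | one => exact mul_one 1
    | mul x z hx hz ihx ihz =>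
      have h3 := hA x hx z hz
      calc x * z * (x * z) = x * (z * x) * z := by group
        _ = x * (x * z) * z := by rw [h3]
        _ = (x * x) * (z * z) := by group
        _ = 1 := by rw [ihx hx, ihz hz, one_mul]
    | inv x hx ih =>
      have h3 := ih hx
      rw [← _root_.mul_inv_rev, h3, inv_one]
  have hyA : ∀ x ∈ A, y * x * y⁻¹ ∈ A := by
    have h3 : A ≤ A.comap (MulAut.conj y).toMonoidHom := by
      conv_lhs => rw [hAdef]
      rw [Subgroup.closure_le]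
      rintro _ ⟨k, rfl⟩
      show y * (y ^ k * a * (y ^ k)⁻¹) * y⁻¹ ∈ A
      apply Subgroup.subset_closure
      refine ⟨k + 1, ?_⟩
      show y ^ (k + 1) * a * (y ^ (k + 1))⁻¹ = _
      rw [pow_succ']; group
    exact fun x hx => h3 hx
  have haA : a ∈ A := Subgroup.subset_closure ⟨0, by simp⟩
  have hA2' : ∀ a ∈ A, a ^ 2 = 1 := fun a ha => by rw [pow_two]; exact hA2 a ha
  have hN : ((2 : ℕ) : K) ≠ 0 := by exact_mod_cast h2
  have h5 : Nat.Prime 5 := by norm_num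
  have := prime_mul_le ρ hA hN hA2' hyA h5 (fun x _ => by rw [hy]; group) haA
    (fun h => hne (mul_inv_eq_one.1 (hρ (h.trans (map_one ρ).symm)))) (d := 2) (by
    intro χ hχ
    have hev : Even (finrank K (wt ρ A χ)) := by
      apply even_wt ρ hA hN hA2' B hnd hinv halt
      intro a
      rw [← wt_mul ρ hχ, show a * a = 1 from Subtype.ext (hA2 a a.2), wt_one ρ hχ]
    obtain ⟨k, hk⟩ := hev
    have : Nontrivial (wt ρ A χ) := Submodule.nontrivial_iff_ne_bot.2 hχ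
    have h3 : 0 < finrank K (wt ρ A χ) := finrank_pos
    omega)
  omega

/-! ### The elements of `Sp₄(3)` -/

open Cfsg.Agent.H659.Sp4

/-- the involution -/
def aM : Matrix (Fin 2 ⊕ Fin 2) (Fin 2 ⊕ Fin 2) (ZMod 3) :=
  Matrix.fromBlocks !![0, 1; 0, 0] !![0, 1; 2, 0] !![0, 2; 1, 0] !![0, 0; 1, 0]

/-- the element of order 5 -/
def yM : Matrix (Fin 2 ⊕ Fin 2) (Fin 2 ⊕ Fin 2) (ZMod 3) :=
  Matrix.fromBlocks !![2, 2; 2, 0] !![1, 0; 0, 1] !![2, 0; 0, 2] !![0, 0; 0, 0]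

theorem aM_mem : aM ∈ Matrix.symplecticGroup (Fin 2) (ZMod 3) := by
  rw [SymplecticGroup.mem_iff]; decide +kernel
theorem yM_mem : yM ∈ Matrix.symplecticGroup (Fin 2) (ZMod 3) := by
  rw [SymplecticGroup.mem_iff]; decide +kernel

def aS : Sp := ⟨aM, aM_mem⟩
def yS : Sp := ⟨yM, yM_mem⟩

theorem a_sq : aS * aS = 1 := Subtype.ext (by decide +kernel)
theorem y_five : yS ^ 5 = 1 := Subtype.ext (by decide +kernel)
theorem y_inv : yS⁻¹ = yS ^ 4 := by
  rw [inv_eq_iff_mul_eq_one, ← pow_succ']; exact y_five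
theorem y2_inv : (yS ^ 2)⁻¹ = yS ^ 3 := by
  rw [inv_eq_iff_mul_eq_one, ← pow_add]; exact y_five

theorem rel1 : aS * (yS * aS * yS ^ 4) = negG * ((yS * aS * yS ^ 4) * aS) ∨
    aS * (yS * aS * yS ^ 4) = (yS * aS * yS ^ 4) * aS := by
  have h : (aM * (yM * aM * yM ^ 4) = -((yM * aM * yM ^ 4) * aM)) ∨
    (aM * (yM * aM * yM ^ 4) = ((yM * aM * yM ^ 4) * aM)) := by decide +kernel
  rcases h with h | h
  · left
    apply Subtype.ext
    show aM * (yM * aM * yM ^ 4) = negG.1 * ((yM * aM * yM ^ 4) * aM)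
    rw [negG_val, h, neg_mul, one_mul]
  · right
    exact Subtype.ext h

theorem rel2 : aS * (yS ^ 2 * aS * yS ^ 3) = negG * ((yS ^ 2 * aS * yS ^ 3) * aS) ∨
    aS * (yS ^ 2 * aS * yS ^ 3) = (yS ^ 2 * aS * yS ^ 3) * aS := by
  have h : (aM * (yM ^ 2 * aM * yM ^ 3) = -((yM ^ 2 * aM * yM ^ 3) * aM)) ∨
    (aM * (yM ^ 2 * aM * yM ^ 3) = ((yM ^ 2 * aM * yM ^ 3) * aM)) := by decide +kernel
  rcases h with h | h
  · left
    apply Subtype.ext
    show aM * (yM ^ 2 * aM * yM ^ 3) = negG.1 * ((yM ^ 2 * aM * yM ^ 3) * aM)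
    rw [negG_val, h, neg_mul, one_mul]
  · right
    exact Subtype.ext h

theorem rel3 : yS * aS * yS ^ 4 ≠ aS ∧ yS * aS * yS ^ 4 ≠ negG * aS := by
  have h : (yM * aM * yM ^ 4 ≠ aM) ∧ (yM * aM * yM ^ 4 ≠ -aM) := by decide +kernel
  refine ⟨fun e => h.1 ((congrArg Subtype.val e :)), fun e => h.2 ?_⟩
  have e' : yM * aM * yM ^ 4 = negG.1 * aM := (congrArg Subtype.val e :)
  rw [e', negG_val, neg_mul, one_mul]

/-- the elements of `PSp₄(3)` -/
theorem exists_elems : ∃ a y : PSp 2 (ZMod 3), a * a = 1 ∧ y ^ 5 = 1 ∧ (Commute a (y * a * y⁻¹) :) ∧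
    Commute a (y ^ 2 * a * (y ^ 2)⁻¹) ∧ y * a * y⁻¹ ≠ a := by
  let π : Sp →* PSp 2 (ZMod 3) := QuotientGroup.mk' (Subgroup.center Sp)
  have hneg : π negG = 1 := by
    refine (QuotientGroup.eq_one_iff negG).2 ?_
    rw [Subgroup.mem_center_iff]
    intro g
    apply Subtype.ext
    change g.1 * negG.1 = negG.1 * g.1
    rw [negG_val, mul_neg, neg_mul, mul_one, one_mul]
  refine ⟨π aS, π yS, ?_, ?_, ?_, ?_, ?_⟩
  · rw [← map_mul, a_sq, map_one]
  · rw [← map_pow, y_five, map_one]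
  · rw [← map_inv, y_inv, ← map_mul, ← map_mul]
    show _ * _ = _ * _
    rw [← map_mul, ← map_mul]
    rcases rel1 with h | h
    · rw [h, map_mul, hneg, one_mul]
    · rw [h]
  · rw [← map_pow, ← map_inv, y2_inv, ← map_mul, ← map_mul]
    show _ * _ = _ * _
    rw [← map_mul, ← map_mul]
    rcases rel2 with h | h
    · rw [h, map_mul, hneg, one_mul]
    · rw [h]
  · rw [← map_inv, y_inv, ← map_mul, ← map_mul]
    intro h
    have h1 : (yS * aS * yS ^ 4)⁻¹ * aS ∈ Subgroup.center Sp := QuotientGroup.eq.1 h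
    rcases center_sp h1 with h2 | h2
    · exact rel3.1 (inv_mul_eq_one.1 h2)
    · apply rel3.2
      have h3 : aS = yS * aS * yS ^ 4 * negG := inv_mul_eq_iff_eq_mul.1 h2
      have hc : ∀ g : Sp, g * negG = negG * g := by
        intro g
        apply Subtype.ext
        change g.1 * negG.1 = negG.1 * g.1
        rw [negG_val, mul_neg, neg_mul, mul_one, one_mul]
      conv_rhs => rw [h3, hc, ← mul_assoc, negG_sq, one_mul]

section main

variable {ι : Type} [Fintype ι] [DecidableEq ι] {F : Type u} [Field F] [Finite F] {P : Subgroup (GL ι F)}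

/-- the form over the algebraic closure -/
theorem exists_alt [Nonempty ι] (hA : FixA P) (h2 : (2 : F) ≠ 0) :
    ∃ B : LinearMap.BilinForm (AlgebraicClosure F) (ι → AlgebraicClosure F),
      (∀ u, (∀ v, B u v = 0) → u = 0) ∧ (∀ g u v, B (repP P g u) (repP P g v) = B u v) ∧ B.IsAlt := by
  obtain ⟨f, hf, hfix⟩ := hA
  obtain ⟨B, h1, h3, h4⟩ := exists_form hf.bilinear hf.nondegenerate hfix
  refine ⟨B, h1, h3, ?_⟩
  have hskew : (_root_.Cfsg.Agent.H871.Par.gram f)ᵀ = - _root_.Cfsg.Agent.H871.Par.gram f := by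
    ext i j
    exact hf.skew _ _
  intro u
  have h5 : B u u = - B u u := by
    conv_lhs => rw [h4, Matrix.dotProduct_mulVec, ← Matrix.mulVec_transpose, dotProduct_comm]
    rw [h4, ← Matrix.transpose_map, hskew]
    have h6 : (-_root_.Cfsg.Agent.H871.Par.gram f).map (algebraMap F (AlgebraicClosure F)) = - (_root_.Cfsg.Agent.H871.Par.gram f).map (algebraMap F (AlgebraicClosure F)) := by
      ext i j
      simp only [_root_.Matrix.map_apply, _root_.Matrix.neg_apply, _root_.map_neg]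
    rw [h6, Matrix.neg_mulVec, dotProduct_neg]
  have h6 : (2 : AlgebraicClosure F) * B u u = 0 := by linear_combination h5
  exact (mul_eq_zero.1 h6).resolve_left (two_ne h2)

/-- **Task 2973**, for `PSp₄(3)` -/
theorem psp43_six (p : ℕ) [hpp : Fact p.Prime] [CharP F p] (hp : 5 ≤ p) (hC : Core P) (hA : FixA P)
    (hn : Fintype.card ι = 6) (e : Soc P ≃* PSp 2 (ZMod 3)) : False := by
  have hne := hC.nonempty
  have h2 : (2 : F) ≠ 0 := by
    intro h
    have h1 : ((2 : ℕ) : F) = 0 := by exact_mod_cast h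
    rw [CharP.cast_eq_zero_iff F p] at h1
    have := Nat.le_of_dvd (by norm_num) h1
    omega
  have hbot : (scalars ι F).subgroupOf P = ⊥ := by
    rcases u42_stage hC p (by omega) (by omega) (by omega) (k := ZMod 3) rfl e with h | ⟨-, h, -⟩ | ⟨-, h, -⟩
    · omega
    · exact h
    · exact h
  have hinj : Function.Injective (e.toMonoidHom.comp (toSoc P)) := by
    rw [← MonoidHom.ker_eq_bot_iff, ker_comp e, hbot]
  let E : P ≃* PSp 2 (ZMod 3) :=
    MulEquiv.ofBijective (e.toMonoidHom.comp (toSoc P)) ⟨hinj, e.surjective.comp (toSoc_surjective P)⟩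
  obtain ⟨a, y, ha, hy, h1, h3, h4⟩ := exists_elems
  obtain ⟨B, hB1, hB2, hB3⟩ := exists_alt hA h2
  have hc : ∀ {c d : PSp 2 (ZMod 3)}, Commute c d → Commute (E.symm c) (E.symm d) := fun {c d} h => h.map E.symm
  have h5 := five_elem (repP P) (repP_injective P) (two_ne h2) B hB1 hB2 hB3 (a := E.symm a) (y := E.symm y)
    (by rw [← map_mul, ha, map_one]) (by rw [← map_pow, hy, map_one])
    (by rw [← map_inv, ← map_mul, ← map_mul]; exact hc h1)
    (by rw [← map_pow, ← map_inv, ← map_mul, ← map_mul]; exact hc h3)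
    (by rw [← map_inv, ← map_mul, ← map_mul]; exact fun h => h4 (E.symm.injective h))
  rw [Module.finrank_fintype_fun_eq_card, hn] at h5
  omega

/-- **Task 2973** -/
theorem u42_six (p : ℕ) [hpp : Fact p.Prime] [CharP F p] (hp : 5 ≤ p) (hC : Core P) (hA : FixA P)
    (hn : Fintype.card ι = 6) {K : Type} [Field K] [Fintype K] (hK : Fintype.card K = 4) (e : Soc P ≃* PSU 4 K 2) :
    False := by
  obtain ⟨e4⟩ := Cfsg.Agent.S0822.result (F := K) (K := ZMod 3) hK rfl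
  exact psp43_six p hp hC hA hn (e.trans e4)

end main

end Cfsg.Agent.H689.Six
end

-- part: H914/SixKC
section
/-!
# Socles excluded from `Sp₆`: `PSU₄(2)`, `PSp₆(2)`, `PΩ₈⁺(2)`, `A_m` (`m ≥ 8`), `J₁`, `Suz` (helper914)
-/

set_option autoImplicit false
set_option linter.unusedSectionVars false
set_option maxHeartbeats 400000

namespace Cfsg.Agent.H914.S6

open Matrix Cfsg Cfsg.Geo Cfsg.Agent.H915.LD
open scoped MatrixGroups

universe u v

section kill

variable {F : Type u} [Field F] [Fintype F] {H P : Subgroup (GL (Fin 3 ⊕ Fin 3) F)}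

theorem kill_u42 (S : Hyp 3 H P) (p : ℕ) [hp : Fact p.Prime] [CharP F p] (h5 : 5 ≤ p) {K : Type} [Field K]
    [Fintype K] (hK : Fintype.card K = 4) (h : Nonempty (Soc P ≃* Cfsg.PSU 4 K 2)) : False := by
  obtain ⟨e⟩ := h
  exact H689.Six.u42_six p h5 S.toCore (H937.T2.fixA_of_spGL S.max S.core) rfl hK e

theorem kill_s62 (S : Hyp 3 H P) (p : ℕ) [hp : Fact p.Prime] [CharP F p] (h2 : (2 : F) ≠ 0) {K : Type} [Field K]
    [Fintype K] (hK : Fintype.card K = 2) (h : Nonempty (Soc P ≃* Cfsg.PSp 3 K)) : False := by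
  have h6 : Fintype.card (Fin 3 ⊕ Fin 3) = 6 := rfl
  obtain ⟨e⟩ := h
  have := (H916.T8.sp hK S.toCore p e h2 (by omega)).1
  omega

theorem kill_o82 (S : Hyp 3 H P) (p : ℕ) [hp : Fact p.Prime] [CharP F p] (h2 : (2 : F) ≠ 0) {K : Type} [Field K]
    [Fintype K] (hK : Fintype.card K = 2) (h : Nonempty (Soc P ≃* Cfsg.POmega K (Cfsg.quadFormPlus 4 K))) : False := by
  have h6 : Fintype.card (Fin 3 ⊕ Fin 3) = 6 := rfl
  obtain ⟨e⟩ := h
  have := (H916.T8.om hK S.toCore p e h2 (by omega)).1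
  omega

theorem kill_j1 (S : Hyp 3 H P) (p : ℕ) [hp : Fact p.Prime] [CharP F p] (h11 : p ≠ 11)
    (h : Spor.IsoJ1 (Soc P)) : False := by
  have h6 : Fintype.card (Fin 3 ⊕ Fin 3) = 6 := rfl
  exact H659.J1.not_core S.toCore h p h11 (by omega)

theorem kill_suz (S : Hyp 3 H P) (p : ℕ) [hp : Fact p.Prime] [CharP F p] (h : Spor.IsoSuz (Soc P)) : False := by
  have h6 : Fintype.card (Fin 3 ⊕ Fin 3) = 6 := rfl
  obtain ⟨e⟩ := h
  by_cases h3 : p = 3
  · subst h3
    have := (H878.Sz.core_Suz_three S.toCore e (by omega)).1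
    omega
  · have := (H878.Sz.core_Suz S.toCore e (by omega) p h3).1
    omega

/-- `A_m`, `m ≥ 8` -/
theorem kill_alt (S : Hyp 3 H P) (p : ℕ) [hp : Fact p.Prime] [CharP F p] {m : ℕ} (hm : 8 ≤ m)
    (h82 : ¬ (m = 8 ∧ p = 2)) (h : Nonempty (Soc P ≃* alternatingGroup (Fin m))) : False := by
  have h6 : Fintype.card (Fin 3 ⊕ Fin 3) = 6 := rfl
  obtain ⟨e⟩ := h
  rcases H614.AMod.Main.alt_cases S.toCore p e hm (by omega) h82 with h | h | h
  · rcases h.dim S.toCore hm p with ⟨-, h⟩ | ⟨h7, h⟩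
    · omega
    · have h8 : m = 8 := by omega
      refine h82 ⟨h8, ?_⟩
      rw [h8] at h7
      have h9 : p ∣ 2 ^ 3 := by exact_mod_cast h7
      exact (Nat.prime_dvd_prime_iff_eq hp.out Nat.prime_two).1 (hp.out.dvd_of_dvd_pow h9)
  · have := h.n8
    omega
  · omega

end kill

end Cfsg.Agent.H914.S6
end

-- part: H914/SixKG
section
/-!
# `G₂(4)` is not a socle in `Sp₆` in odd characteristic (helper914)

`SL₃(4) < G₂(4)`, `2^4:SL₂(4) < SL₃(4)`.
-/

set_option autoImplicit false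
set_option linter.unusedSectionVars false
set_option maxHeartbeats 400000

namespace Cfsg.Agent.H914.S6

open Matrix Cfsg Cfsg.Geo Cfsg.Agent.H915.LD
open scoped MatrixGroups

universe u v w

/-- `SL₃(4)` -/
theorem PA_sl34 {F : Type u} [Field F] {n : ℕ} {T : Type v} [Group T] (h : H871.Par.PA F n T) (h2 : (2 : F) ≠ 0)
    {K : Type w} [Field K] [Fintype K] (hK : Fintype.card K = 4) (φ : Matrix.SpecialLinearGroup (Fin 3) K →* T)
    (hφ : Function.Injective φ) : 10 ≤ n := by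
  have hpow : ∀ x : K, x ^ 4 = x := by
    intro x
    rw [← hK]; exact FiniteField.pow_card x
  have hchar : CharP K 2 := by
    obtain ⟨p, hp⟩ := CharP.exists K
    have : Fact p.Prime := ⟨CharP.char_is_prime K p⟩
    have h1 : p ∣ Fintype.card K := by
      obtain ⟨n, -, hn⟩ := FiniteField.card K p
      rw [hn]; exact dvd_pow_self _ n.pos.ne'
    rw [hK] at h1
    have h2 : p ∣ 2 := this.out.dvd_of_dvd_pow (show p ∣ 2 ^ 2 from h1)
    rw [(Nat.prime_dvd_prime_iff_eq this.out Nat.prime_two).1 h2] at hp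
    exact hp
  have hex : ∃ x : K, x ≠ 0 ∧ x ≠ 1 := by
    classical
    by_contra hcon
    push Not at hcon
    have h1 : (Finset.univ : Finset K) ⊆ {0, 1} := by
      intro x _
      rw [Finset.mem_insert, Finset.mem_singleton]
      by_cases h0 : x = 0
      · exact Or.inl h0
      · exact Or.inr (hcon x h0)
    have h2 := Finset.card_le_card h1
    rw [Finset.card_univ, hK] at h2
    have h3 : ({0, 1} : Finset K).card ≤ 2 := Finset.card_le_two
    omega
  obtain ⟨w, hw0, hw1⟩ := hex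
  have hw : w ^ 2 + w + 1 = 0 := by
    have h1 : w * (w - 1) * (w ^ 2 + w + 1) = 0 := by linear_combination hpow w
    exact (mul_eq_zero.1 h1).resolve_left (mul_ne_zero hw0 (sub_ne_zero.2 hw1))
  refine (h.sub φ hφ).sixteen h2 hw H871.Par.tr3 H871.Par.tr3_add ?_ ?_
  · intro x y hxy
    have h1 : x.1 = y.1 := congrFun (congrFun (congrArg Subtype.val hxy) 0) 2
    have h3 : x.2 = y.2 := congrFun (congrFun (congrArg Subtype.val hxy) 1) 2
    exact Prod.ext h1 h3
  · intro a b c d hdet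
    let g : _root_.Matrix.SpecialLinearGroup (Fin 3) K := ⟨!![a, b, 0; c, d, 0; 0, 0, 1], by
      simp [Matrix.det_fin_three]; linear_combination hdet⟩
    refine ⟨g, fun x => ?_⟩
    rw [mul_inv_eq_iff_eq_mul]
    apply Subtype.ext
    change !![a, b, 0; c, d, 0; 0, 0, 1] * !![1, 0, x.1; 0, 1, x.2; 0, 0, 1] =
      !![1, 0, a * x.1 + b * x.2; 0, 1, c * x.1 + d * x.2; 0, 0, 1] * !![a, b, 0; c, d, 0; 0, 0, 1]
    ext i j
    (revert i j; simp only [Matrix.mul_apply, Fin.sum_univ_three, _root_.Fin.forall_fin_succ, _root_.Matrix.of_apply, _root_.Matrix.cons_val', _root_.Matrix.cons_val_fin_one, Fin.isValue, _root_.Matrix.cons_val_zero, _root_.Matrix.cons_val_one, _root_.Matrix.cons_val, _root_.mul_one, _root_.MulZeroClass.mul_zero, _root_.add_zero, _root_.Matrix.cons_val_succ, _root_.zero_add, _root_.forall_const, _root_.one_mul, _root_.MulZeroClass.zero_mul, _root_.and_self, _root_.implies_true])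

section G2
open Cfsg.Agent.H161.Oct

/-- the homomorphism from `SL₃(q)` -/
noncomputable def slToG2 (F : Type v) [Field F] : Matrix.SpecialLinearGroup (Fin 3) F →* ↥(Cfsg.Lie.G2 F) where
  toFun P := ⟨(toE F).symm (slM F P), by
    rw [← toE_mem, MulEquiv.apply_symm_apply]; exact slM_mem P⟩
  map_one' := by
    apply Subtype.ext
    show (toE F).symm (slM F 1) = 1
    rw [map_one, map_one]
  map_mul' P Q := by
    apply Subtype.ext
    show (toE F).symm (slM F (P * Q)) = (toE F).symm (slM F P) * (toE F).symm (slM F Q)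
    rw [map_mul, map_mul]

theorem slToG2_inj (F : Type v) [Field F] : Function.Injective (slToG2 F) := by
  intro P Q h
  have h1 : (toE F).symm (slM F P) = (toE F).symm (slM F Q) := congrArg Subtype.val h
  exact slM_inj ((toE F).symm.injective h1)

end G2

section kill

variable {F : Type u} [Field F] [Fintype F] {H P : Subgroup (GL (Fin 3 ⊕ Fin 3) F)}

theorem kill_g24 (S : Hyp 3 H P) (h2 : (2 : F) ≠ 0) {K : Type} [Field K] [Fintype K] (hK : Fintype.card K = 4)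
    (h : Nonempty (Soc P ≃* Cfsg.Lie.chevG2.group K)) : False := by
  have hne : Nonempty (Fin 3 ⊕ Fin 3) := ⟨Sum.inl 0⟩
  have h6 : Fintype.card (Fin 3 ⊕ Fin 3) = 6 := rfl
  obtain ⟨e⟩ := h
  obtain ⟨f⟩ := H638.G2Iso.equiv (F := K)
  have := PA_sl34 (H871.Par.pa_of_fixA (fixA_hyp S) h2 (e.trans f.symm)) h2 hK (slToG2 K) (slToG2_inj K)
  omega

end kill

end Cfsg.Agent.H914.S6
end

-- part: H914/SixJTwo
section
/-!
# N5: `J₂` is not a residual socle of `Sp₆(2^a)` (helper914)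

`jtwo_two` : `Hyp 3 H P`, characteristic two, `IsoJ2 (Soc P)` is absurd.
-/

set_option autoImplicit false
set_option linter.unusedSectionVars false
set_option maxHeartbeats 400000

namespace Cfsg.Agent.H914.S6.Spin.J

open Matrix Cfsg Cfsg.Geo Cfsg.Agent.H915.LD Module
open scoped MatrixGroups

universe u v

variable {F : Type u} [Field F]

theorem card_E : Fintype.card E = 8 := rfl

/-- the index set -/
noncomputable def e8 : E ≃ Fin 8 := Fintype.equivFinOfCardEq card_E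

/-- the form as a bilinear form -/
noncomputable def B (F : Type u) [Field F] : LinearMap.BilinForm F (E → F) := Matrix.toBilin' (C (Matrix.J (Fin 3) F))

theorem B_apply (x y : E → F) : B F x y = x ⬝ᵥ (C (Matrix.J (Fin 3) F) *ᵥ y) := by
  unfold B
  rw [Matrix.toBilin'_apply']

theorem B_nondeg (h2 : (2 : F) = 0) : (B F).Nondegenerate := by
  unfold B
  apply LinearMap.BilinForm.nondegenerate_toBilin'_of_det_ne_zero'
  have h1 : C (Matrix.J (Fin 3) F) * C (Matrix.J (Fin 3) F) = 1 := by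
    rw [← C_mul h2 Sy.J Sy.J, Matrix.J_squared]
    have : (-1 : Matrix (Fin 3 ⊕ Fin 3) (Fin 3 ⊕ Fin 3) F) = 1 := by
      ext i j
      rw [Matrix.neg_apply]
      linear_combination (-((1 : Matrix (Fin 3 ⊕ Fin 3) (Fin 3 ⊕ Fin 3) F) i j)) * h2
    rw [this, C_one]
  intro h
  have h3 := congrArg Matrix.det h1
  rw [Matrix.det_mul, h, zero_mul, Matrix.det_one] at h3
  exact zero_ne_one h3

section Small

variable {G : Type v} [Group G] [Finite G] (hJ : Spor.IsoJ2 G) (h2 : (2 : F) = 0)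
  (A : G →* Matrix E E F)
include hJ h2

/-- an invariant subspace of dimension at most five is fixed -/
theorem fixed_of_small {U : Submodule F (E → F)} (hU : ∀ g, ∀ x ∈ U, A g *ᵥ x ∈ U) (h5 : finrank F U ≤ 5) :
    ∀ g, ∀ x ∈ U, A g *ᵥ x = x := by
  have hch : CharP F 2 := CharTwo.of_one_ne_zero_of_two_eq_zero one_ne_zero h2
  have hU' : ∀ g, ∀ x ∈ U, Matrix.toLin' (A g) x ∈ U := hU
  let r : G →* Module.End F U :=
    { toFun := fun g => (Matrix.toLin' (A g)).restrict (hU' g)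
      map_one' := by
        apply LinearMap.ext
        intro x
        apply Subtype.ext
        change A 1 *ᵥ (x : E → F) = x
        rw [map_one, Matrix.one_mulVec]
      map_mul' := fun a b => by
        apply LinearMap.ext
        intro x
        apply Subtype.ext
        change A (a * b) *ᵥ (x : E → F) = A a *ᵥ (A b *ᵥ (x : E → F))
        rw [map_mul, Matrix.mulVec_mulVec] }
  let b := Module.finBasis F U
  let f : G →* GL (Fin (finrank F U)) F :=
    ((((LinearMap.toMatrixAlgEquiv b).toAlgHom.toRingHom : Module.End F U →* Matrix (Fin (finrank F U)) (Fin (finrank F U)) F).comp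
      r).toHomUnits :)
  have hf := H4.JT.j2_two_min hJ h5 f
  intro g x hx
  have h1 : (LinearMap.toMatrixAlgEquiv b) (r g) = 1 := by
    have : f g = 1 := by rw [hf, MonoidHom.one_apply]
    exact congrArg Units.val this
  have h3 : r g = 1 := by
    apply (LinearMap.toMatrixAlgEquiv b).injective
    rw [h1, map_one]
  have h4 := (congrArg (fun t : Module.End F U => ((t ⟨x, hx⟩ : U) : E → F)) h3 :)
  exact h4

/-- there is a small invariant subspace -/
theorem exists_small (hB : ∀ g x y, B F (A g *ᵥ x) (A g *ᵥ y) = B F x y) :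
    ∃ U : Submodule F (E → F), U ≠ ⊥ ∧ (∀ g, ∀ x ∈ U, A g *ᵥ x ∈ U) ∧ finrank F U ≤ 5 := by
  have hch : CharP F 2 := CharTwo.of_one_ne_zero_of_two_eq_zero one_ne_zero h2
  let f : G →* GL (Fin 8) F :=
    (((Matrix.reindexAlgEquiv F F e8).toAlgHom.toRingHom : Matrix E E F →* Matrix (Fin 8) (Fin 8) F).comp A).toHomUnits
  have hf : ∀ g, (f g : Matrix (Fin 8) (Fin 8) F) = (A g).submatrix e8.symm e8.symm := fun _ => rfl
  have h1 := H4.JT.j2_two_eight_irr hJ (Or.inr rfl) f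
  unfold ActsIrreducibly at h1
  push Not at h1
  obtain ⟨W, hW, hWb, hWt⟩ := h1
  let τ : (Fin 8 → F) ≃ₗ[F] (E → F) := LinearEquiv.funCongrLeft F F e8
  have hτ : ∀ x, τ x = x ∘ e8 := fun _ => rfl
  have hinv : ∀ g, ∀ x ∈ W.map τ.toLinearMap, A g *ᵥ x ∈ W.map τ.toLinearMap := by
    rintro g _ ⟨x, hx, rfl⟩
    refine ⟨(f g : Matrix (Fin 8) (Fin 8) F) *ᵥ x, hW _ ⟨f g, ⟨g, rfl⟩, rfl⟩ ⟨x, hx, rfl⟩, ?_⟩
    change τ _ = A g *ᵥ τ x
    rw [hτ, hτ, hf, Matrix.submatrix_mulVec_equiv]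
    funext i
    simp
  have hfr : finrank F (W.map τ.toLinearMap) = finrank F W := LinearEquiv.finrank_map_eq τ W
  have hW0 : 0 < finrank F W := by
    rw [Module.finrank_pos_iff, Submodule.nontrivial_iff_ne_bot]
    exact hWb
  have hW8 : finrank F W < 8 := by
    have := Submodule.finrank_lt hWt
    rwa [Module.finrank_fintype_fun_eq_card, Fintype.card_fin] at this
  by_cases h5 : finrank F W ≤ 5
  · refine ⟨W.map τ.toLinearMap, ?_, hinv, by rwa [hfr]⟩
    intro h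
    rw [h, finrank_bot] at hfr
    omega
  · have h6 := LinearMap.BilinForm.finrank_orthogonal ((B_nondeg h2 :)) (W.map τ.toLinearMap)
    rw [hfr, Module.finrank_fintype_fun_eq_card, card_E] at h6
    refine ⟨(B F).orthogonal (W.map τ.toLinearMap), ?_, ?_, by omega⟩
    · intro h
      rw [h, finrank_bot] at h6
      omega
    · intro g x hx
      rw [LinearMap.BilinForm.mem_orthogonal_iff] at hx ⊢
      intro w hw
      have h7 : A g *ᵥ (A g⁻¹ *ᵥ w) = w := by
        rw [Matrix.mulVec_mulVec, ← map_mul, mul_inv_cancel, map_one, Matrix.one_mulVec]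
      change B F w (A g *ᵥ x) = 0
      rw [← h7, hB]
      exact hx _ (hinv g⁻¹ w hw)

/-- a fixed vector -/
theorem exists_fixed (hB : ∀ g x y, B F (A g *ᵥ x) (A g *ᵥ y) = B F x y) : ∃ n : E → F, n ≠ 0 ∧ ∀ g, A g *ᵥ n = n := by
  obtain ⟨U, hU0, hU, h5⟩ := exists_small hJ h2 A hB
  obtain ⟨n, hn, hn0⟩ := (Submodule.ne_bot_iff U).1 hU0
  exact ⟨n, hn0, fun g => fixed_of_small hJ h2 A hU h5 g n hn⟩

end Small

/-- the action of a group of symplectic matrices on the spin module -/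
def CH (h2 : (2 : F) = 0) {P : Subgroup (GL (Fin 3 ⊕ Fin 3) F)} (hP : P ≤ spGL 3 F) : P →* Matrix E E F where
  toFun g := C ((g : GL (Fin 3 ⊕ Fin 3) F) : Matrix (Fin 3 ⊕ Fin 3) (Fin 3 ⊕ Fin 3) F)
  map_one' := by rw [OneMemClass.coe_one, Units.val_one, C_one]
  map_mul' a b := by rw [Subgroup.coe_mul, Units.val_mul, C_mul h2 (sy_of_mem (hP a.2)) (sy_of_mem (hP b.2))]

theorem B_inv (h2 : (2 : F) = 0) {g : Matrix (Fin 3 ⊕ Fin 3) (Fin 3 ⊕ Fin 3) F} (hg : Sy g) (x y : E → F) :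
    B F (C g *ᵥ x) (C g *ᵥ y) = B F x y := by
  rw [B_apply, B_apply]
  conv_rhs => rw [← C_form h2 hg]
  rw [← Matrix.mulVec_mulVec, ← Matrix.mulVec_mulVec, Matrix.dotProduct_mulVec x, Matrix.vecMul_transpose]

/-- a small residual maximal subgroup fixes no vector of the spin module -/
theorem false_of_le [Fintype F] (h2 : (2 : F) = 0) {H P : Subgroup (GL (Fin 3 ⊕ Fin 3) F)} (S : Hyp 3 H P)
    {n : E → F} (hn : n ≠ 0) (hfix : ∀ g ∈ H, C (g : Matrix (Fin 3 ⊕ Fin 3) (Fin 3 ⊕ Fin 3) F) *ᵥ n = n)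
    {c : Fˣ} (hc : c ≠ c⁻¹) {B : ℕ} (hB : Nat.card H ≤ B)
    (hlt : Fintype.card F ^ 8 * B < Nat.card (spGL 3 F)) : False := by
  have h1 : H ≤ lineStab h2 n := fun g hg => mem_lineStab.2 ⟨S.H_le hg, 1, by rw [Units.val_one, one_smul, hfix g hg]⟩
  have h3 := S.eq_of_le h1 lineStab_le (lineStab_ne h2 hn hc)
  have h4 := card_le h2 n
  rw [h3] at h4
  exact absurd hlt (not_lt.2 (h4.trans (Nat.mul_le_mul_left _ hB)))

/-- a vector fixed by a normal subgroup of index at most two gives a vector fixed by the group -/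
theorem exists_fixed_of_index (h2 : (2 : F) = 0) {H P : Subgroup (GL (Fin 3 ⊕ Fin 3) F)} (hH : H ≤ spGL 3 F)
    (hPH : P ≤ H) (hnorm : ∀ g ∈ H, ∀ x ∈ P, g⁻¹ * x * g ∈ P)
    (hidx : ∀ a ∈ H, ∀ b ∈ H, a ∉ P → b ∉ P → a * b ∈ P)
    {n : E → F} (hn : n ≠ 0) (hfix : ∀ g ∈ P, C (g : Matrix (Fin 3 ⊕ Fin 3) (Fin 3 ⊕ Fin 3) F) *ᵥ n = n) :
    ∃ n' : E → F, n' ≠ 0 ∧ ∀ g ∈ H, C (g : Matrix (Fin 3 ⊕ Fin 3) (Fin 3 ⊕ Fin 3) F) *ᵥ n' = n' := by
  by_cases hall : ∀ g ∈ H, C (g : Matrix (Fin 3 ⊕ Fin 3) (Fin 3 ⊕ Fin 3) F) *ᵥ n = n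
  · exact ⟨n, hn, hall⟩
  · push Not at hall
    obtain ⟨h, hh, hne⟩ := hall
    have hhP : h ∉ P := fun hp => hne (hfix h hp)
    have hmul : ∀ a ∈ H, ∀ b ∈ H, ∀ x : E → F, C ((a * b : GL (Fin 3 ⊕ Fin 3) F) : Matrix (Fin 3 ⊕ Fin 3) (Fin 3 ⊕ Fin 3) F) *ᵥ x =
        C (a : Matrix (Fin 3 ⊕ Fin 3) (Fin 3 ⊕ Fin 3) F) *ᵥ (C (b : Matrix (Fin 3 ⊕ Fin 3) (Fin 3 ⊕ Fin 3) F) *ᵥ x) := by
      intro a ha b hb x
      rw [Units.val_mul, C_mul h2 (sy_of_mem (hH ha)) (sy_of_mem (hH hb)), Matrix.mulVec_mulVec]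
    have hPh : ∀ g ∈ P, C (g : Matrix (Fin 3 ⊕ Fin 3) (Fin 3 ⊕ Fin 3) F) *ᵥ
        (C (h : Matrix (Fin 3 ⊕ Fin 3) (Fin 3 ⊕ Fin 3) F) *ᵥ n) = C (h : Matrix (Fin 3 ⊕ Fin 3) (Fin 3 ⊕ Fin 3) F) *ᵥ n := by
      intro g hg
      have h1 := hfix _ (hnorm h hh g hg)
      rw [← hmul g (hPH hg) h hh]
      have e : g * h = h * (h⁻¹ * g * h) := by group
      rw [e, hmul h hh _ (hPH (hnorm h hh g hg)), h1]
    have hfixP : ∀ g ∈ P, C (g : Matrix (Fin 3 ⊕ Fin 3) (Fin 3 ⊕ Fin 3) F) *ᵥ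
        (n + C (h : Matrix (Fin 3 ⊕ Fin 3) (Fin 3 ⊕ Fin 3) F) *ᵥ n) =
        n + C (h : Matrix (Fin 3 ⊕ Fin 3) (Fin 3 ⊕ Fin 3) F) *ᵥ n := by
      intro g hg
      rw [Matrix.mulVec_add, hfix g hg, hPh g hg]
    have hfixh : C (h : Matrix (Fin 3 ⊕ Fin 3) (Fin 3 ⊕ Fin 3) F) *ᵥ
        (n + C (h : Matrix (Fin 3 ⊕ Fin 3) (Fin 3 ⊕ Fin 3) F) *ᵥ n) =
        n + C (h : Matrix (Fin 3 ⊕ Fin 3) (Fin 3 ⊕ Fin 3) F) *ᵥ n := by
      rw [Matrix.mulVec_add, ← hmul h hh h hh, hfix _ (hidx h hh h hh hhP hhP), add_comm]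
    refine ⟨n + C (h : Matrix (Fin 3 ⊕ Fin 3) (Fin 3 ⊕ Fin 3) F) *ᵥ n, ?_, ?_⟩
    · intro h0
      apply hne
      funext i
      have h3 := congrFun h0 i
      rw [Pi.add_apply, Pi.zero_apply] at h3
      linear_combination h3 - n i * h2
    · intro g hg
      by_cases hgP : g ∈ P
      · exact hfixP g hgP
      · have h4 : g * h⁻¹ ∈ P := hidx g hg h⁻¹ (inv_mem hh) hgP (fun h' => hhP (by simpa using inv_mem h'))
        have e : g = (g * h⁻¹) * h := by group
        rw [e, hmul _ (hPH h4) h hh, hfixh, hfixP _ h4]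

/-- **N5.** -/
theorem jtwo_two [Fintype F] {H P : Subgroup (GL (Fin 3 ⊕ Fin 3) F)} (S : Hyp 3 H P) (h2 : (2 : F) = 0)
    (hJ : Spor.IsoJ2 (Soc P)) : False := by
  obtain ⟨e⟩ := hJ
  have hJP : Spor.IsoJ2 P := ⟨(socEquiv h2 S).trans e⟩
  have hcard : Nat.card P = 604800 := by
    rw [Nat.card_congr ((socEquiv h2 S).trans e).toEquiv]
    exact S1619.result.2.2.2
  have hcardH : Nat.card H ≤ 2 * Nat.card P := (card_H_le h2 S).trans (H4.JT.j2_aut_card hJP)
  obtain ⟨n, hn, hfix⟩ := exists_fixed hJP h2 (CH h2 S.P_le) (fun g x y => B_inv h2 (sy_of_mem (S.P_le g.2)) x y)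
  have hnorm : ∀ g ∈ H, ∀ x ∈ P, g⁻¹ * x * g ∈ P := by
    intro g hg x hx
    have h1 := S.core.normal g⁻¹ (inv_mem hg) x hx
    rwa [inv_inv] at h1
  have hidx : ∀ a ∈ H, ∀ b ∈ H, a ∉ P → b ∉ P → a * b ∈ P := by
    intro a ha b hb haP hbP
    have h1 : Nat.card (P.subgroupOf H) * (P.subgroupOf H).index = Nat.card H := Subgroup.card_mul_index _
    rw [Nat.card_congr (Subgroup.subgroupOfEquivOfLe S.core.le).toEquiv] at h1
    have h3 : (P.subgroupOf H).index ≤ 2 := by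
      rw [← h1, mul_comm 2, hcard] at hcardH
      omega
    have h4 : (P.subgroupOf H).index ≠ 1 := by
      intro h
      rw [Subgroup.index_eq_one, Subgroup.subgroupOf_eq_top] at h
      exact haP (h ha)
    have h5 : (P.subgroupOf H).index ≠ 0 := Subgroup.index_ne_zero_of_finite
    have h6 : (P.subgroupOf H).index = 2 := by omega
    have h7 := (Subgroup.mul_mem_iff_of_index_two h6 (a := ⟨a, ha⟩) (b := ⟨b, hb⟩)).2
      (by simp only [Subgroup.mem_subgroupOf]; exact iff_of_false haP hbP)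
    exact h7
  obtain ⟨n', hn', hfix'⟩ := exists_fixed_of_index h2 S.H_le S.core.le hnorm hidx hn (fun g hg => hfix ⟨g, hg⟩)
  -- the field is not F_2
  have h4 : 4 ≤ Fintype.card F := by
    have hch : CharP F 2 := (CharTwo.of_one_ne_zero_of_two_eq_zero one_ne_zero h2)
    obtain ⟨m, -, hm⟩ := FiniteField.card F 2
    rcases Nat.lt_or_ge (m : ℕ) 2 with h | h
    · exfalso
      have hm1 : (m : ℕ) = 1 := by
        have := m.pos
        omega
      rw [hm1, pow_one] at hm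
      have h5 : 604800 ∣ Nat.card (spGL 3 F) := by
        rw [← hcard]
        exact Subgroup.card_dvd_of_le S.P_le
      rw [card_sp6', hm] at h5
      revert h5
      decide
    · rw [hm]
      calc 4 = 2 ^ 2 := rfl
        _ ≤ 2 ^ (m : ℕ) := Nat.pow_le_pow_right (by norm_num) h
  obtain ⟨c, hc⟩ : ∃ c : Fˣ, c ≠ c⁻¹ := by
    classical
    have h6 : 1 < Fintype.card Fˣ := by
      rw [Fintype.card_units]
      omega
    obtain ⟨c, hc⟩ := Fintype.exists_ne_of_one_lt_card h6 1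
    refine ⟨c, fun h => hc ?_⟩
    apply Units.ext
    rw [Units.val_one]
    have h7 : (c : F) * c = 1 := by
      rw [← Units.val_mul, eq_inv_iff_mul_eq_one.1 h, Units.val_one]
    have h8 : ((c : F) - 1) ^ 2 = 0 := by
      linear_combination h7 + (1 - (c : F)) * h2
    exact sub_eq_zero.1 (pow_eq_zero_iff two_ne_zero |>.1 h8)
  rw [hcard] at hcardH
  exact false_of_le h2 S hn' hfix' hc hcardH (num_bound h4 (by norm_num))

end Cfsg.Agent.H914.S6.Spin.J
end

-- part: H914/SixTwoCubed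
section
/-!
# Elementary abelian groups of order eight with all involutions conjugate (helper914)

* `rk_add` : orthogonal idempotents add ranks
* `seven_ranks` : commuting involutions `A, B, C` (char `≠ 2`), the eight multiplicities and the ranks of `(1 - X)/2`
* `two_cubed_rep` : `ρ : G →* End V`, commuting involutions `a, b, c` of `G` with all seven products conjugate and
  `ρ a ≠ 1`: `dim V = ν + 7 m` with `m ≥ 1`; the `(-1)`-space of an involution has dimension `4 m`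
-/

set_option autoImplicit false
set_option linter.unusedSectionVars false
set_option maxHeartbeats 400000

namespace Cfsg.Agent.H914.S6

open Module

variable {F : Type*} [Field F] {V : Type*} [AddCommGroup V] [Module F V] [FiniteDimensional F V]

/-- rank of an endomorphism -/
noncomputable def rk (f : Module.End F V) : ℕ := finrank F (LinearMap.range f)

theorem rk_add {P Q : Module.End F V} (hP : P * P = P) (hQ : Q * Q = Q) (hPQ : P * Q = 0) (hQP : Q * P = 0) :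
    rk (P + Q) = rk P + rk Q := by
  have h1 : LinearMap.range (P + Q) = LinearMap.range P ⊔ LinearMap.range Q := by
    apply le_antisymm
    · rintro _ ⟨x, rfl⟩
      exact Submodule.add_mem_sup ⟨x, rfl⟩ ⟨x, rfl⟩
    · refine sup_le ?_ ?_
      · rintro _ ⟨x, rfl⟩
        refine ⟨P x, ?_⟩
        rw [LinearMap.add_apply, ← Module.End.mul_apply, ← Module.End.mul_apply, hP, hQP]
        simp
      · rintro _ ⟨x, rfl⟩
        refine ⟨Q x, ?_⟩
        rw [LinearMap.add_apply, ← Module.End.mul_apply, ← Module.End.mul_apply, hQ, hPQ]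
        simp
  have h2 : LinearMap.range P ⊓ LinearMap.range Q = ⊥ := by
    rw [eq_bot_iff]
    rintro x ⟨⟨y, rfl⟩, ⟨z, hz⟩⟩
    have h3 : P (P y) = P (Q z) := by rw [hz]
    rw [← Module.End.mul_apply, ← Module.End.mul_apply, hP, hPQ] at h3
    rw [h3]
    simp
  unfold rk
  rw [h1]
  have := Submodule.finrank_sup_add_finrank_inf_eq (LinearMap.range P) (LinearMap.range Q)
  rw [h2, finrank_bot] at this
  omega

theorem rk_conj {A B g g' : Module.End F V} (h : g * g' = 1) (h' : g' * g = 1) (e : B = g * A * g') : rk B = rk A := by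
  have key : ∀ {A B g g' : Module.End F V}, g * g' = 1 → g' * g = 1 → B = g * A * g' → rk B ≤ rk A := by
    intro A B g g' h h' e
    unfold rk
    have h1 : LinearMap.range B ≤ (LinearMap.range A).map g := by
      rintro _ ⟨x, rfl⟩
      exact ⟨A (g' x), ⟨_, rfl⟩, by rw [e]; rfl⟩
    exact (Submodule.finrank_mono h1).trans (Submodule.finrank_map_le _ _)
  refine le_antisymm (key h h' e) (key (g := g') (g' := g) h' h ?_)
  rw [e, mul_assoc, mul_assoc, h', mul_one, ← mul_assoc, h', one_mul]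

variable (h2 : (2 : F) ≠ 0)
include h2

/-- the half of `1 + c A` -/
noncomputable def hf (A : Module.End F V) : Module.End F V := (2 : F)⁻¹ • (1 + A)

omit h2 [FiniteDimensional F V] in
theorem hf_comm {A B : Module.End F V} (h : A * B = B * A) : hf A * hf B = hf B * hf A := by
  unfold hf
  rw [smul_mul_smul_comm, smul_mul_smul_comm]
  congr 1
  rw [mul_add, add_mul, add_mul, mul_add, add_mul, add_mul, h]
  simp only [one_mul, mul_one]
  abel

omit [FiniteDimensional F V] in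
theorem hf_mul_self {A : Module.End F V} (h : A * A = 1) : hf A * hf A = hf A := by
  unfold hf
  rw [smul_mul_smul_comm, mul_add, add_mul, add_mul, h, one_mul, mul_one, one_mul]
  have : (1 + A + (A + 1) : Module.End F V) = (2 : F) • (1 + A) := by rw [two_smul]; abel
  rw [this, smul_smul, mul_assoc, inv_mul_cancel₀ h2, mul_one]

omit h2 [FiniteDimensional F V] in
theorem hf_mul_neg {A : Module.End F V} (h : A * A = 1) : hf A * hf (-A) = 0 := by
  unfold hf
  rw [smul_mul_smul_comm, mul_add, add_mul, add_mul, mul_neg, mul_neg, h, one_mul, mul_one, one_mul]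
  have : (1 + A + (-A + -1) : Module.End F V) = 0 := by abel
  rw [this, smul_zero]

omit [FiniteDimensional F V] in
theorem hf_add_neg (A : Module.End F V) : hf A + hf (-A) = 1 := by
  unfold hf
  rw [← smul_add]
  have : (1 + A + (1 + -A) : Module.End F V) = (2 : F) • 1 := by rw [two_smul]; abel
  rw [this, smul_smul, inv_mul_cancel₀ h2, one_smul]

/-- splitting the rank of `P` by an involution commuting with it -/
theorem rk_split {P A : Module.End F V} (hP : P * P = P) (hA : A * A = 1) (hPA : P * A = A * P) :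
    rk P = rk (P * hf A) + rk (P * hf (-A)) := by
  have hc1 : P * hf A = hf A * P := by
    unfold hf
    rw [mul_smul_comm, smul_mul_assoc, mul_add, add_mul, hPA, one_mul, mul_one]
  have hc2 : P * hf (-A) = hf (-A) * P := by
    unfold hf
    rw [mul_smul_comm, smul_mul_assoc, mul_add, add_mul, mul_neg, neg_mul, hPA, one_mul, mul_one]
  have hA' : (-A) * (-A) = 1 := by rw [neg_mul_neg, hA]
  have e1 : P = P * hf A + P * hf (-A) := by rw [← mul_add, hf_add_neg h2, mul_one]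
  conv_lhs => rw [e1]
  apply rk_add
  · calc P * hf A * (P * hf A) = P * (hf A * P) * hf A := by simp only [mul_assoc]
      _ = (P * P) * (hf A * hf A) := by rw [← hc1]; simp only [mul_assoc]
      _ = _ := by rw [hP, hf_mul_self h2 hA]
  · calc P * hf (-A) * (P * hf (-A)) = P * (hf (-A) * P) * hf (-A) := by simp only [mul_assoc]
      _ = (P * P) * (hf (-A) * hf (-A)) := by rw [← hc2]; simp only [mul_assoc]
      _ = _ := by rw [hP, hf_mul_self h2 hA']
  · calc P * hf A * (P * hf (-A)) = P * (hf A * P) * hf (-A) := by simp only [mul_assoc]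
      _ = (P * P) * (hf A * hf (-A)) := by rw [← hc1]; simp only [mul_assoc]
      _ = _ := by rw [hf_mul_neg hA, mul_zero]
  · calc P * hf (-A) * (P * hf A) = P * (hf (-A) * P) * hf A := by simp only [mul_assoc]
      _ = (P * P) * (hf (-A) * hf A) := by rw [← hc2]; simp only [mul_assoc]
      _ = _ := by
        have := hf_mul_neg (A := -A) hA'
        rw [neg_neg] at this
        rw [this, mul_zero]

/-- sign -/
def sn (b : Bool) (X : Module.End F V) : Module.End F V := if b then -X else X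

omit h2 [FiniteDimensional F V] in
theorem mul_hf_sn {A : Module.End F V} (hA : A * A = 1) (b : Bool) : A * hf (sn b A) = sn b (hf (sn b A)) := by
  cases b
  · change A * hf A = hf A
    unfold hf
    rw [mul_smul_comm, mul_add, hA, mul_one, add_comm]
  · change A * hf (-A) = -hf (-A)
    unfold hf
    rw [mul_smul_comm, mul_add, mul_neg, hA, mul_one, ← smul_neg]
    congr 1
    abel

omit h2 [FiniteDimensional F V] in
theorem hf_comm' {X Y : Module.End F V} (h : X * Y = Y * X) : X * hf Y = hf Y * X := by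
  unfold hf
  rw [smul_mul_assoc, mul_smul_comm, add_mul, mul_add, h, one_mul, mul_one]

section com

variable {A B C : Module.End F V} (hA : A * A = 1) (hB : B * B = 1) (hC : C * C = 1)
    (hAB : A * B = B * A) (hAC : A * C = C * A) (hBC : B * C = C * B)

end com

end Cfsg.Agent.H914.S6
end

-- part: H936/SixA7
section
/-!
# `A₇` in `Sp₆(q)`, `q` odd, no scalars (task 2970 of helper914)

`a7_simple`: impossible.
-/

set_option autoImplicit false
set_option linter.unusedSectionVars false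

namespace Cfsg.Agent.H936.SixA7

open Cfsg Cfsg.Geo Matrix Module Cfsg.Agent.H915.LD Cfsg.Agent.H914.S6

universe u v

/-! ### The elements -/

section els

open Equiv Equiv.Perm

/-- an element of `A₇` -/
def mk7 (p : Perm (Fin 7)) (h : sign p = 1 := by decide) : alternatingGroup (Fin 7) :=
  ⟨p, mem_alternatingGroup.2 h⟩

def gs : alternatingGroup (Fin 7) := mk7 (_root_.Equiv.swap (0 : Fin 7) 1 * swap (2 : Fin 7) 3)
def gt : alternatingGroup (Fin 7) := mk7 (_root_.Equiv.swap (0 : Fin 7) 2 * _root_.Equiv.swap (1 : Fin 7) 3)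
def gb : alternatingGroup (Fin 7) := mk7 (_root_.Equiv.swap (0 : Fin 7) 1 * _root_.Equiv.swap (1 : Fin 7) 2)
def gc : alternatingGroup (Fin 7) := mk7 (swap (4 : Fin 7) 5 * swap (5 : Fin 7) 6)

theorem conj_bc : ∃ x : alternatingGroup (Fin 7), gb = x * gc * x⁻¹ := by
  refine ⟨mk7 (_root_.Equiv.swap (0 : Fin 7) 4 * _root_.Equiv.swap (1 : Fin 7) 5 * swap (2 : Fin 7) 6 * _root_.Equiv.swap (0 : Fin 7) 3), ?_⟩
  decide

end els

section gen

variable {F : Type u} [Field F] {V : Type v} [AddCommGroup V] [Module F V] [FiniteDimensional F V]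

/-- a self-adjoint idempotent has even rank -/
theorem even_rk (B : LinearMap.BilinForm F V) (hA : B.IsAlt) (hnd : ∀ u, (∀ v, B u v = 0) → u = 0)
    {p : Module.End F V} (hp : p * p = p) (hadj : ∀ v w, B (p v) w = B v (p w)) : Even (rk p) := by
  unfold rk
  refine H953.even_finrank_of_alt (B.restrict (LinearMap.range p)) (fun u => hA u.1) ?_
  rintro ⟨u, u', rfl⟩ hu
  apply Subtype.ext
  change p u' = 0
  apply hnd
  intro w
  have h1 := hu ⟨p w, ⟨w, rfl⟩⟩
  have h2 : B (p u') (p w) = 0 := h1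
  rw [← hadj, ← Module.End.mul_apply, hp] at h2
  exact h2

theorem eq_zero_of_rk {p : Module.End F V} (h : rk p = 0) : p = 0 := by
  unfold rk at h
  rw [Submodule.finrank_eq_zero, LinearMap.range_eq_bot] at h
  exact h

theorem adj_hf (B : LinearMap.BilinForm F V) {X : Module.End F V} (h : ∀ v w, B (X v) w = B v (X w)) (v w : V) :
    B (hf X v) w = B v (hf X w) := by
  unfold hf
  simp only [LinearMap.smul_apply, LinearMap.add_apply, Module.End.one_apply, map_add, map_smul, h]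

theorem adj_neg (B : LinearMap.BilinForm F V) {X : Module.End F V} (h : ∀ v w, B (X v) w = B v (X w)) (v w : V) :
    B ((-X) v) w = B v ((-X) w) := by
  simp only [LinearMap.neg_apply, map_neg, h]

theorem adj_mul (B : LinearMap.BilinForm F V) {X Y : Module.End F V} (hX : ∀ v w, B (X v) w = B v (X w))
    (hY : ∀ v w, B (Y v) w = B v (Y w)) (hc : X * Y = Y * X) (v w : V) :
    B ((X * Y) v) w = B v ((X * Y) w) := by
  rw [hc, Module.End.mul_apply, hY, hX, ← Module.End.mul_apply, hc]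

/-- An isometry of order three on an invariant non-degenerate plane. -/
theorem plane (B : LinearMap.BilinForm F V) (hA : B.IsAlt) (U : Submodule F V) (hU : finrank F U = 2)
    (hnd : ∀ u ∈ U, (∀ v ∈ U, B u v = 0) → u = 0) (C : Module.End F V) (hCU : ∀ u ∈ U, C u ∈ U)
    (hC3 : ∀ v, C (C (C v)) = v) (hC : ∀ v w, B (C v) (C w) = B v w) :
    (∀ v ∈ U, v + C v + C (C v) = 0) ∨ (∀ v ∈ U, C v = v) := by
  have hskew : ∀ v w, B v w = - B w v := fun v w => (LinearMap.IsAlt.neg hA w v).symm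
  have a1 : ∀ v w, B (C v) w = B v (C (C w)) := fun v w => by rw [← hC v, hC3]
  have a2 : ∀ v w, B (C (C v)) w = B v (C w) := fun v w => by rw [a1, a1, hC3]
  have hN : ∀ w v, B (w + C w + C (C w)) v = B w (v + C v + C (C v)) := by
    intro w v
    simp only [map_add, LinearMap.add_apply, a1, a2]
    rw [hC3]
    ring
  have hN0 : ∀ w, B (w + C w + C (C w)) w = 0 := by
    intro w
    simp only [map_add, LinearMap.add_apply]
    rw [a2, hA w, hskew (C w) w]
    ring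
  have hNU : ∀ w ∈ U, w + C w + C (C w) ∈ U := fun w hw =>
    U.add_mem (U.add_mem hw (hCU w hw)) (hCU _ (hCU w hw))
  by_cases hex : ∃ v ∈ U, v ≠ 0 ∧ v + C v + C (C v) = 0
  · left
    obtain ⟨v₀, hv₀, hne, hv⟩ := hex
    intro w hw
    by_cases hsp : w ∈ Submodule.span F {v₀}
    · obtain ⟨c, rfl⟩ := Submodule.mem_span_singleton.1 hsp
      rw [map_smul, map_smul, ← smul_add, ← smul_add, hv, smul_zero]
    · apply hnd _ (hNU w hw)
      intro u hu
      have hli : LinearIndependent F ![v₀, w] := by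
        rw [LinearIndependent.pair_iff' hne]
        intro c hc
        exact hsp (Submodule.mem_span_singleton.2 ⟨c, hc⟩)
      have hle : Submodule.span F {v₀, w} ≤ U := by
        rw [Submodule.span_le]
        rintro x (rfl | rfl)
        · exact hv₀
        · exact hw
      have hrk : finrank F (Submodule.span F {v₀, w}) = 2 := by
        have h1 := finrank_span_eq_card hli
        have h3 : Set.range ![v₀, w] = {v₀, w} := by
          simp [Matrix.range_cons, Matrix.range_empty, Set.pair_comm]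
        rwa [h3, Fintype.card_fin] at h1
      have heq : Submodule.span F {v₀, w} = U := Submodule.eq_of_le_of_finrank_eq hle (by rw [hrk, hU])
      rw [← heq] at hu
      obtain ⟨a, b, rfl⟩ := Submodule.mem_span_pair.1 hu
      rw [map_add, map_smul, map_smul, hN0, hN, hv]
      simp
  · right
    push Not at hex
    intro w hw
    by_contra hne
    refine hex (C w - w) (U.sub_mem (hCU w hw) hw) (sub_ne_zero.2 hne) ?_
    rw [map_sub, map_sub, hC3]
    abel

/-- The main argument. -/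
theorem main (h2 : (2 : F) ≠ 0) (B : LinearMap.BilinForm F V) (hA : B.IsAlt) (hnd : ∀ u, (∀ v, B u v = 0) → u = 0)
    (h6 : finrank F V = 6) (ρ : alternatingGroup (Fin 7) →* Module.End F V) (hinj : Function.Injective ρ)
    (hB : ∀ g v w, B (ρ g v) (ρ g w) = B v w) : False := by
  have hS : ρ gs * ρ gs = 1 := by rw [← map_mul, (by decide : gs * gs = 1), map_one]
  have hT : ρ gt * ρ gt = 1 := by rw [← map_mul, (by decide : gt * gt = 1), map_one]
  have hST : ρ gs * ρ gt = ρ gt * ρ gs := by rw [← map_mul, ← map_mul, (by decide : gs * gt = gt * gs)]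
  have hBS : ρ gb * ρ gs = (ρ gs * ρ gt) * ρ gb := by
    rw [← map_mul, ← map_mul, ← map_mul, (by decide : gb * gs = gs * gt * gb)]
  have hBT : ρ gb * ρ gt = ρ gs * ρ gb := by
    rw [← map_mul, ← map_mul, (by decide : gb * gt = gs * gb)]
  have hCS : ρ gc * ρ gs = ρ gs * ρ gc := by rw [← map_mul, ← map_mul, (by decide : gc * gs = gs * gc)]
  have hCT : ρ gc * ρ gt = ρ gt * ρ gc := by rw [← map_mul, ← map_mul, (by decide : gc * gt = gt * gc)]
  have hCB : ρ gc * ρ gb = ρ gb * ρ gc := by rw [← map_mul, ← map_mul, (by decide : gc * gb = gb * gc)]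
  have hC3 : ρ gc * ρ gc * ρ gc = 1 := by
    rw [← map_mul, ← map_mul, (by decide : gc * gc * gc = 1), map_one]
  have hBi : ρ gb * ρ gb⁻¹ = 1 := by rw [← map_mul, mul_inv_cancel, map_one]
  have hBi' : ρ gb⁻¹ * ρ gb = 1 := by rw [← map_mul, inv_mul_cancel, map_one]
  have hS1 : ρ gs ≠ 1 := by
    intro h
    rw [← map_one ρ] at h
    exact absurd (hinj h) (by decide)
  have hC1 : ρ gc ≠ 1 := by
    intro h
    rw [← map_one ρ] at h
    exact absurd (hinj h) (by decide)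
  have hadjS : ∀ v w, B (ρ gs v) w = B v (ρ gs w) := by
    intro v w
    rw [← hB gs v, ← Module.End.mul_apply, hS, Module.End.one_apply]
  have hadjT : ∀ v w, B (ρ gt v) w = B v (ρ gt w) := by
    intro v w
    rw [← hB gt v, ← Module.End.mul_apply, hT, Module.End.one_apply]
  have hBC : ∀ v w, B (ρ gc v) (ρ gc w) = B v w := hB gc
  obtain ⟨x, hx⟩ := conj_bc
  have hconj : ρ gb = ρ x * ρ gc * ρ x⁻¹ := by rw [← map_mul, ← map_mul, ← hx]
  have hxx : ρ x⁻¹ * ρ x = 1 := by rw [← map_mul, inv_mul_cancel, map_one]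
  have hxx' : ρ x * ρ x⁻¹ = 1 := by rw [← map_mul, mul_inv_cancel, map_one]
  generalize ρ gs = S at *
  generalize ρ gt = T at *
  generalize ρ gc = C at *
  generalize ρ gb⁻¹ = Y' at *
  generalize ρ gb = Y at *
  generalize ρ x⁻¹ = X' at *
  generalize ρ x = X at *
  clear hx
  -- the projections
  have nS : (-S) * (-S) = 1 := by rw [neg_mul_neg, hS]
  have nT : (-T) * (-T) = 1 := by rw [neg_mul_neg, hT]
  have cST : ∀ {A A' : Module.End F V}, A * A' = A' * A → hf A * hf A' = hf A' * hf A := fun h => hf_comm h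
  have c1 : S * (-T) = (-T) * S := by rw [mul_neg, neg_mul, hST]
  have c2 : (-S) * T = T * (-S) := by rw [mul_neg, neg_mul, hST]
  have c3 : (-S) * (-T) = (-T) * (-S) := by rw [neg_mul_neg, neg_mul_neg, hST]
  have idem : ∀ {A A' : Module.End F V}, A * A = 1 → A' * A' = 1 → A * A' = A' * A →
      hf A * hf A' * (hf A * hf A') = hf A * hf A' := by
    intro A A' hA hA' hc
    calc hf A * hf A' * (hf A * hf A') = hf A * (hf A' * hf A) * hf A' := by simp only [mul_assoc]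
      _ = (hf A * hf A) * (hf A' * hf A') := by rw [← hf_comm hc]; simp only [mul_assoc]
      _ = _ := by rw [hf_mul_self h2 hA, hf_mul_self h2 hA']
  have ev : ∀ {A A' : Module.End F V}, A * A = 1 → A' * A' = 1 → A * A' = A' * A →
      (∀ v w, B (A v) w = B v (A w)) → (∀ v w, B (A' v) w = B v (A' w)) → Even (rk (hf A * hf A')) := by
    intro A A' h h' hc ha ha'
    exact even_rk B hA hnd (idem h h' hc) (adj_mul B (adj_hf B ha) (adj_hf B ha') (hf_comm hc))
  have e0 := ev hS hT hST hadjS hadjT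
  have e1 := ev hS nT c1 hadjS (adj_neg B hadjT)
  have e2 := ev nS hT c2 (adj_neg B hadjS) hadjT
  have e3 := ev nS nT c3 (adj_neg B hadjS) (adj_neg B hadjT)
  have hrk : (6 : ℕ) = rk (hf S * hf T) + rk (hf S * hf (-T)) + (rk (hf (-S) * hf T) + rk (hf (-S) * hf (-T))) := by
    have r1 : rk (1 : Module.End F V) = 6 := by
      unfold rk
      rw [Module.End.one_eq_id, LinearMap.range_id, finrank_top, h6]
    have r2 := rk_split h2 (P := (1 : Module.End F V)) (mul_one 1) hS (by rw [one_mul, mul_one])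
    rw [one_mul, one_mul, r1] at r2
    rw [r2, rk_split h2 (hf_mul_self h2 hS) hT (hf_comm' hST.symm).symm,
      rk_split h2 (hf_mul_self h2 nS) hT (hf_comm' c2.symm).symm]
  have hSTS : S * T * S = T := by rw [hST, mul_assoc, hS, mul_one]
  have hmul : ∀ {A A' : Module.End F V}, Y * A = A' * Y → Y * hf A = hf A' * Y := by
    intro A A' h
    unfold hf
    rw [mul_smul_comm, smul_mul_assoc, mul_add, add_mul, h, one_mul, mul_one]
  have hmul2 : ∀ {A A' D D' : Module.End F V}, Y * A = A' * Y → Y * D = D' * Y →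
      Y * (hf A * hf D) = hf A' * hf D' * Y := by
    intro A A' D D' h h'
    rw [← mul_assoc, hmul h, mul_assoc, hmul h', mul_assoc]
  have hYS : Y * (-S) = (-(S * T)) * Y := by rw [mul_neg, neg_mul, hBS]
  have hYT : Y * (-T) = (-S) * Y := by rw [mul_neg, neg_mul, hBT]
  have q1 : hf (S * T) * hf (-S) = hf (-S) * hf (-T) := by
    unfold hf
    rw [smul_mul_smul_comm, smul_mul_smul_comm]
    congr 1
    calc (1 + S * T) * (1 + -S) = 1 - S + S * T - S * T * S := by noncomm_ring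
      _ = 1 - S + S * T - T := by rw [hSTS]
      _ = _ := by noncomm_ring
  have q3 : hf (-(S * T)) * hf (-S) = hf (-S) * hf T := by
    unfold hf
    rw [smul_mul_smul_comm, smul_mul_smul_comm]
    congr 1
    calc (1 + -(S * T)) * (1 + -S) = 1 - S - S * T + S * T * S := by noncomm_ring
      _ = 1 - S - S * T + T := by rw [hSTS]
      _ = _ := by noncomm_ring
  have k13 : Y * (hf S * hf (-T)) = (hf (-S) * hf (-T)) * Y := by rw [hmul2 hBS hYT, q1]
  have k32 : Y * (hf (-S) * hf (-T)) = (hf (-S) * hf T) * Y := by rw [hmul2 hYS hYT, q3]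
  have r13 : rk (hf (-S) * hf (-T)) = rk (hf S * hf (-T)) := by
    refine rk_conj hBi hBi' ?_
    rw [k13, mul_assoc, hBi, mul_one]
  have r32 : rk (hf (-S) * hf T) = rk (hf (-S) * hf (-T)) := by
    refine rk_conj hBi hBi' ?_
    rw [k32, mul_assoc, hBi, mul_one]
  have hne : rk (hf S * hf (-T)) ≠ 0 := by
    intro h0
    rw [h0] at r13
    rw [r13] at r32
    have z2 := eq_zero_of_rk r32
    have z3 := eq_zero_of_rk r13
    have h3 : hf (-S) = 0 := by
      rw [← mul_one (hf (-S)), ← hf_add_neg h2 T, mul_add, z2, z3, add_zero]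
    apply hS1
    unfold hf at h3
    have h4 : (1 + -S : Module.End F V) = 0 := by
      rcases smul_eq_zero.1 h3 with h | h
      · exact absurd h (inv_ne_zero h2)
      · exact h
    rw [← sub_eq_add_neg, sub_eq_zero] at h4
    exact h4.symm
  have hU2 : rk (hf S * hf (-T)) = 2 := by
    obtain ⟨a, ha⟩ := e0
    obtain ⟨b, hb⟩ := e1
    (clear * - hrk r13 hne hb; omega)
  have h00 : rk (hf S * hf T) = 0 := by omega
  have z0 := eq_zero_of_rk h00
  have hsum : hf S * hf (-T) + (hf (-S) * hf T + hf (-S) * hf (-T)) = 1 := by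
    have h3 : hf S * hf T + hf S * hf (-T) + (hf (-S) * hf T + hf (-S) * hf (-T)) = (1 : Module.End F V) := by
      rw [← mul_add, ← mul_add, hf_add_neg h2, mul_one, mul_one, hf_add_neg h2]
    rw [z0, zero_add] at h3
    exact h3
  -- the plane
  set p := hf S * hf (-T) with hp
  have hpp : p * p = p := idem hS nT c1
  have hCp : C * p = p * C := by
    rw [hp, ← mul_assoc, hf_comm' hCS, mul_assoc, hf_comm' (show C * (-T) = (-T) * C by rw [mul_neg, neg_mul, hCT]),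
      mul_assoc]
  have hpadj : ∀ v w, B (p v) w = B v (p w) := adj_mul B (adj_hf B hadjS) (adj_hf B (adj_neg B hadjT)) (hf_comm c1)
  have hmem : ∀ u ∈ LinearMap.range p, p u = u := by
    rintro _ ⟨u, rfl⟩
    rw [← Module.End.mul_apply, hpp]
  have hpl := plane B hA (LinearMap.range p) hU2 (by
    intro u hu h
    apply hnd
    intro w
    rw [← hmem u hu, hpadj]
    exact h _ ⟨w, rfl⟩) C (by
    rintro _ ⟨u, rfl⟩
    rw [← Module.End.mul_apply, hCp]
    exact ⟨C u, rfl⟩) (fun v => by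
      rw [← Module.End.mul_apply, ← Module.End.mul_apply, hC3, Module.End.one_apply]) hBC
  have k3 : hf (-S) * hf (-T) = Y * p * Y' := by rw [k13, mul_assoc, hBi, mul_one]
  have k2 : hf (-S) * hf T = Y * (Y * p * Y') * Y' := by rw [← k3, k32, mul_assoc, hBi, mul_one]
  have spread : ∀ {M : Module.End F V}, M * Y = Y * M → M * p = 0 → M = 0 := by
    intro M h h'
    have m3 : M * (Y * p * Y') = 0 := by rw [← mul_assoc, ← mul_assoc, h, mul_assoc Y, h', mul_zero, zero_mul]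
    have m2 : M * (Y * (Y * p * Y') * Y') = 0 := by
      rw [← mul_assoc, ← mul_assoc, h, mul_assoc Y, m3, mul_zero, zero_mul]
    rw [← mul_one M, ← hsum, k3, k2, mul_add, mul_add, h', m3, m2, add_zero, add_zero]
  rcases hpl with h | h
  · have hN : (1 + C + C * C) = 0 := by
      apply spread
      · rw [add_mul, add_mul, mul_add, mul_add, one_mul, mul_one, mul_assoc, hCB, ← mul_assoc, hCB, mul_assoc]
      · apply LinearMap.ext
        intro v
        have := h (p v) ⟨v, rfl⟩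
        simpa only [Module.End.mul_apply, LinearMap.add_apply, _root_.Module.End.one_apply, _root_.LinearMap.zero_apply] using this
    have hNY : (1 + Y + Y * Y) = 0 := by
      have : Y * Y = X * (C * C) * X' := by
        rw [hconj]
        calc X * C * X' * (X * C * X') = X * C * (X' * X) * C * X' := by simp only [mul_assoc]
          _ = _ := by rw [hxx, mul_one]; simp only [mul_assoc]
      calc (1 + Y + Y * Y) = X * (1 + C + C * C) * X' := by
            rw [this, mul_add, mul_add, add_mul, add_mul, mul_one, hxx', hconj]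
        _ = 0 := by rw [hN, mul_zero, zero_mul]
    have hSp : S * p = p := by
      rw [hp, ← mul_assoc]
      congr 1
      exact mul_hf_sn hS false
    have hTp : T * p = -p := by
      rw [hp, ← mul_assoc, hf_comm' hST.symm, mul_assoc]
      have := mul_hf_sn hT true
      simp only [sn, if_true] at this
      rw [this, mul_neg]
    have t0 : p + Y * p + Y * Y * p = 0 := by
      have := congrArg (· * p) hNY
      simpa only [add_mul, _root_.one_mul, _root_.MulZeroClass.zero_mul] using this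
    have t1 : S * (p + Y * p + Y * Y * p) = p - Y * p - Y * Y * p := by
      have hTY : T * Y = Y * (S * T) := by
        have h5 : Y * (S * T) = (S * T) * (S * Y) := by
          rw [← mul_assoc, hBS, mul_assoc, hBT]
        rw [h5, ← mul_assoc, hSTS]
      have s1 : S * (Y * p) = -(Y * p) := by rw [← mul_assoc, ← hBT, mul_assoc, hTp, mul_neg]
      have s2 : S * (Y * Y * p) = -(Y * Y * p) := by
        rw [mul_assoc Y, ← mul_assoc S, ← hBT, mul_assoc Y T, ← mul_assoc T Y, hTY, mul_assoc Y (S * T), mul_assoc S, hTp,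
          mul_neg, hSp, mul_neg, mul_neg]
      rw [mul_add, mul_add, hSp, s1, s2]
      abel
    rw [t0, mul_zero] at t1
    have t2 : (2 : F) • p = 0 := by
      have : (2 : F) • p = (p + Y * p + Y * Y * p) + (p - Y * p - Y * Y * p) := by
        rw [two_smul]
        abel
      rw [this, t0, ← t1, add_zero]
    have t3 : p = 0 := by
      rcases smul_eq_zero.1 t2 with h | h
      · exact absurd h h2
      · exact h
    apply hne
    rw [t3]
    unfold rk
    rw [LinearMap.range_zero, finrank_bot]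
  · apply hC1
    have hN : (C - 1) = 0 := by
      apply spread
      · rw [sub_mul, mul_sub, hCB, one_mul, mul_one]
      · rw [sub_mul, one_mul, sub_eq_zero]
        apply LinearMap.ext
        intro v
        exact h (p v) ⟨v, rfl⟩
    exact sub_eq_zero.1 hN

end gen

/-- **`A₇` has no faithful symplectic representation of dimension 6 in odd characteristic.** -/
theorem a7_simple {F : Type u} [Field F] [Finite F] {ι : Type} [Fintype ι] [DecidableEq ι] {P : Subgroup (GL ι F)}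
    (hC : Core P) (h2 : (2 : F) ≠ 0) (hA : FixA P) (hn : Fintype.card ι = 6)
    (hZ : (scalars ι F).subgroupOf P = ⊥) (e : Soc P ≃* alternatingGroup (Fin 7)) : False := by
  obtain ⟨f, hf, hfix⟩ := hA
  have hinj : Function.Injective (toSoc P) := by
    rw [← MonoidHom.ker_eq_bot_iff, ker_toSoc, hZ]
  let φ : P ≃* alternatingGroup (Fin 7) := (MulEquiv.ofBijective (toSoc P) ⟨hinj, toSoc_surjective P⟩).trans e
  let ρ : alternatingGroup (Fin 7) →* Module.End F (ι → F) :=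
    (((Matrix.toLinAlgEquiv' (R := F) (n := ι)).toAlgHom.toMonoidHom.comp (Units.coeHom (Matrix ι ι F))).comp
      P.subtype).comp φ.symm.toMonoidHom
  have hρ : ∀ g v, ρ g v = (((φ.symm g : P) : GL ι F) : Matrix ι ι F) *ᵥ v := fun g v => rfl
  refine main h2 (H953.toBil hf) (H953.toBil_isAlt hf) (fun u h => H953.toBil_nd hf u h) ?_ ρ ?_ ?_
  · rw [Module.finrank_fintype_fun_eq_card, hn]
  · intro g g' h
    apply φ.symm.injective
    apply Subtype.ext
    apply Units.ext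
    exact (Matrix.toLinAlgEquiv' (R := F) (n := ι)).injective h
  · intro g v w
    rw [H953.toBil_apply, H953.toBil_apply, hρ, hρ]
    exact hfix _ ⟨_, (φ.symm g).2, rfl⟩ v w

end Cfsg.Agent.H936.SixA7
end

-- part: H793/TD/Grp
section
/-!
# The double cover of `A₇` as a matrix group : the group side (helper793)

`P` a core with `P / scalars ≅ A₇`, fixing an alternating form, characteristic not two, scalars not trivial:
`exists_good` : `P` with its map to `A₇` is `H637.A7Cov.Good` with `z = -1`.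
-/

set_option autoImplicit false
set_option linter.unusedSectionVars false

namespace Cfsg.Agent.H793.TD

open Cfsg Cfsg.Geo Matrix Cfsg.Agent.H637.A7Grp Cfsg.Agent.H637.A7Cov Cfsg.Agent.H915.LD Subgroup

universe u v

section good

variable {D : Type u} [Group D] {π : D →* alternatingGroup (Fin 7)} {g : Fin 5 → D} {z : D} (H : Good π g z)

include H

/-- lifts of order three are unique -/
theorem cube_eq {a b : D} (h : π a = π b) (ha : a ^ 3 = 1) (hb : b ^ 3 = 1) : a = b := by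
  rcases H.eq_or h with h1 | h1
  · exact h1
  · have h2 : (z * b) ^ 3 = z := by
      have hc : Commute z b := H.zc b
      rw [hc.mul_pow, hb, mul_one, pow_succ, pow_two, H.zz, one_mul]
    rw [h1, h2] at ha
    rw [h1, ha, one_mul]

end good

/-- transfer along the first projection from a trivial group -/
theorem good_of_cover {P : Type u} [Group P] (π : P →* alternatingGroup (Fin 7)) (hπ : Function.Surjective π)
    (hk : ∀ k, π k = 1 → (∀ g, k * g = g * k) ∧ k * k = 1) (hperf : commutator P = ⊤) :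
    ∃ (g : Fin 5 → P) (z : P), Good π g z := by
  obtain ⟨D, g, z, H, h1, -, -⟩ := exists_good (Q := Unit) (S := fun _ => 1) (m := 1) π hπ hk hperf
    (fun _ => rfl) (fun _ _ _ => rfl) rfl (fun _ => rfl)
  let f : D →* P := (MonoidHom.fst P Unit).comp D.subtype
  have hf : Function.Surjective f := h1
  have hfin := H.fin
  refine ⟨fun i => f (g i), f z, ⟨Finite.of_surjective f hf, H.gP, fun i => ?_, fun i j hij => ?_, fun d => ?_, ?_, ?_,
    fun d hd => ?_⟩⟩
  · rw [← map_pow, H.cube, map_one]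
  · rw [← map_mul, ← map_pow, H.sq i j hij]
  · obtain ⟨d', rfl⟩ := hf d
    rw [← map_mul, ← map_mul, H.zc]
  · rw [← map_mul, H.zz, map_one]
  · have h2 : (_root_.Subgroup.closure (Set.range g)).map f = ⊤ := by
      rw [H.gen, ← MonoidHom.range_eq_map, MonoidHom.range_eq_top]
      exact hf
    rw [MonoidHom.map_closure, ← Set.range_comp] at h2
    exact h2
  · obtain ⟨d', rfl⟩ := hf d
    rcases H.ker d' hd with h | h
    · left; rw [h, map_one]
    · right; rw [h]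

/-! ### elements of `A₇` -/

/-- maps `0, 1, 2` to `4, 5, 6` and these to `0, 2, 1` -/
def tP : Equiv.Perm (Fin 7) := c[(0 : Fin 7), 4] * c[(1 : Fin 7), 5, 2, 6]

/-- `(0 1) (2 3)` -/
def rP : Equiv.Perm (Fin 7) := c[(0 : Fin 7), 1] * c[(2 : Fin 7), 3]

theorem tP_sign : Equiv.Perm.sign tP = 1 := by decide +kernel
theorem rP_sign : Equiv.Perm.sign rP = 1 := by decide +kernel

def tA : alternatingGroup (Fin 7) := ⟨tP, Equiv.Perm.mem_alternatingGroup.2 tP_sign⟩
def rA : alternatingGroup (Fin 7) := ⟨rP, Equiv.Perm.mem_alternatingGroup.2 rP_sign⟩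

theorem tA_sq : (tA * tA) * (tA * tA) = 1 := by decide +kernel
theorem tA_sq_ne : tA * tA ≠ 1 := by decide +kernel
theorem rA_conj : rA * s 0 * rA⁻¹ = (s 1)⁻¹ := by decide +kernel
theorem rA_comm : rA * (tA * s 0 * tA⁻¹) * rA⁻¹ = tA * s 0 * tA⁻¹ := by decide +kernel
theorem s_comm : (tA * s 0 * tA⁻¹) * s 0 * (tA * s 0 * tA⁻¹)⁻¹ = s 0 := by decide +kernel
theorem tA_conj : tA * (tA * s 0 * tA⁻¹) * tA⁻¹ = (s 0)⁻¹ := by decide +kernel

end Cfsg.Agent.H793.TD
end

-- part: H793/TD/Big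
section
/-!
# The double cover of `A₇` in dimension six : characteristic different from three (helper793)
-/

set_option autoImplicit false
set_option linter.unusedSectionVars false

namespace Cfsg.Agent.H793.TD

open Cfsg Cfsg.Geo Matrix Cfsg.Agent.H637.A7Grp Cfsg.Agent.H637.A7Cov Cfsg.Agent.H915.LD Subgroup

universe u v

section mat

variable {ι : Type} [Fintype ι] [DecidableEq ι] {F : Type u} [Field F]

/-- `T C T⁻¹ = A⁻¹`, `C = T A T⁻¹`, dimension six : `A + A² + C + C² - 4` is singular. -/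
theorem det_zero (h2 : (2 : F) ≠ 0) (hn : Fintype.card ι = 6) {A C T S : Matrix ι ι F}
    (hA : A * A * A = 1) (hC : C * C * C = 1) (hAC : A * C = C * A) (hS : T * S = 1)
    (h1 : T * A * S = C) (h3 : T * C * S = A * A) : (A + A * A + C + C * C - 4 • (1 : Matrix ι ι F)).det = 0 := by
  classical
  let K := AlgebraicClosure F
  obtain ⟨i, hi⟩ : ∃ i : K, i * i = -1 := by
    obtain ⟨i, hi⟩ := IsAlgClosed.exists_pow_nat_eq (-1 : K) (n := 2) (by norm_num)
    exact ⟨i, by rw [← pow_two, hi]⟩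
  have h2K : (2 : K) ≠ 0 := by
    intro h
    apply h2
    apply (algebraMap F K).injective
    rw [map_ofNat, map_zero, h]
  have key : ∀ {A C T S : Matrix ι ι K}, A * A * A = 1 → C * C * C = 1 → A * C = C * A → T * S = 1 →
      T * A * S = C → T * C * S = A * A → (A + A * A + C + C * C - 4 • (1 : Matrix ι ι K)).det = 0 := by
    intro A C T S hA hC hAC hS h1 h3
    have hS' : S * T = 1 := mul_eq_one_comm.1 hS
    have e1 : T * (A * A) * S = C * C := by
      rw [← h1]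
      calc T * (A * A) * S = T * A * 1 * A * S := by rw [Matrix.mul_one]; simp only [Matrix.mul_assoc]
        _ = T * A * (S * T) * A * S := by rw [hS']
        _ = T * A * S * (T * A * S) := by simp only [Matrix.mul_assoc]
    have e2 : T * (C * C) * S = A := by
      calc T * (C * C) * S = T * C * 1 * C * S := by rw [Matrix.mul_one]; simp only [Matrix.mul_assoc]
        _ = T * C * (S * T) * C * S := by rw [hS']
        _ = T * C * S * (T * C * S) := by simp only [Matrix.mul_assoc]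
        _ = A * A * A * A := by rw [h3]; simp only [Matrix.mul_assoc]
        _ = A := by rw [hA, Matrix.one_mul]
    set M := (A - A * A) - i • (C - C * C) with hM
    have e3 : T * M * S = i • M := by
      rw [hM]
      simp only [Matrix.mul_sub, Matrix.sub_mul, Matrix.mul_smul, Matrix.smul_mul, smul_sub, smul_smul, hi, h1, h3, e1, e2,
        neg_smul, one_smul]
      abel
    have e4 : M.det = 0 := by
      have h4 := congrArg Matrix.det e3
      rw [Matrix.det_mul, Matrix.det_mul, Matrix.det_smul, hn, show i ^ 6 = -1 by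
        rw [show 6 = 2 * 3 from rfl, pow_mul, pow_two, hi]; norm_num] at h4
      have h5 : T.det * S.det = 1 := by rw [← Matrix.det_mul, hS, Matrix.det_one]
      have h6 : (2 : K) * M.det = 0 := by linear_combination h4 - M.det * h5
      exact (mul_eq_zero.1 h6).resolve_left h2K
    have e5 : M * ((A - A * A) + i • (C - C * C)) = A + A * A + C + C * C - 4 • (1 : Matrix ι ι K) := by
      have a1 : (A - A * A) * (A - A * A) = A + A * A - 2 • (1 : Matrix ι ι K) := by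
        have : (A - A * A) * (A - A * A) = A * A - A * A * A - A * A * A + A * A * A * A := by
          simp only [sub_mul, mul_sub, mul_assoc]; abel
        rw [this, hA, Matrix.one_mul, two_smul]
        abel
      have a2 : (C - C * C) * (C - C * C) = C + C * C - 2 • (1 : Matrix ι ι K) := by
        have : (C - C * C) * (C - C * C) = C * C - C * C * C - C * C * C + C * C * C * C := by
          simp only [sub_mul, mul_sub, mul_assoc]; abel
        rw [this, hC, Matrix.one_mul, two_smul]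
        abel
      have a3 : (A - A * A) * (C - C * C) = (C - C * C) * (A - A * A) := by
        have c0 : Commute A C := hAC
        have c1 : Commute (A - A * A) C := Commute.sub_left c0 (c0.mul_left c0)
        exact (c1.sub_right (c1.mul_right c1)).eq
      rw [hM, Matrix.sub_mul, Matrix.mul_add, Matrix.mul_add, Matrix.mul_smul, Matrix.smul_mul, Matrix.smul_mul,
        Matrix.mul_smul, smul_smul, hi, a1, a2, a3, neg_smul, one_smul]
      have : (4 : ℕ) • (1 : Matrix ι ι K) = 2 • 1 + 2 • 1 := by rw [← add_smul]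
      rw [this]
      abel
    rw [← e5, Matrix.det_mul, e4, zero_mul]
  apply (algebraMap F K).injective
  rw [map_zero, RingHom.map_det, map_sub, map_add, map_add, map_add, map_mul, map_mul, map_nsmul, map_one]
  apply key (T := (algebraMap F K).mapMatrix T) (S := (algebraMap F K).mapMatrix S)
  · rw [← map_mul, ← map_mul, hA, map_one]
  · rw [← map_mul, ← map_mul, hC, map_one]
  · rw [← map_mul, ← map_mul, hAC]
  · rw [← map_mul, hS, map_one]
  · rw [← map_mul, ← map_mul, h1]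
  · rw [← map_mul, ← map_mul, h3, map_mul]

/-- a fixed vector -/
theorem exists_fixed (h2 : (2 : F) ≠ 0) (h30 : (3 : F) ≠ 0) (hn : Fintype.card ι = 6) {A C T S : Matrix ι ι F}
    (hA : A * A * A = 1) (hC : C * C * C = 1) (hAC : A * C = C * A) (hS : T * S = 1)
    (h1 : T * A * S = C) (h3 : T * C * S = A * A) : ∃ v : ι → F, v ≠ 0 ∧ A *ᵥ v = v ∧ C *ᵥ v = v := by
  obtain ⟨v, hv, hv0⟩ := Matrix.exists_mulVec_eq_zero_iff.2 (det_zero h2 hn hA hC hAC hS h1 h3)
  have key : ∀ {A C : Matrix ι ι F}, A * A * A = 1 → C * C * C = 1 → A * C = C * A →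
      (A + A * A + C + C * C - 4 • (1 : Matrix ι ι F)) *ᵥ v = 0 → A *ᵥ v = v := by
    intro A C hA hC hAC hv0
    have c0 : Commute A C := hAC
    set α := A + A * A with hα
    set γ := C + C * C with hγ
    have hαγ : α * γ = γ * α := by
      have c1 : Commute α C := Commute.add_left c0 (c0.mul_left c0)
      exact (c1.add_right (c1.mul_right c1)).eq
    have α2 : α * α = α + 2 • (1 : Matrix ι ι F) := by
      have : α * α = A * A + A * A * A + A * A * A + A * A * A * A := by rw [hα]; noncomm_ring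
      rw [this, hA, Matrix.one_mul, two_smul, hα]
      abel
    have γ2 : γ * γ = γ + 2 • (1 : Matrix ι ι F) := by
      have : γ * γ = C * C + C * C * C + C * C * C + C * C * C * C := by rw [hγ]; noncomm_ring
      rw [this, hC, Matrix.one_mul, two_smul, hγ]
      abel
    -- `(α + γ - 4) v = 0`
    have e0 : α *ᵥ v + γ *ᵥ v = (4 : F) • v := by
      have h4 : (α + γ - 4 • (1 : Matrix ι ι F)) *ᵥ v = 0 := by
        rw [← hv0, hα, hγ]
        congr 2
        abel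
      rw [Matrix.sub_mulVec, Matrix.add_mulVec, Matrix.smul_mulVec, Matrix.one_mulVec, sub_eq_zero] at h4
      rw [h4, ← Nat.cast_smul_eq_nsmul F]
      norm_num
    have α2v : ∀ w : ι → F, α *ᵥ (α *ᵥ w) = α *ᵥ w + (2 : F) • w := by
      intro w
      rw [Matrix.mulVec_mulVec, α2, Matrix.add_mulVec, Matrix.smul_mulVec, Matrix.one_mulVec, ← Nat.cast_smul_eq_nsmul F]
      norm_num
    have γ2v : ∀ w : ι → F, γ *ᵥ (γ *ᵥ w) = γ *ᵥ w + (2 : F) • w := by
      intro w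
      rw [Matrix.mulVec_mulVec, γ2, Matrix.add_mulVec, Matrix.smul_mulVec, Matrix.one_mulVec, ← Nat.cast_smul_eq_nsmul F]
      norm_num
    have hc : α *ᵥ (γ *ᵥ v) = γ *ᵥ (α *ᵥ v) := by rw [Matrix.mulVec_mulVec, Matrix.mulVec_mulVec, hαγ]
    -- `x = α v - 2 v` is killed by `α + 1` and `γ + 1`
    set x := α *ᵥ v - (2 : F) • v with hx
    have hx' : x = -(γ *ᵥ v - (2 : F) • v) := by
      rw [hx]
      have : γ *ᵥ v = (4 : F) • v - α *ᵥ v := by rw [← e0]; abel
      rw [this, show (4 : F) = 2 + 2 by norm_num, add_smul]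
      abel
    have e1 : α *ᵥ x = -x := by
      rw [hx, Matrix.mulVec_sub, α2v, Matrix.mulVec_smul, two_smul F (α *ᵥ v)]
      abel
    have e2 : γ *ᵥ x = -x := by
      conv_lhs => rw [hx']
      rw [Matrix.mulVec_neg, Matrix.mulVec_sub, γ2v, Matrix.mulVec_smul, hx', two_smul F (γ *ᵥ v)]
      abel
    have e3 : α *ᵥ x + γ *ᵥ x = (4 : F) • x := by
      rw [hx, Matrix.mulVec_sub, Matrix.mulVec_sub, Matrix.mulVec_smul, Matrix.mulVec_smul, smul_sub, ← hc,
        smul_comm (4 : F) (2 : F), ← e0, smul_add]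
      have : α *ᵥ (α *ᵥ v) + α *ᵥ (γ *ᵥ v) = (4 : F) • α *ᵥ v := by
        rw [← Matrix.mulVec_add, e0, Matrix.mulVec_smul]
      rw [← this]
      abel
    have e4 : x = 0 := by
      rw [e1, e2] at e3
      have h6 : ((2 : F) * 3) • x = 0 := by
        have : (6 : F) • x = (4 : F) • x + (2 : F) • x := by rw [← add_smul]; norm_num
        rw [show (2 : F) * 3 = 6 by norm_num, this, ← e3, two_smul]
        abel
      exact (smul_eq_zero.1 h6).resolve_left (mul_ne_zero h2 h30)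
    have e5 : A *ᵥ v + A *ᵥ (A *ᵥ v) = (2 : F) • v := by
      have h7 : α *ᵥ v = (2 : F) • v := sub_eq_zero.1 e4
      rw [← h7, hα, Matrix.add_mulVec, Matrix.mulVec_mulVec]
    have e6 : A *ᵥ (A *ᵥ v) + v = (2 : F) • (A *ᵥ v) := by
      have h7 := congrArg (A *ᵥ ·) e5
      simp only [Matrix.mulVec_add, Matrix.mulVec_smul, Matrix.mulVec_mulVec] at h7
      rw [← h7, Matrix.mulVec_mulVec, ← Matrix.mul_assoc, hA, Matrix.one_mulVec]
    have e7 : (3 : F) • (A *ᵥ v - v) = 0 := by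
      rw [smul_sub, show (3 : F) = 2 + 1 by norm_num, add_smul, add_smul, one_smul, one_smul, ← e5, ← e6]
      abel
    exact sub_eq_zero.1 ((smul_eq_zero.1 e7).resolve_left h30)
  refine ⟨v, hv, key hA hC hAC hv0, key hC hA hAC.symm ?_⟩
  rw [← hv0]
  congr 2
  abel

end mat

section rep

variable {ι : Type} [Fintype ι] [DecidableEq ι] {F : Type u} [Field F] {P : Subgroup (GL ι F)}
  {π : P →* alternatingGroup (Fin 7)} {g : Fin 5 → P} {z : P}

/-- the matrix of an element of `P` -/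
def mt (x : P) : Matrix ι ι F := ((x : GL ι F) : Matrix ι ι F)

theorem mt_mul (x y : P) : mt (x * y) = mt x * mt y := by unfold mt; rw [Subgroup.coe_mul, Units.val_mul]

theorem mt_one : mt (1 : P) = 1 := rfl

theorem mt_mulVec (x y : P) (v : ι → F) : mt (x * y) *ᵥ v = mt x *ᵥ (mt y *ᵥ v) := by
  rw [mt_mul, Matrix.mulVec_mulVec]

theorem mt_inv_mulVec (x : P) {v w : ι → F} (h : mt x *ᵥ v = w) : mt x⁻¹ *ᵥ w = v := by
  rw [← h, ← mt_mulVec, inv_mul_cancel, mt_one, Matrix.one_mulVec]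

/-- the common fixed space -/
def fx (S : Set P) : Submodule F (ι → F) where
  carrier := {v | ∀ x ∈ S, mt x *ᵥ v = v}
  add_mem' := fun {u v} hu hv x hx => by rw [Matrix.mulVec_add, hu x hx, hv x hx]
  zero_mem' := fun x _ => Matrix.mulVec_zero _
  smul_mem' := fun c v hv x hx => by rw [Matrix.mulVec_smul, hv x hx]

theorem mem_fx {S : Set P} {v : ι → F} : v ∈ fx S ↔ ∀ x ∈ S, mt x *ᵥ v = v := Iff.rfl

theorem map_fx (y : P) {S S' : Set P} (h : ∀ x ∈ S', y⁻¹ * x * y ∈ S ∨ (y⁻¹ * x * y)⁻¹ ∈ S) :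
    (fx S).map (Matrix.toLin' (mt y)) ≤ fx S' := by
  rintro _ ⟨v, hv, rfl⟩ x hx
  rw [Matrix.toLin'_apply, ← mt_mulVec]
  have h1 : mt (y⁻¹ * x * y) *ᵥ v = v := by
    rcases h x hx with h | h
    · exact hv _ h
    · have := mt_inv_mulVec _ (hv _ h)
      rwa [inv_inv] at this
  rw [show x * y = y * (y⁻¹ * x * y) by group, mt_mulVec, h1]

theorem finrank_map (y : P) (W : Submodule F (ι → F)) :
    Module.finrank F (W.map (Matrix.toLin' (mt y))) = Module.finrank F W := by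
  have hinj : Function.Injective (Matrix.toLin' (mt y)) := by
    intro u v h
    rw [Matrix.toLin'_apply, Matrix.toLin'_apply] at h
    rw [← mt_inv_mulVec y (rfl : mt y *ᵥ u = _), h, mt_inv_mulVec y rfl]
  exact (Submodule.equivMapOfInjective _ hinj W).finrank_eq.symm

/-- disjoint subspaces of a subspace -/
theorem two_mul_le (y : P) {S S' : Set P} (h : ∀ x ∈ S', y⁻¹ * x * y ∈ S ∨ (y⁻¹ * x * y)⁻¹ ∈ S)
    (hd : fx S ⊓ fx S' = ⊥) {W : Submodule F (ι → F)} (hW : W ≤ fx S) :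
    2 * Module.finrank F W ≤ Module.finrank F (W ⊔ W.map (Matrix.toLin' (mt y)) : Submodule F (ι → F)) := by
  have h1 := Submodule.finrank_sup_add_finrank_inf_eq W (W.map (Matrix.toLin' (mt y)))
  have h2 : W ⊓ W.map (Matrix.toLin' (mt y)) = ⊥ := by
    rw [eq_bot_iff, ← hd]
    exact inf_le_inf hW ((Submodule.map_mono hW).trans (map_fx y h))
  rw [h2, finrank_bot, add_zero, finrank_map] at h1
  omega

/-- a pair fixed by `A` and `A'` -/
theorem Good_no_common (h2 : (2 : F) ≠ 0) (H : Good π g z) (hz : mt z = -1) {v : ι → F} (h0 : mt (g 0) *ᵥ v = v)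
    (h1 : mt (g 1) *ᵥ v = v) : v = 0 := by
  have e1 : mt z *ᵥ v = v := by
    have e0 : mt (g 0 * g 1) *ᵥ v = v := by rw [mt_mulVec, h1, h0]
    rw [← H.sq 0 1 (by decide), pow_two, mt_mulVec, e0, e0]
  rw [hz, Matrix.neg_mulVec, Matrix.one_mulVec] at e1
  have e2 : (2 : F) • v = 0 := by
    rw [two_smul]
    nth_rewrite 1 [← e1]
    exact neg_add_cancel v
  exact (smul_eq_zero.1 e2).resolve_left h2

theorem not_big (h2 : (2 : F) ≠ 0) (h30 : (3 : F) ≠ 0) (hn : Fintype.card ι = 6) (H : Good π g z) (hz : mt z = -1)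
    (hA : FixA P) : False := by
  obtain ⟨f, hf, hfix⟩ := hA
  have hfix' : ∀ (x : P) (u v : ι → F), f (mt x *ᵥ u) (mt x *ᵥ v) = f u v := fun x u v =>
    hfix _ ⟨_, x.2, rfl⟩ u v
  obtain ⟨T, hT⟩ := H.surj tA
  obtain ⟨R, hR⟩ := H.surj rA
  set A := g 0 with hAdef
  set A' := g 1 with hA'def
  have hA3 : A ^ 3 = 1 := H.cube 0
  have hA3' : A' ^ 3 = 1 := H.cube 1
  have hAi : A⁻¹ = A * A := by
    rw [inv_eq_iff_mul_eq_one, ← mul_assoc, ← hA3, pow_succ, pow_two]
  set C := T * A * T⁻¹ with hC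
  have conj3 : ∀ {x y : P}, x ^ 3 = 1 → (y * x * y⁻¹) ^ 3 = 1 := by
    intro x y h
    rw [conj_pow, h, mul_one, mul_inv_cancel]
  have hC3 : C ^ 3 = 1 := conj3 hA3
  have hπA : π A = s 0 := H.gP 0
  have hπA' : π A' = s 1 := H.gP 1
  have hπC : π C = tA * s 0 * tA⁻¹ := by rw [hC, map_mul, map_mul, map_inv, hT, hπA]
  have i3 : ∀ {x : P}, x ^ 3 = 1 → x⁻¹ ^ 3 = 1 := by
    intro x h
    rw [inv_pow, h, inv_one]
  have e1 : T * C * T⁻¹ = A⁻¹ := cube_eq H (by
    rw [map_mul, map_mul, map_inv, map_inv, hT, hπC, hπA, tA_conj]) (conj3 hC3) (i3 hA3)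
  have e2 : C * A * C⁻¹ = A := cube_eq H (by
    rw [map_mul, map_mul, map_inv, hπC, hπA, s_comm]) (conj3 hA3) hA3
  have e3 : R * A * R⁻¹ = A'⁻¹ := cube_eq H (by
    rw [map_mul, map_mul, map_inv, map_inv, hR, hπA, hπA', rA_conj]) (conj3 hA3) (i3 hA3')
  have e4 : R * C * R⁻¹ = C := cube_eq H (by
    rw [map_mul, map_mul, map_inv, hR, hπC, rA_comm]) (conj3 hC3) hC3
  have e5 : A * C = C * A := by
    rw [mul_inv_eq_iff_eq_mul] at e2
    exact e2.symm
  -- a fixed vector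
  obtain ⟨v, hv, hvA, hvC⟩ : ∃ v : ι → F, v ≠ 0 ∧ mt A *ᵥ v = v ∧ mt C *ᵥ v = v := by
    apply exists_fixed h2 h30 hn (T := mt T) (S := mt T⁻¹)
    · rw [← mt_mul, ← mt_mul, ← mt_one (P := P), ← hA3, pow_succ, pow_two]
    · rw [← mt_mul, ← mt_mul, ← mt_one (P := P), ← hC3, pow_succ, pow_two]
    · rw [← mt_mul, ← mt_mul, e5]
    · rw [← mt_mul, mul_inv_cancel, mt_one]
    · rw [← mt_mul, ← mt_mul, hC]
    · rw [← mt_mul, ← mt_mul, ← mt_mul, e1, hAi]
  -- the fixed space of `A` and `C` is non-degenerate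
  set W : Submodule F (ι → F) := fx {A, C} with hW
  have hvW : v ∈ W := by
    rintro x (rfl | hx)
    · exact hvA
    · rw [Set.mem_singleton_iff.1 hx]; exact hvC
  obtain ⟨w, hwW, hvw⟩ : ∃ w ∈ W, f v w ≠ 0 := by
    obtain ⟨w, hw⟩ := (hf.nondegenerate v hv).2
    -- averages
    have avg : ∀ (B : P), B ^ 3 = 1 → mt B *ᵥ v = v → ∀ w : ι → F, f v w ≠ 0 →
        mt B *ᵥ (w + mt B *ᵥ w + mt (B * B) *ᵥ w) = w + mt B *ᵥ w + mt (B * B) *ᵥ w ∧
        f v (w + mt B *ᵥ w + mt (B * B) *ᵥ w) ≠ 0 := by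
      intro B hB hBv w hw
      refine ⟨?_, ?_⟩
      · rw [Matrix.mulVec_add, Matrix.mulVec_add, ← mt_mulVec, ← mt_mulVec, ← mul_assoc,
          show B * B * B = 1 by rw [← hB, pow_succ, pow_two], mt_one, Matrix.one_mulVec]
        abel
      · rw [hf.bilinear.add_right, hf.bilinear.add_right]
        have a1 : f v (mt B *ᵥ w) = f v w := by
          conv_lhs => rw [← hBv]
          exact hfix' _ _ _
        have a2 : f v (mt (B * B) *ᵥ w) = f v w := by
          conv_lhs => rw [← hBv, mt_mulVec]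
          rw [hfix', a1]
        rw [a1, a2]
        intro h
        apply hw
        have : (3 : F) * f v w = 0 := by linear_combination h
        exact (mul_eq_zero.1 this).resolve_left h30
    obtain ⟨b1, b2⟩ := avg A hA3 hvA w hw
    obtain ⟨b3, b4⟩ := avg C hC3 hvC _ b2
    set w1 := w + mt A *ᵥ w + mt (A * A) *ᵥ w with hw1
    have c1 : ∀ x : P, A * x = x * A → mt A *ᵥ (mt x *ᵥ w1) = mt x *ᵥ w1 := by
      intro x hx
      rw [← mt_mulVec, hx, mt_mulVec, b1]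
    refine ⟨_, ?_, b4⟩
    rintro x (rfl | hx)
    · rw [Matrix.mulVec_add, Matrix.mulVec_add, b1, c1 C e5, c1 (C * C) (by rw [← mul_assoc, e5, mul_assoc C A, e5, ← mul_assoc])]
    · rw [Set.mem_singleton_iff.1 hx]; exact b3
  have hW2 : 2 ≤ Module.finrank F W := by
    have hli : LinearIndependent F ![(⟨v, hvW⟩ : W), ⟨w, hwW⟩] := by
      rw [LinearIndependent.pair_iff]
      intro a b hab
      have h1 : a • v + b • w = 0 := congrArg Subtype.val hab
      have h3 : f v (a • v + b • w) = b * f v w := by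
        rw [hf.bilinear.add_right, hf.bilinear.smul_right, hf.bilinear.smul_right, hf.alternating, mul_zero, zero_add]
      have h4 : f v 0 = 0 := by
        have := hf.bilinear.smul_right 0 v 0
        rw [zero_smul, zero_mul] at this
        exact this
      rw [h1, h4] at h3
      have hb : b = 0 := (mul_eq_zero.1 h3.symm).resolve_right hvw
      rw [hb, zero_smul, add_zero] at h1
      exact ⟨(smul_eq_zero.1 h1).resolve_right hv, hb⟩
    have h5 := hli.fintype_card_le_finrank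
    rwa [Fintype.card_fin] at h5
  -- `R`
  have d1 : fx {A, C} ⊓ fx {A', C} = (⊥ : Submodule F (ι → F)) := by
    rw [eq_bot_iff]
    rintro u ⟨h3, h4⟩
    exact Good_no_common h2 H hz (h3 A (Or.inl rfl)) (h4 A' (Or.inl rfl))
  have hRA : R⁻¹ * A' * R = A⁻¹ := by
    have : A' = R * A⁻¹ * R⁻¹ := by rw [← inv_inv A', ← e3]; group
    rw [this]; group
  have hRC : R⁻¹ * C * R = C := by
    conv_lhs => rw [← e4]
    group
  have hS1 : ∀ x ∈ ({A', C} : Set P), R⁻¹ * x * R ∈ ({A, C} : Set P) ∨ (R⁻¹ * x * R)⁻¹ ∈ ({A, C} : Set P) := by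
    rintro x (rfl | hx)
    · right; left; rw [hRA, inv_inv]
    · rw [Set.mem_singleton_iff.1 hx, hRC]; left; right; rfl
  have hU4 := two_mul_le R hS1 d1 (le_refl W)
  set U : Submodule F (ι → F) := W ⊔ W.map (Matrix.toLin' (mt R)) with hU
  have hUC : U ≤ fx {C} := by
    apply sup_le
    · intro u hu x hx
      exact hu x (Or.inr hx)
    · refine (map_fx R hS1).trans ?_
      intro u hu x hx
      exact hu x (Or.inr hx)
  have hT2 : (T * R * T⁻¹)⁻¹ * (T * A' * T⁻¹) * (T * R * T⁻¹) = C⁻¹ := by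
    calc (T * R * T⁻¹)⁻¹ * (T * A' * T⁻¹) * (T * R * T⁻¹) = T * (R⁻¹ * A' * R) * T⁻¹ := by group
      _ = C⁻¹ := by rw [hRA, hC]; group
  have d2 : fx {C} ⊓ fx {T * A' * T⁻¹} = (⊥ : Submodule F (ι → F)) := by
    rw [eq_bot_iff]
    rintro u ⟨h3, h4⟩
    have h5 : mt (T⁻¹) *ᵥ u = 0 := by
      apply Good_no_common h2 H hz
      · have h6 := h3 C rfl
        rw [← mt_mulVec, show g 0 * T⁻¹ = T⁻¹ * C by rw [hC, ← hAdef]; group, mt_mulVec, h6]
      · have h6 := h4 _ rfl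
        rw [← mt_mulVec, show g 1 * T⁻¹ = T⁻¹ * (T * A' * T⁻¹) by rw [← hA'def]; group, mt_mulVec, h6]
    have h6 := mt_inv_mulVec _ h5
    rw [Matrix.mulVec_zero] at h6
    exact h6.symm
  have hU8 := two_mul_le (T * R * T⁻¹) (S' := {T * A' * T⁻¹}) (by
    intro x hx
    rw [Set.mem_singleton_iff.1 hx, hT2, inv_inv]
    exact Or.inr rfl) d2 hUC
  have h6 := Submodule.finrank_le (U ⊔ U.map (Matrix.toLin' (mt (T * R * T⁻¹))))
  rw [Module.finrank_fintype_fun_eq_card, hn] at h6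
  omega

end rep

end Cfsg.Agent.H793.TD
end

-- part: H793/TD/Main
section
/-!
# The double cover of `A₇` in dimension six (helper793)

`a7_double` : a core with `P / scalars ≅ A₇` of degree six, fixing an alternating form, odd characteristic, scalars not
trivial, has characteristic three and `|F| = 9`.
-/

set_option autoImplicit false
set_option linter.unusedSectionVars false

namespace Cfsg.Agent.H793.TD

open Cfsg Cfsg.Geo Matrix Cfsg.Agent.H637.A7Grp Cfsg.Agent.H637.A7Cov Cfsg.Agent.H915.LD Subgroup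

universe u v

/-- conjugates the seven-cycle to its square -/
theorem x7_sq : ∃ c : alternatingGroup (Fin 7), c * x7 * c⁻¹ = x7 ^ 2 := by (set_option synthInstance.maxSize 9000 in open scoped Cfsg.Agent.Lib.FastPerm in decide +kernel)

/-- elements of order seven are conjugate to their squares -/
theorem seven_sq {d : alternatingGroup (Fin 7)} (h : (d : Equiv.Perm (Fin 7)).cycleType = {7}) :
    ∃ c : alternatingGroup (Fin 7), c * d * c⁻¹ = d ^ 2 := by
  obtain ⟨y, hy⟩ := x7_sq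
  rcases seven_conj h with ⟨c, rfl⟩ | ⟨c, rfl⟩
  · refine ⟨c * y * c⁻¹, ?_⟩
    calc c * y * c⁻¹ * (c * x7 * c⁻¹) * (c * y * c⁻¹)⁻¹ = c * (y * x7 * y⁻¹) * c⁻¹ := by group
      _ = (c * x7 * c⁻¹) ^ 2 := by rw [hy, conj_pow]
  · refine ⟨c * y * c⁻¹, ?_⟩
    calc c * y * c⁻¹ * (c * x7⁻¹ * c⁻¹) * (c * y * c⁻¹)⁻¹ = c * (y * x7 * y⁻¹)⁻¹ * c⁻¹ := by group
      _ = (c * x7⁻¹ * c⁻¹) ^ 2 := by rw [hy, conj_pow, inv_pow]

section rep

variable {ι : Type} [Fintype ι] [DecidableEq ι] {F : Type u} [Field F] {P : Subgroup (GL ι F)}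
  {π : P →* alternatingGroup (Fin 7)} {g : Fin 5 → P} {z : P}

theorem pow_nine (H : Good π g z) {d : P} (h3 : ¬ 3 ∣ orderOf d) : ∃ c : P, c * d * c⁻¹ = d ^ 9 := by
  have hz2 : z ^ 2 = 1 := by rw [pow_two, H.zz]
  have h3' : ¬ 3 ∣ orderOf (π d) := fun h => h3 (h.trans (orderOf_map_dvd π d))
  have hord : orderOf (π d) = (π d : Equiv.Perm (Fin 7)).cycleType.lcm := by
    rw [Equiv.Perm.lcm_cycleType, Subgroup.orderOf_coe]
  have hk : ∀ n, orderOf (π d) ∣ n → d ^ n = 1 ∨ d ^ n = z := by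
    intro n hn
    apply H.ker
    rw [map_pow]
    exact orderOf_dvd_iff_pow_eq_one.1 hn
  have hk2 : ∀ n, orderOf (π d) ∣ n → d ^ (n * 2) = 1 := by
    intro n hn
    rcases hk n hn with h | h
    · rw [pow_mul, h, one_pow]
    · rw [pow_mul, h, hz2]
  have h4 : orderOf (π d) ∣ 4 → ∃ c : P, c * d * c⁻¹ = d ^ 9 := by
    intro h
    have h1 := hk2 4 h
    exact ⟨1, by rw [one_mul, inv_one, mul_one, pow_succ, h1, one_mul]⟩
  rcases cycleType_cases (Equiv.Perm.mem_alternatingGroup.1 (π d).2) with h | h | h | h | h | h | h | h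
  · rw [h] at hord
    exact h4 (by rw [hord]; decide)
  · rw [h] at hord; exact (h3' (by rw [hord]; decide)).elim
  · rw [h] at hord
    exact h4 (by rw [hord]; decide)
  · rw [h] at hord; exact (h3' (by rw [hord]; decide)).elim
  · rw [h] at hord
    exact h4 (by rw [hord]; decide)
  · obtain ⟨y, hy⟩ := H.real (d := d) (by rw [h]; decide)
    refine ⟨y, hy.trans ?_⟩
    rw [h] at hord
    have h1 := hk2 5 (by rw [hord]; decide)
    rw [inv_eq_iff_mul_eq_one, ← pow_succ']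
    exact h1
  · rw [h] at hord; exact (h3' (by rw [hord]; decide)).elim
  · obtain ⟨c, hc⟩ := seven_sq h
    obtain ⟨c', rfl⟩ := H.surj c
    rw [h] at hord
    have h7 := hk 7 (by rw [hord]; decide)
    have h14 := hk2 7 (by rw [hord]; decide)
    have h77 : π d ^ 7 = 1 := by
      have := pow_orderOf_eq_one (π d)
      rwa [hord, show Multiset.lcm {7} = 7 by decide] at this
    have e1 : π (c' * d * c'⁻¹) = π (d ^ 9) := by
      rw [map_mul, map_mul, map_inv, hc, map_pow, show 9 = 7 + 2 from rfl, pow_add, h77, one_mul]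
    rcases H.eq_or e1 with h1 | h1
    · exact ⟨c', h1⟩
    · have e2 : (c' * d * c'⁻¹) ^ 7 = d ^ 7 := by
        rw [conj_pow]
        rcases h7 with h | h
        · rw [h, mul_one, mul_inv_cancel]
        · rw [h, ← H.zc, mul_inv_cancel_right]
      have e3 : (z * d ^ 9) ^ 7 = z * d ^ 7 := by
        have hc : Commute z (d ^ 9) := H.zc _
        rw [hc.mul_pow, show z ^ 7 = z by rw [show 7 = 2 * 3 + 1 from rfl, pow_succ, pow_mul, hz2, one_pow, one_mul],
          ← pow_mul, show 9 * 7 = 14 * 4 + 7 from rfl, pow_add, pow_mul, show 14 = 7 * 2 from rfl, h14, one_pow, one_mul]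
      rw [h1, e3] at e2
      have e4 : z = 1 := mul_eq_right.1 e2
      refine ⟨c', ?_⟩
      rw [h1, e4, one_mul]

/-- characteristic three: the traces lie in the field of order nine -/
theorem fr_nine [Finite F] [CharP F 3] (H : Good π g z) : Fr P (3 ^ 2) := by
  have : Fact (Nat.Prime 3) := ⟨Nat.prime_three⟩
  apply Fr.of_reg 3
  intro x hx ho
  obtain ⟨c, hc⟩ := pow_nine H (d := ⟨x, hx⟩) (by rwa [← Subgroup.orderOf_coe])
  have h1 : (c : GL ι F) * x * (c : GL ι F)⁻¹ = x ^ 9 := congrArg Subtype.val hc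
  rw [← tr_pow_char 3 x 2, show 3 ^ 2 = 9 from rfl, ← h1, tr_conj]

/-- the field of order three is impossible -/
theorem not_three (h2 : (2 : F) ≠ 0) (h3 : (3 : F) = 0) (hF : ∀ x : F, x ^ 3 = x) (hn : Fintype.card ι = 6)
    (H : Good π g z) (hz : mt z = -1) : False := by
  obtain ⟨T, hT⟩ := H.surj tA
  have hT4 : (T * T) * (T * T) = z := H.sq_eq (by rw [map_mul, hT]; exact tA_sq) (by rw [map_mul, hT]; exact tA_sq_ne)
  obtain ⟨y, hy⟩ := H.real (d := T) (by rw [hT]; decide +kernel)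
  have hi2 : T⁻¹ * T⁻¹ = z * (T * T) := by
    rw [← _root_.mul_inv_rev]
    apply inv_eq_of_mul_eq_one_left
    rw [mul_assoc, hT4, H.zz]
  -- the two operators
  obtain ⟨S, S_apply⟩ : ∃ S : Module.End F (ι → F), ∀ v, S v = mt T *ᵥ v - mt T⁻¹ *ᵥ v :=
    ⟨Matrix.toLin' (mt T - mt T⁻¹), fun v => by rw [Matrix.toLin'_apply, Matrix.sub_mulVec]⟩
  obtain ⟨R, R_apply⟩ : ∃ R : Module.End F (ι → F), ∀ v, R v = mt T *ᵥ v + mt T⁻¹ *ᵥ v :=
    ⟨Matrix.toLin' (mt T + mt T⁻¹), fun v => by rw [Matrix.toLin'_apply, Matrix.add_mulVec]⟩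
  have t1 : ∀ v : ι → F, mt T *ᵥ (mt T⁻¹ *ᵥ v) = v := fun v => by
    rw [← mt_mulVec, mul_inv_cancel, mt_one, Matrix.one_mulVec]
  have t2 : ∀ v : ι → F, mt T⁻¹ *ᵥ (mt T *ᵥ v) = v := fun v => by
    rw [← mt_mulVec, inv_mul_cancel, mt_one, Matrix.one_mulVec]
  have t3 : ∀ v : ι → F, mt T⁻¹ *ᵥ (mt T⁻¹ *ᵥ v) = -(mt T *ᵥ (mt T *ᵥ v)) := fun v => by
    rw [← mt_mulVec, hi2, mt_mulVec, hz, Matrix.neg_mulVec, Matrix.one_mulVec, mt_mulVec]
  have h3v : ∀ v : ι → F, v + v + v = 0 := fun v => by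
    have : (3 : F) • v = 0 := by rw [h3, zero_smul]
    rw [← this, show (3 : F) = 1 + 1 + 1 by norm_num, add_smul, add_smul, one_smul]
  have SS : ∀ v, S (S v) = v := by
    intro v
    rw [S_apply v, S_apply, Matrix.mulVec_sub, Matrix.mulVec_sub, t1, t2, t3]
    have := h3v v
    have e : mt T *ᵥ mt T *ᵥ v - v - (v - -(mt T *ᵥ mt T *ᵥ v)) = v - (v + v + v) := by abel
    rw [e, this, sub_zero]
  have RR : ∀ v, R (R v) = -v := by
    intro v
    rw [R_apply v, R_apply, Matrix.mulVec_add, Matrix.mulVec_add, t1, t2, t3]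
    have := h3v v
    have e : mt T *ᵥ mt T *ᵥ v + v + (v + -(mt T *ᵥ mt T *ᵥ v)) = (v + v + v) - v := by abel
    rw [e, this, zero_sub]
  have RS : ∀ v, R (S v) = S (R v) := by
    intro v
    rw [S_apply, R_apply, R_apply, S_apply, Matrix.mulVec_sub, Matrix.mulVec_sub, Matrix.mulVec_add, Matrix.mulVec_add,
      t1, t2]
    abel
  let Vp : Submodule F (ι → F) := LinearMap.ker (S - 1)
  let Vm : Submodule F (ι → F) := LinearMap.ker (S + 1)
  have hVp : ∀ {v}, v ∈ Vp ↔ S v = v := by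
    intro v
    rw [LinearMap.mem_ker, LinearMap.sub_apply, Module.End.one_apply, sub_eq_zero]
  have hVm : ∀ {v}, v ∈ Vm ↔ S v = -v := by
    intro v
    rw [LinearMap.mem_ker, LinearMap.add_apply, Module.End.one_apply, add_eq_zero_iff_eq_neg]
  have hyS : ∀ v, S (mt y *ᵥ v) = -(mt y *ᵥ S v) := by
    intro v
    have e1 : T * y = y * T⁻¹ := by
      have : y * T⁻¹ * y⁻¹ = T := by
        calc y * T⁻¹ * y⁻¹ = (y * T * y⁻¹)⁻¹ := by group
          _ = T := by rw [hy, inv_inv]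
      nth_rewrite 1 [← this]
      group
    have e2 : T⁻¹ * y = y * T := by
      rw [← hy]; group
    rw [S_apply, S_apply, ← mt_mulVec, ← mt_mulVec, e1, e2, mt_mulVec, mt_mulVec, Matrix.mulVec_sub]
    abel
  have hle1 : Vp.map (Matrix.toLin' (mt y)) ≤ Vm := by
    rintro _ ⟨v, hv, rfl⟩
    rw [hVm, Matrix.toLin'_apply, hyS, hVp.1 hv]
  have hle2 : Vm.map (Matrix.toLin' (mt y)) ≤ Vp := by
    rintro _ ⟨v, hv, rfl⟩
    rw [hVp, Matrix.toLin'_apply, hyS, hVm.1 hv, Matrix.mulVec_neg, neg_neg]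
  have f1 := Submodule.finrank_mono hle1
  have f2 := Submodule.finrank_mono hle2
  rw [finrank_map] at f1 f2
  have hinf : Vp ⊓ Vm = ⊥ := by
    rw [eq_bot_iff]
    rintro v ⟨h4, h5⟩
    have h6 : v = -v := (hVp.1 h4).symm.trans (hVm.1 h5)
    have h7 : (2 : F) • v = 0 := by
      rw [two_smul]
      nth_rewrite 1 [h6]
      exact neg_add_cancel v
    exact (smul_eq_zero.1 h7).resolve_left h2
  have hsup : Vp ⊔ Vm = ⊤ := by
    rw [eq_top_iff]
    intro v _
    have h4 : -(v + S v) ∈ Vp := by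
      rw [hVp, map_neg, map_add, SS, add_comm]
    have h5 : -(v - S v) ∈ Vm := by
      rw [hVm, map_neg, map_sub, SS]
      abel
    have h6 : v = -(v + S v) + -(v - S v) := by
      have := h3v v
      have e : -(v + S v) + -(v - S v) = v - (v + v + v) := by abel
      rw [e, this, sub_zero]
    rw [h6]
    exact Submodule.add_mem_sup h4 h5
  have f3 := Submodule.finrank_sup_add_finrank_inf_eq Vp Vm
  rw [hinf, hsup, finrank_bot, finrank_top, Module.finrank_fintype_fun_eq_card, hn] at f3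
  have f4 : Module.finrank F Vp = 3 := by omega
  have hRV : ∀ v ∈ Vp, R v ∈ Vp := by
    intro v hv
    rw [hVp, ← RS, hVp.1 hv]
  let R' : Module.End F Vp := R.restrict hRV
  have h4 : R' * R' = (-1 : F) • 1 := by
    ext1 v
    apply Subtype.ext
    show R ((R v :)) = (-1 : F) • (v : ι → F)
    rw [RR, neg_smul, one_smul]
  have h5 := congrArg LinearMap.det h4
  rw [map_mul, LinearMap.det_smul, f4, map_one, mul_one] at h5
  set x := LinearMap.det R' with hx
  have h6 := hF x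
  have h7 : (2 : F) * x = 0 := by linear_combination -h6 + x * h5
  have h8 : x = 0 := (mul_eq_zero.1 h7).resolve_left h2
  rw [h8] at h5
  norm_num at h5

end rep

section main

variable {ι : Type} [Fintype ι] [DecidableEq ι] {F : Type u} [Field F] {P : Subgroup (GL ι F)}

/-- `P` is the double cover -/
theorem exists_good' (hC : Core P) (hA : FixA P) (hZ : (scalars ι F).subgroupOf P ≠ ⊥)
    (e : Soc P ≃* alternatingGroup (Fin 7)) :
    ∃ (π : P →* alternatingGroup (Fin 7)) (g : Fin 5 → P) (z : P), Good π g z ∧ mt z = -1 := by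
  obtain ⟨f, hf, hfix⟩ := hA
  have hne := hC.nonempty
  have hpm : ∀ x : P, x ∈ (scalars ι F).subgroupOf P → mt x = 1 ∨ mt x = -1 := by
    intro x hx
    rw [Subgroup.mem_subgroupOf, mem_scalars_iff] at hx
    obtain ⟨c, hc⟩ := hx
    obtain ⟨i⟩ := hne
    have hv : (Pi.single i 1 : ι → F) ≠ 0 := by
      intro h
      have := congrFun h i
      simp at this
    obtain ⟨w, hw⟩ := (hf.nondegenerate _ hv).2
    have h1 := hfix _ ⟨_, x.2, rfl⟩ (Pi.single i 1) w
    simp only [hc, Matrix.smul_mulVec, Matrix.one_mulVec] at h1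
    rw [hf.bilinear.smul_left, hf.bilinear.smul_right] at h1
    have h2 : ((c : F) * c - 1) * f (Pi.single i 1) w = 0 := by linear_combination h1
    have h3 : ((c : F) - 1) * (c + 1) = 0 := by linear_combination (mul_eq_zero.1 h2).resolve_right hw
    rcases mul_eq_zero.1 h3 with h | h
    · left
      show ((x : GL ι F) : Matrix ι ι F) = 1
      rw [hc, sub_eq_zero.1 h, one_smul]
    · right
      show ((x : GL ι F) : Matrix ι ι F) = -1
      rw [hc, eq_neg_of_add_eq_zero_left h, neg_smul, one_smul]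
  have mt_inj : ∀ {x y : P}, mt x = mt y → x = y := fun h => Subtype.ext (Units.ext h)
  let π : P →* alternatingGroup (Fin 7) := e.toMonoidHom.comp (toSoc P)
  have hker : ∀ x, π x = 1 → x ∈ (scalars ι F).subgroupOf P := by
    intro x hx
    rw [← ker_comp e]
    exact hx
  have hk : ∀ k, π k = 1 → (∀ g, k * g = g * k) ∧ k * k = 1 := by
    intro k hk
    have h1 := hker k hk
    refine ⟨fun g => ((Subgroup.mem_center_iff.1 (scalars_le_center h1)) g).symm, ?_⟩
    apply mt_inj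
    rw [mt_mul, mt_one]
    rcases hpm k h1 with h | h
    · rw [h, one_mul]
    · rw [h, neg_mul_neg, one_mul]
  obtain ⟨g, z, H⟩ := good_of_cover π (e.surjective.comp (toSoc_surjective P)) hk hC.commutator_top
  refine ⟨π, g, z, H, ?_⟩
  rcases hpm z (hker z H.pi_z) with h | h
  · exfalso
    apply hZ
    have hz1 : z = 1 := mt_inj (h.trans mt_one.symm)
    rw [Subgroup.eq_bot_iff_forall]
    intro x hx
    have h2 : π x = 1 := by
      have h3 : x ∈ (e.toMonoidHom.comp (toSoc P)).ker := by rw [ker_comp e]; exact hx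
      exact h3
    rcases H.ker x h2 with h3 | h3
    · exact h3
    · rw [h3, hz1]
  · exact h

/-- **The double cover of `A₇` in dimension six.** -/
theorem a7_double [Fintype F] (p : ℕ) [hp : Fact p.Prime] [CharP F p] (hC : Core P) (h2 : p ≠ 2) (hA : FixA P)
    (hn : Fintype.card ι = 6) (hZ : (scalars ι F).subgroupOf P ≠ ⊥) (e : Soc P ≃* alternatingGroup (Fin 7)) :
    p = 3 ∧ Fintype.card F = 9 := by
  obtain ⟨π, g, z, H, hz⟩ := exists_good' hC hA hZ e
  have h20 : (2 : F) ≠ 0 := by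
    intro h
    apply h2
    have h1 : ((2 : ℕ) : F) = 0 := by exact_mod_cast h
    exact ((Nat.prime_dvd_prime_iff_eq hp.out Nat.prime_two).1 ((CharP.cast_eq_zero_iff F p 2).1 h1))
  have hp3 : p = 3 := by
    by_contra hp3
    have h30 : (3 : F) ≠ 0 := by
      intro h
      apply hp3
      have h1 : ((3 : ℕ) : F) = 0 := by exact_mod_cast h
      exact ((Nat.prime_dvd_prime_iff_eq hp.out Nat.prime_three).1 ((CharP.cast_eq_zero_iff F p 3).1 h1))
    exact not_big h20 h30 hn H hz hA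
  refine ⟨hp3, ?_⟩
  subst hp3
  have h1 := hC.card_le 3 two_ne_zero (fr_nine H)
  obtain ⟨k, -, hk⟩ := FiniteField.card F 3
  have hk3 : (k : ℕ) = 1 ∨ (k : ℕ) = 2 := by
    have hk2 : (k : ℕ) ≤ 2 := by
      by_contra h3
      push Not at h3
      have := Nat.pow_lt_pow_right (a := 3) (by norm_num) h3
      omega
    have := k.pos
    omega
  rcases hk3 with h | h
  · exfalso
    rw [h, pow_one] at hk
    have h30 : (3 : F) = 0 := by exact_mod_cast CharP.cast_eq_zero F 3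
    exact not_three h20 h30 (fun x => by rw [← hk, FiniteField.pow_card]) hn H hz
  · rw [h] at hk
    exact hk

end main

end Cfsg.Agent.H793.TD
end

-- part: H914/SixCross
section
/-!
# The cross characteristic rows of `Sp₆` (helper914)
-/

set_option autoImplicit false
set_option linter.unusedSectionVars false
set_option maxHeartbeats 400000

namespace Cfsg.Agent.H914.S6

open Matrix Cfsg Cfsg.Geo Cfsg.Agent.H915.LD
open scoped MatrixGroups

universe u v w

section cross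

variable {F : Type u} [Field F] [Fintype F] {H P : Subgroup (GL (Fin 3 ⊕ Fin 3) F)}

theorem two_ne (p : ℕ) [hp : Fact p.Prime] [CharP F p] (h2 : p ≠ 2) : (2 : F) ≠ 0 := by
  intro h
  have h1 : ((2 : ℕ) : F) = 0 := by exact_mod_cast h
  exact h2 ((Nat.prime_dvd_prime_iff_eq hp.out Nat.prime_two).1 ((CharP.cast_eq_zero_iff F p 2).1 h1))

theorem three_ne (p : ℕ) [hp : Fact p.Prime] [CharP F p] (h2 : p ≠ 3) : (3 : F) ≠ 0 := by
  intro h
  have h1 : ((3 : ℕ) : F) = 0 := by exact_mod_cast h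
  exact h2 ((Nat.prime_dvd_prime_iff_eq hp.out Nat.prime_three).1 ((CharP.cast_eq_zero_iff F p 3).1 h1))

/-- no row `A₆` -/
theorem kill_a6 (S : Hyp 3 H P) (p : ℕ) [hp : Fact p.Prime] [CharP F p]
    (h : Nonempty (Soc P ≃* alternatingGroup (Fin 6))) : False := by
  have h6 : Fintype.card (Fin 3 ⊕ Fin 3) = 6 := rfl
  obtain ⟨e⟩ := h
  by_cases hp3 : p = 3
  · subst hp3
    obtain ⟨K, _, _, hK, _, ⟨f⟩⟩ := H937.T2.exists_nine e
    have := (H875.PslRows.sp_six 3 S.max S.core f).2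
    omega
  · have := H937.T2.a6_dims p S.toCore e (not_three_dvd S) hp3
    rw [h6] at this
    simp at this

/-- the row `A₇` -/
theorem row_a7 (S : Hyp 3 H P) (p : ℕ) [hp : Fact p.Prime] [CharP F p]
    (h7 : p = 2 → ∀ (_ : Soc P ≃* alternatingGroup (Fin 7)), FixQ P)
    (h : Nonempty (Soc P ≃* alternatingGroup (Fin 7))) : Fintype.card F = 9 := by
  have h6 : Fintype.card (Fin 3 ⊕ Fin 3) = 6 := rfl
  obtain ⟨e⟩ := h
  by_cases hp2 : p = 2
  · exact (S.noQ (h7 hp2 e)).elim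
  · by_cases hZ : (scalars (Fin 3 ⊕ Fin 3) F).subgroupOf P = ⊥
    · exact (H936.SixA7.a7_simple S.toCore (two_ne p hp2) (fixA_hyp S) h6 hZ e).elim
    · exact (H793.TD.a7_double p S.toCore hp2 (fixA_hyp S) h6 hZ e).2

open H936.List12 H912.Bd in
/-- **The cross characteristic rows.** -/
theorem Row6.cross (S : Hyp 3 H P) (p : ℕ) [hp : Fact p.Prime] [CharP F p] (hL : ¬ IsLieTypeChar p (Soc P))
    (h7 : p = 2 → ∀ (_ : Soc P ≃* alternatingGroup (Fin 7)), FixQ P)
    (hJ : p ≠ 2 → Spor.IsoJ2 (Soc P) → ((Fintype.card F = p ∧ (p % 5 = 0 ∨ p % 5 = 1 ∨ p % 5 = 4)) ∨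
      (Fintype.card F = p ^ 2 ∧ (p % 5 = 2 ∨ p % 5 = 3))))
    (hc : CandD p (Fintype.card (Fin 3 ⊕ Fin 3)) (Soc P)) : Row6 p F (Soc P) := by
  have h6 : Fintype.card (Fin 3 ⊕ Fin 3) = 6 := rfl
  rw [h6] at hc
  have hpp := hp.out
  unfold CandD at hc
  rcases hc with h | h | h | ⟨-, h, -⟩ | h
  · -- alternating groups
    obtain ⟨m, h1, h2, h3, h4, h5, h⟩ := h
    by_cases hm : m = 5
    · subst hm
      exact Row6.a5 S p h
    by_cases hm : m = 6
    · subst hm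
      exact (kill_a6 S p h).elim
    by_cases hm : m = 7
    · subst hm
      exact Or.inr (Or.inr (Or.inr (Or.inl ⟨h, row_a7 S p h7 h⟩)))
    have hm8 : 8 ≤ m := by omega
    by_cases h82 : m = 8 ∧ p = 2
    · obtain ⟨rfl, rfl⟩ := h82
      exfalso
      apply hL
      have hz : Fact (Nat.Prime 2) := ⟨Nat.prime_two⟩
      obtain ⟨f⟩ := S0256.result (F := ZMod 2) (ZMod.card 2)
      obtain ⟨e⟩ := h
      exact lie_of_isL Nat.prime_two (q := 2) (m := 4) (dvd_refl 2) (by norm_num) (by norm_num)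
        ⟨ZMod 2, inferInstance, inferInstance, ZMod.card 2, ⟨e.trans f.symm⟩⟩
    · exact (kill_alt S p hm8 h82 h).elim
  · -- classical groups
    unfold LieC at h
    rcases h with ⟨q, h1, h2, h3, K, _, _, hK, h⟩ | ⟨-, h, -⟩ | ⟨h1, -, K, _, _, hK, h⟩ | ⟨-, h, -⟩ |
      ⟨h1, h2, -, K, _, _, hK, h⟩ | ⟨-, h, -⟩ | ⟨-, h, -⟩ | ⟨-, h, -⟩ | ⟨-, h, -⟩
    · simp only [Finset.mem_insert, Finset.mem_singleton] at h1
      rcases h1 with rfl | rfl | rfl | rfl | rfl | rfl | rfl | rfl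
      · exact Row6.l27 S p (by rintro rfl; exact h2 (dvd_refl _)) hK h
      · norm_num at h3
      · exact (row_l211 S p (by rintro rfl; exact h2 (dvd_refl _)) hK h).elim
      · exact Row6.l213 S p (by rintro rfl; exact h2 (dvd_refl _)) hK h
      · norm_num at h3
      · norm_num at h3
      · norm_num at h3
      · norm_num at h3
    · omega
    · exact Row6.u33 S p h1 (by rw [hK]; norm_num) h
    · omega
    · refine (kill_u42 S p ?_ (by rw [hK]; norm_num) h).elim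
      have := hpp.two_le
      have : p ≠ 4 := by rintro rfl; revert hpp; decide
      omega
    · omega
    · omega
    · omega
    · omega
  · -- exceptional multipliers
    unfold MultD at h
    rcases h with ⟨h1, -, h⟩ | ⟨h1, -, K, _, _, hK, h⟩
    · have h20 : (2 : F) ≠ 0 := two_ne p h1
      rcases h with h | ⟨K, _, _, hK, h⟩ | ⟨h3, K, _, _, hK, h⟩ | ⟨K, _, _, hK, h⟩ | ⟨K, _, _, hK, h⟩ |
        ⟨K, _, _, hK, h⟩
      · have h7 : p ≠ 7 := by
          rintro rfl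
          exact hL (lie_of_isL hpp (dvd_refl 7) le_rfl (by norm_num) h)
        obtain ⟨K, _, _, hK, h⟩ := h
        exact Row6.l27 S p h7 hK h
      · exact (kill_l34 S h20 hK h).elim
      · refine (kill_u42 S p ?_ (by rw [hK]; norm_num) h).elim
        have := hpp.two_le
        have : p ≠ 4 := by rintro rfl; revert hpp; decide
        omega
      · exact (kill_s62 S p h20 hK h).elim
      · exact (kill_o82 S p h20 hK h).elim
      · exact (kill_g24 S h20 hK h).elim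
    · exact (kill_u43 S (three_ne p h1) (by rw [hK]; norm_num) h).elim
  · omega
  · -- sporadic groups
    unfold SporC at h
    rcases h with h | h | h | h | h | h | h | h | h
    · exact (kill_m11 S h).elim
    · exact (kill_m12 S h).elim
    · exact (kill_m22 S h).elim
    · exact (kill_m23 S h).elim
    · exact (kill_m24 S h).elim
    · by_cases h11 : p = 11
      · exact (kill_j1_odd S (two_ne p (by omega)) h).elim
      · exact (kill_j1 S p h11 h).elim
    · have hp2 : p ≠ 2 := by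
        rintro rfl
        exact Spin.J.jtwo_two S (by exact_mod_cast CharP.cast_eq_zero F 2) h
      refine Or.inr (Or.inr (Or.inr (Or.inr (Or.inr (Or.inl ⟨h, ?_⟩)))))
      rcases hJ hp2 h with h' | h'
      · exact Or.inl h'
      · exact Or.inr ⟨h'.1, hp2, h'.2⟩
    · exact (kill_j3 S p h).elim
    · exact (kill_suz S p h).elim

end cross

end Cfsg.Agent.H914.S6
end

private theorem dce_916d0645d0d1 : _root_.True := by
  try have : _root_.True := by simp only [_root_.Cfsg.Agent.H914.S6.sn.eq_1]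
  exact _root_.True.intro
end
end
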