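import Cfsg.Agent.H914.SpExc
import Cfsg.Agent.H912.TensForm4
set_option linter.all false

/-!
# Small exclusions for maximal subgroups of symplectic groups, II (helper914)

Over the field with three elements, the stabiliser of a tensor decomposition with second factor a three-dimensional
orthogonal space stabilises a decomposition into three pairwise orthogonal subspaces.
-/

set_option autoImplicit false
set_option linter.unusedSectionVars false

namespace Cfsg.Agent.H914

open Cfsg Cfsg.Geo
open Cfsg.Agent.H919 (HermForm)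
open Cfsg.Agent.H912 (tens pt form_pt isometry_factors mem_tensorProductSubgroup_iff)
open scoped MatrixGroups Matrix

variable {ι : Type} [Fintype ι] [DecidableEq ι] {F : Type*} [Field F]

theorem card_three_cases [Fintype F] (h : Fintype.card F = 3) (a : F) : a = 0 ∨ a = 1 ∨ a = -1 := by
  classical
  have h3 : (3 : F) = 0 := by
    have := FiniteField.cast_card_eq_zero F
    rw [h] at this
    exact_mod_cast this
  have hne : (-1 : F) ≠ 1 := by
    intro h1
    have h2 : (2 : F) = 0 := by linear_combination -h1
    have : (1 : F) = 0 := by linear_combination h3 - h2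
    exact one_ne_zero this
  by_contra hcon
  push Not at hcon
  have hcard : ({0, 1, -1, a} : Finset F).card = 4 := by
    rw [Finset.card_insert_of_notMem, Finset.card_insert_of_notMem, Finset.card_insert_of_notMem,
      Finset.card_singleton]
    · simp; exact fun h => hcon.2.2 h.symm
    · simp; exact ⟨hne.symm, fun h => hcon.2.1 h.symm⟩
    · simp; exact fun h => hcon.1 h.symm
  have := Finset.card_le_univ ({0, 1, -1, a} : Finset F)
  omega

theorem three_eq_zero_of_card_three [Fintype F] (h : Fintype.card F = 3) : (3 : F) = 0 := by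
  have := FiniteField.cast_card_eq_zero F
  rw [h] at this
  exact_mod_cast this

section frame

variable {κι : Type} [Fintype κι] [DecidableEq κι]

/-- Three pairwise orthogonal vectors, two of which have the same non-zero norm, over the field with three elements:
there is an orthogonal triple with equal non-zero norms. -/
theorem orth_triple_aux [Fintype F] (hF : Fintype.card F = 3) {f : (κι → F) → (κι → F) → F}
    (hb : IsBilinearForm f) (hsym : ∀ u v, f u v = f v u) {u v w : κι → F} (huv : f u v = 0) (huw : f u w = 0)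
    (hvw : f v w = 0) (huu : f u u ≠ 0) (hvv : f v v = f u u) (hww : f w w ≠ 0) :
    ∃ (W : Fin 3 → (κι → F)) (κ : F), κ ≠ 0 ∧ ∀ i j, f (W i) (W j) = if i = j then κ else 0 := by
  have h3 := three_eq_zero_of_card_three hF
  have hvu : f v u = 0 := by rw [hsym, huv]
  have hwu : f w u = 0 := by rw [hsym, huw]
  have hwv : f w v = 0 := by rw [hsym, hvw]
  by_cases h : f w w = f u u
  · refine ⟨![u, v, w], f u u, huu, ?_⟩
    intro i j
    fin_cases i <;> fin_cases j <;> simp [huv, huw, hvw, hvu, hwu, hwv, hvv, h]
  · have hneg : f w w = - f u u := by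
      rcases card_three_cases hF (f u u) with h1 | h1 | h1 <;>
      rcases card_three_cases hF (f w w) with h2 | h2 | h2
      · exact absurd h1 huu
      · exact absurd h1 huu
      · exact absurd h1 huu
      · exact absurd h2 hww
      · exact absurd (h2.trans h1.symm) h
      · rw [h1, h2]
      · exact absurd h2 hww
      · rw [h1, h2, neg_neg]
      · exact absurd (h2.trans h1.symm) h
    have hsm : ∀ x y : κι → F, f x (-y) = - f x y := fun x y => by
      simpa using hb.smul_right (-1) x y
    have hsm' : ∀ x y : κι → F, f (-x) y = - f x y := fun x y => by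
      simpa using hb.smul_left (-1) x y
    refine ⟨![u + v, u + -v, w], f w w, hww, ?_⟩
    intro i j
    fin_cases i <;> fin_cases j <;>
      simp [hb.add_left, hb.add_right, hsm, hsm', huv, huw, hvw, hvu, hwu, hwv, hvv, hneg]
    · linear_combination (f u u) * h3
    · linear_combination (f u u) * h3

/-- A non-degenerate symmetric bilinear form in dimension three over the field with three elements has an orthogonal
basis of vectors with equal norms. -/
theorem exists_orth_triple [Fintype F] (hF : Fintype.card F = 3) (hκ : Fintype.card κι = 3)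
    {f : (κι → F) → (κι → F) → F} (hf : IsSymmetricForm f) :
    ∃ (W : Fin 3 → (κι → F)) (κ : F), κ ≠ 0 ∧ ∀ i j, f (W i) (W j) = if i = j then κ else 0 := by
  have h3 := three_eq_zero_of_card_three hF
  have h2 : (2 : F) ≠ 0 := by
    intro h
    have : (1 : F) = 0 := by linear_combination h3 - h
    exact one_ne_zero this
  let b : LinearMap.BilinForm F (κι → F) := LinearMap.mk₂ F f hf.bilinear.add_left
    (fun c x v => by rw [hf.bilinear.smul_left, smul_eq_mul]) hf.bilinear.add_right
    (fun c v x => by rw [hf.bilinear.smul_right, smul_eq_mul])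
  have hbf : ∀ u v, b u v = f u v := fun u v => rfl
  have hsymm : LinearMap.IsSymm b := ⟨fun u v => hf.symm u v⟩
  have : Invertible (2 : F) := invertibleOfNonzero h2
  obtain ⟨v, hv⟩ := LinearMap.BilinForm.exists_orthogonal_basis hsymm
  have hfin : Module.finrank F (κι → F) = 3 := by rw [Module.finrank_fintype_fun_eq_card, hκ]
  let e : Fin (Module.finrank F (κι → F)) ≃ Fin 3 := finCongr hfin
  let w : Module.Basis (Fin 3) F (κι → F) := v.reindex e
  have hw : ∀ i j, i ≠ j → f (w i) (w j) = 0 := by
    intro i j hij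
    have : e.symm i ≠ e.symm j := fun h => hij (e.symm.injective h)
    have h1 := hv this
    simp only [w, Module.Basis.reindex_apply]
    exact h1
  have hwn : ∀ i, f (w i) (w i) ≠ 0 := by
    intro i h0
    have hne : w i ≠ 0 := w.ne_zero i
    obtain ⟨⟨x, hx⟩, -⟩ := hf.nondegenerate _ hne
    apply hx
    rw [← w.sum_repr x, (IsSesq.of_bilinear hf.bilinear).sum_left]
    refine Finset.sum_eq_zero fun j _ => ?_
    rw [hf.bilinear.smul_left]
    by_cases hji : j = i
    · subst hji; rw [h0, mul_zero]
    · rw [hw j i hji, mul_zero]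
  by_cases h01 : f (w 1) (w 1) = f (w 0) (w 0)
  · exact orth_triple_aux hF hf.bilinear hf.symm (hw 0 1 (by decide)) (hw 0 2 (by decide)) (hw 1 2 (by decide))
      (hwn 0) h01 (hwn 2)
  by_cases h02 : f (w 2) (w 2) = f (w 0) (w 0)
  · exact orth_triple_aux hF hf.bilinear hf.symm (hw 0 2 (by decide)) (hw 0 1 (by decide)) (hw 2 1 (by decide))
      (hwn 0) h02 (hwn 1)
  · have h12 : f (w 2) (w 2) = f (w 1) (w 1) := by
      have n0 := hwn 0
      have n1 := hwn 1
      have n2 := hwn 2
      rcases card_three_cases hF (f (w 0) (w 0)) with h | h | h <;>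
      rcases card_three_cases hF (f (w 1) (w 1)) with h' | h' | h' <;>
      rcases card_three_cases hF (f (w 2) (w 2)) with h'' | h'' | h'' <;>
      simp_all
    exact orth_triple_aux hF hf.bilinear hf.symm (hw 1 2 (by decide)) (hw 1 0 (by decide)) (hw 2 0 (by decide))
      (hwn 1) h12 (hwn 0)

end frame

/-- Pairwise orthogonal non-degenerate subspaces are independent. -/
theorem iSupIndep_of_orthogonal {f : (ι → F) → (ι → F) → F} (hb : IsBilinearForm f) {t : ℕ}
    {D : Fin t → Submodule F (ι → F)} (hn : ∀ i, IsNondegenerateOn f (D i))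
    (ho : ∀ i j, i ≠ j → AreOrthogonalFor f (D i) (D j)) : iSupIndep D := by
  intro i
  rw [Submodule.disjoint_def]
  intro x hx hx'
  by_contra hx0
  obtain ⟨-, y, hy, hxy⟩ := hn i x hx hx0
  apply hxy
  let K : Submodule F (ι → F) :=
    { carrier := {z | f z y = 0}
      add_mem' := fun {a b} ha hb' => by
        change f (a + b) y = 0
        rw [hb.add_left, show f a y = 0 from ha, show f b y = 0 from hb', add_zero]
      zero_mem' := by
        change f 0 y = 0
        simpa using hb.smul_left 0 0 y
      smul_mem' := fun c z hz => by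
        change f (c • z) y = 0
        rw [hb.smul_left, show f z y = 0 from hz, mul_zero] }
  have hle : (⨆ j, ⨆ (_ : j ≠ i), D j) ≤ K := by
    refine iSup_le fun j => iSup_le fun hj => ?_
    intro z hz
    exact ho j i hj z hz y hy
  exact hle hx'

/-- Pairwise orthogonal non-degenerate subspaces of dimension `m`, `t * m = dim`, form a decomposition. -/
theorem isNondegenerateMDecomposition_of_orthogonal {f : (ι → F) → (ι → F) → F} (hb : IsBilinearForm f) {t m : ℕ}
    (ht : 2 ≤ t) (hm : 0 < m) {D : Fin t → Submodule F (ι → F)} (hfin : ∀ i, Module.finrank F (D i) = m)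
    (htm : t * m = Fintype.card ι) (hn : ∀ i, IsNondegenerateOn f (D i))
    (ho : ∀ i j, i ≠ j → AreOrthogonalFor f (D i) (D j)) : IsNondegenerateMDecomposition f m D := by
  have hind := iSupIndep_of_orthogonal hb hn ho
  refine ⟨⟨ht, hm, hfin, hind, ?_⟩, hn, ho⟩
  apply Submodule.eq_top_of_finrank_eq
  rw [Module.finrank_fintype_fun_eq_card]
  apply le_antisymm
  · calc Module.finrank F (iSup D : Submodule F (ι → F)) ≤ Module.finrank F (ι → F) := Submodule.finrank_le _
      _ = Fintype.card ι := Module.finrank_fintype_fun_eq_card F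
  · have hinj := hind.dfinsupp_lsum_injective
    let L : (Π₀ i, D i) →ₗ[F] (ι → F) := DFinsupp.lsum ℕ fun i => (D i).subtype
    have hL : ∀ x, L x ∈ (iSup D : Submodule F (ι → F)) := by
      intro x
      rw [Submodule.iSup_eq_range_dfinsupp_lsum D]
      exact ⟨x, rfl⟩
    have h1 : Module.finrank F (Π₀ i, D i) ≤ Module.finrank F (iSup D : Submodule F (ι → F)) :=
      LinearMap.finrank_le_finrank_of_injective (f := L.codRestrict _ hL) (by
        intro x y hxy
        apply hinj
        exact congrArg Subtype.val hxy)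
    have h2 : Module.finrank F (Π₀ i, D i) = Fintype.card ι := by
      rw [LinearEquiv.finrank_eq (DFinsupp.linearEquivFunOnFintype (M := fun i => D i) (R := F)),
        Module.finrank_pi_fintype]
      simp [hfin, htm]
    omega

section tensor

open scoped Kronecker

/-- The pure tensor `v ⊗ w` of a tensor decomposition, linear in `v`. -/
noncomputable def pureL {n₁ n₂ : ℕ} (e : ι ≃ Fin n₁ × Fin n₂) (P : GL ι F) (w : Fin n₂ → F) :
    (Fin n₁ → F) →ₗ[F] (ι → F) where
  toFun v := (P : Matrix ι ι F) *ᵥ (pt v w ∘ e)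
  map_add' v v' := by
    rw [← Matrix.mulVec_add, H912.pt_add_left]
    rfl
  map_smul' c v := by
    rw [← Matrix.mulVec_smul, H912.pt_smul_left]
    rfl

theorem pureL_apply {n₁ n₂ : ℕ} (e : ι ≃ Fin n₁ × Fin n₂) (P : GL ι F) (w : Fin n₂ → F) (v : Fin n₁ → F) :
    pureL e P w v = (P : Matrix ι ι F) *ᵥ (pt v w ∘ e) := rfl

theorem pureL_smul {n₁ n₂ : ℕ} (e : ι ≃ Fin n₁ × Fin n₂) (P : GL ι F) (w : Fin n₂ → F) (v : Fin n₁ → F) (c : F) :
    pureL e P (c • w) v = c • pureL e P w v := by
  rw [pureL_apply, pureL_apply, ← Matrix.mulVec_smul]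
  congr 1
  funext i
  simp [pt]
  ring

theorem tens_pureL {n₁ n₂ : ℕ} (e : ι ≃ Fin n₁ × Fin n₂) (P : GL ι F) (w : Fin n₂ → F) (v : Fin n₁ → F)
    (a : Matrix (Fin n₁) (Fin n₁) F) (b : Matrix (Fin n₂) (Fin n₂) F) :
    tens e P a b *ᵥ pureL e P w v = pureL e P (b *ᵥ w) (a *ᵥ v) := by
  rw [pureL_apply, pureL_apply, H912.tens_mulVec, H912.kronecker_mulVec_pt]

theorem pureL_injective {n₁ n₂ : ℕ} (e : ι ≃ Fin n₁ × Fin n₂) (P : GL ι F) {w : Fin n₂ → F} (hw : w ≠ 0) :
    Function.Injective (pureL e P w) := by
  rw [← LinearMap.ker_eq_bot, LinearMap.ker_eq_bot']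
  intro v hv
  have h1 : (pt v w ∘ e : ι → F) = 0 := by
    have := congrArg (fun u => ((P⁻¹ : GL ι F) : Matrix ι ι F) *ᵥ u) hv
    simpa [pureL_apply, Matrix.mulVec_mulVec, ← Units.val_mul] using this
  obtain ⟨j, hj⟩ : ∃ j, w j ≠ 0 := by
    by_contra hcon
    push Not at hcon
    exact hw (funext hcon)
  funext i
  have h2 := congrFun h1 (e.symm (i, j))
  simp only [Function.comp_apply, Equiv.apply_symm_apply, pt, Pi.zero_apply, mul_eq_zero] at h2
  exact h2.resolve_right hj

/-- A vector of norm one in the standard three-dimensional space over the field with three elements has one non-zero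
coordinate. -/
theorem eq_of_sum_sq [Fintype F] (hF : Fintype.card F = 3) (c : Fin 3 → F) (hc : ∑ i, c i * c i = 1) :
    ∃ i, c i ≠ 0 ∧ ∀ k, k ≠ i → c k = 0 := by
  have h3 := three_eq_zero_of_card_three hF
  have h10 : (1 : F) ≠ 0 := one_ne_zero
  have h2 : (2 : F) ≠ 1 := by
    intro h
    apply h10
    linear_combination h
  have h30 : (3 : F) ≠ 1 := by
    rw [h3]; exact h10.symm
  rw [Fin.sum_univ_three] at hc
  have hsq : ∀ i, c i = 0 ∨ c i * c i = 1 := by
    intro i
    rcases card_three_cases hF (c i) with h | h | h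
    · exact Or.inl h
    · right; rw [h, one_mul]
    · right; rw [h]; ring
  rcases hsq 0 with h0 | h0 <;> rcases hsq 1 with h1 | h1 <;> rcases hsq 2 with h2' | h2'
  · rw [h0, h1, h2'] at hc
    simp at hc
  · refine ⟨2, fun h => ?_, fun k hk => ?_⟩
    · rw [h] at h2'; simp at h2'
    · fin_cases k
      · exact h0
      · exact h1
      · exact absurd rfl hk
  · refine ⟨1, fun h => ?_, fun k hk => ?_⟩
    · rw [h] at h1; simp at h1
    · fin_cases k
      · exact h0
      · exact absurd rfl hk
      · exact h2'
  · rw [h0, h1, h2'] at hc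
    exfalso; apply h2; linear_combination hc
  · refine ⟨0, fun h => ?_, fun k hk => ?_⟩
    · rw [h] at h0; simp at h0
    · fin_cases k
      · exact absurd rfl hk
      · exact h1
      · exact h2'
  · rw [h0, h1, h2'] at hc
    exfalso; apply h2; linear_combination hc
  · rw [h0, h1, h2'] at hc
    exfalso; apply h2; linear_combination hc
  · rw [h0, h1, h2'] at hc
    exfalso; apply h30; linear_combination hc

/-- A similarity of a non-degenerate symmetric form in dimension three over the field with three elements is an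
isometry. -/
theorem multiplier_eq_one [Fintype F] (hF : Fintype.card F = 3) {f : (Fin 3 → F) → (Fin 3 → F) → F}
    (hf : IsSymmetricForm f) {b : Matrix (Fin 3) (Fin 3) F} {ν : F} (hν : ν ≠ 0)
    (h : ∀ u v, f (b *ᵥ u) (b *ᵥ v) = ν * f u v) : ν = 1 := by
  have hs := IsSesq.of_bilinear hf.bilinear
  have h1 : bᵀ * gramMatrix f * b.map (RingEquiv.refl F) = ν • gramMatrix f := by
    apply sesqOf_injective (σ := RingEquiv.refl F)
    intro u v
    rw [← sesqOf_mulVec, ← hs.eq_gram, h, hs.eq_gram]
    simp [sesqOf, Matrix.smul_mulVec, dotProduct_smul]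
  have h2 : b.map (RingEquiv.refl F) = b := by ext i j; rfl
  rw [h2] at h1
  have h3 := congrArg Matrix.det h1
  rw [Matrix.det_mul, Matrix.det_mul, Matrix.det_transpose, Matrix.det_smul, Fintype.card_fin] at h3
  have hd := det_gram_ne_zero hs hf.nondegenerate
  have h4 : b.det * b.det = ν ^ 3 := by
    apply mul_right_cancel₀ hd
    linear_combination h3
  rcases card_three_cases hF ν with h5 | h5 | h5
  · exact absurd h5 hν
  · exact h5
  · exfalso
    rw [h5] at h4
    have h3' := three_eq_zero_of_card_three hF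
    rcases card_three_cases hF b.det with h6 | h6 | h6
    · rw [h6] at h4
      have : (1 : F) = 0 := by linear_combination h4
      exact one_ne_zero this
    · rw [h6] at h4
      have : (1 : F) = 0 := by linear_combination h3' - h4
      exact one_ne_zero this
    · rw [h6] at h4
      have : (1 : F) = 0 := by linear_combination h3' - h4
      exact one_ne_zero this

/-- `(E2)` Over the field with three elements: the stabiliser of a tensor decomposition of `f` into a form in dimension
`n₁` and a symmetric form in dimension three stabilises a decomposition into three pairwise orthogonal non-degenerate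
subspaces of dimension `n₁`. -/
theorem frame_of_tensor_three [Fintype F] (hF : Fintype.card F = 3) {f : (ι → F) → (ι → F) → F}
    (hb : IsBilinearForm f) {n₁ : ℕ} (hn₁ : 0 < n₁) {ε₁ : F}
    {f₁ : (Fin n₁ → F) → (Fin n₁ → F) → F} {f₂ : (Fin 3 → F) → (Fin 3 → F) → F}
    (h1 : HermForm (RingEquiv.refl F) ε₁ f₁) (h2 : IsSymmetricForm f₂)
    {e : ι ≃ Fin n₁ × Fin 3} {P : GL ι F} (h : IsTensorFormStructure id f f₁ f₂ e P) :
    ∃ D : Fin 3 → Submodule F (ι → F), IsNondegenerateMDecomposition f n₁ D ∧
      ∀ g ∈ tensorProductSubgroup n₁ 3 e P,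
        (∀ u v, f ((g : Matrix ι ι F) *ᵥ u) ((g : Matrix ι ι F) *ᵥ v) = f u v) → g ∈ decompositionStabilizer D := by
  classical
  have h2' : HermForm (RingEquiv.refl F) 1 f₂ :=
    ⟨h2.bilinear.add_left, h2.bilinear.smul_left, fun a => rfl, by simp,
      fun x y => by rw [one_mul]; exact h2.symm x y, h2.nondegenerate⟩
  have h' : IsTensorFormStructure (RingEquiv.refl F) f f₁ f₂ e P := h
  obtain ⟨c, hc, hpt⟩ := form_pt h1 h2' h'
  have hpt' : ∀ v v' w w', f (pureL e P w v) (pureL e P w' v') = c * (f₁ v v' * f₂ w w') := fun v v' w w' => hpt v v' w w'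
  obtain ⟨W, κ, hκ, hW⟩ := exists_orth_triple hF (Fintype.card_fin 3) h2
  have hs2 := IsSesq.of_bilinear h2.bilinear
  have hW0 : ∀ j, W j ≠ 0 := by
    intro j h0
    have := hW j j
    rw [if_pos rfl, h0, hs2.zero_left] at this
    exact hκ this.symm
  -- the triple is a basis
  have hli : LinearIndependent F W := by
    rw [Fintype.linearIndependent_iff]
    intro a ha i
    have h3 : f₂ (∑ j, a j • W j) (W i) = a i * κ := by
      rw [hs2.sum_left, Finset.sum_eq_single i]
      · rw [h2.bilinear.smul_left, hW, if_pos rfl]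
      · intro j _ hj
        rw [h2.bilinear.smul_left, hW, if_neg hj, mul_zero]
      · intro hi; exact absurd (Finset.mem_univ i) hi
    rw [ha, hs2.zero_left] at h3
    exact (mul_eq_zero.mp h3.symm).resolve_right hκ
  let B : Module.Basis (Fin 3) F (Fin 3 → F) := basisOfLinearIndependentOfCardEqFinrank hli (by simp)
  have hB : ∀ j, B j = W j := fun j => by simp [B]
  let D : Fin 3 → Submodule F (ι → F) := fun j => LinearMap.range (pureL e P (W j))
  have hfin : ∀ j, Module.finrank F (D j) = n₁ := by
    intro j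
    rw [LinearMap.finrank_range_of_inj (pureL_injective e P (hW0 j))]
    simp
  have hcard : 3 * n₁ = Fintype.card ι := by
    have := Fintype.card_congr e
    rw [Fintype.card_prod, Fintype.card_fin, Fintype.card_fin] at this
    omega
  have hD : IsNondegenerateMDecomposition f n₁ D := by
    refine isNondegenerateMDecomposition_of_orthogonal hb (by omega) hn₁ hfin hcard ?_ ?_
    · rintro j _ ⟨v, rfl⟩ hv0
      have hv : v ≠ 0 := fun h0 => hv0 (by rw [h0, map_zero])
      obtain ⟨⟨x, hx⟩, ⟨y, hy⟩⟩ := h1.nondegenerate v hv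
      refine ⟨⟨_, ⟨x, rfl⟩, ?_⟩, ⟨_, ⟨y, rfl⟩, ?_⟩⟩
      · rw [hpt', hW, if_pos rfl]
        exact mul_ne_zero hc (mul_ne_zero hx hκ)
      · rw [hpt', hW, if_pos rfl]
        exact mul_ne_zero hc (mul_ne_zero hy hκ)
    · rintro i j hij _ ⟨v, rfl⟩ _ ⟨v', rfl⟩
      rw [hpt', hW, if_neg hij, mul_zero, mul_zero]
  refine ⟨D, hD, ?_⟩
  intro g hg hgf
  obtain ⟨a, b, hab⟩ := mem_tensorProductSubgroup_iff.mp hg
  obtain ⟨μ, hμ, ha, hb'⟩ := isometry_factors hn₁ (by omega) h1 h2' h' (a := a) (b := b) (by
    rw [← hab]; exact hgf)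
  have hμ1 : μ⁻¹ = 1 := multiplier_eq_one hF h2 (inv_ne_zero hμ) hb'
  rw [hμ1] at hb'
  -- images of the members of the basis
  have himg : ∀ j, ∃ (i : Fin 3) (x : F), x ≠ 0 ∧ (b : Matrix (Fin 3) (Fin 3) F) *ᵥ W j = x • W i := by
    intro j
    let x : Fin 3 → F := fun i => B.repr ((b : Matrix (Fin 3) (Fin 3) F) *ᵥ W j) i
    have hx : (b : Matrix (Fin 3) (Fin 3) F) *ᵥ W j = ∑ i, x i • W i := by
      conv_lhs => rw [← B.sum_repr ((b : Matrix (Fin 3) (Fin 3) F) *ᵥ W j)]
      refine Finset.sum_congr rfl fun i _ => ?_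
      rw [hB]
    have h3 : f₂ (∑ i, x i • W i) (∑ i, x i • W i) = (∑ i, x i * x i) * κ := by
      rw [hs2.sum_left, Finset.sum_mul]
      refine Finset.sum_congr rfl fun i _ => ?_
      rw [h2.bilinear.smul_left, hs2.sum_right, Finset.sum_eq_single i]
      · rw [h2.bilinear.smul_right, hW, if_pos rfl]; ring
      · intro k _ hk
        rw [h2.bilinear.smul_right, hW, if_neg hk.symm, mul_zero]
      · intro hi; exact absurd (Finset.mem_univ i) hi
    rw [← hx, hb', hW, if_pos rfl] at h3
    have h4 : ∑ i, x i * x i = 1 := by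
      apply mul_right_cancel₀ hκ
      rw [← h3]
    obtain ⟨i, hi, hi'⟩ := eq_of_sum_sq hF x h4
    refine ⟨i, x i, hi, ?_⟩
    rw [hx, Finset.sum_eq_single i]
    · intro k _ hk
      rw [hi' k hk, zero_smul]
    · intro hi; exact absurd (Finset.mem_univ i) hi
  choose s x hx hs using himg
  have hmap : ∀ j, (D j).map (Matrix.toLin' (g : Matrix ι ι F)) = D (s j) := by
    intro j
    apply Submodule.eq_of_le_of_finrank_eq
    · rintro _ ⟨_, ⟨v, rfl⟩, rfl⟩
      rw [Matrix.toLin'_apply, hab, tens_pureL, hs, pureL_smul]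
      exact (D (s j)).smul_mem _ ⟨_, rfl⟩
    · have hinj : Function.Injective (Matrix.toLin' (g : Matrix ι ι F)) := by
        intro u v huv
        have := congrArg (fun w => ((g⁻¹ : GL ι F) : Matrix ι ι F) *ᵥ w) huv
        simpa [Matrix.mulVec_mulVec, ← Units.val_mul] using this
      rw [hfin]
      have := (Submodule.equivMapOfInjective _ hinj (D j)).finrank_eq
      rw [← this, hfin]
  have hsinj : Function.Injective s := by
    intro j k hjk
    by_contra hne
    have h3 := hmap j
    rw [hjk, ← hmap k] at h3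
    have hinj : Function.Injective (Matrix.toLin' (g : Matrix ι ι F)) := by
      intro u v huv
      have := congrArg (fun w => ((g⁻¹ : GL ι F) : Matrix ι ι F) *ᵥ w) huv
      simpa [Matrix.mulVec_mulVec, ← Units.val_mul] using this
    have h4 : D j = D k := Submodule.map_injective_of_injective hinj h3
    have h5 := hD.decomp.indep.pairwiseDisjoint hne
    rw [Function.onFun, h4, disjoint_self] at h5
    have h6 := hfin k
    rw [h5] at h6
    simp at h6
    omega
  exact ⟨Equiv.ofBijective s (Finite.injective_iff_bijective.mp hsinj), hmap⟩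

end tensor

end Cfsg.Agent.H914
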